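import Mathlib
import Cfsg.Agent.Lib.ThreeTrans.Basic

/-! Members fixed by a subgroup of prime order, and normalisers of such subgroups. -/

set_option autoImplicit false

namespace CfsgLib.ThreeTrans.Torsion

variable {G : Type*} [Group G]

/-- The members commuting with a subgroup. -/
def fixD (D : Set G) (X : Subgroup G) : Set G := D ∩ (Subgroup.centralizer (X : Set G) : Set G)

theorem mem_fixD {D : Set G} {X : Subgroup G} {a : G} : a ∈ fixD D X ↔ a ∈ D ∧ ∀ x ∈ X, Commute x a := by
  simp [fixD, Subgroup.mem_centralizer_iff, commute_iff_eq]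

theorem mem_map_conj {X : Subgroup G} {g x : G} :
    x ∈ X.map (MulAut.conj g).toMonoidHom ↔ g⁻¹ * x * g ∈ X := by
  constructor
  · rintro ⟨y, hy, rfl⟩
    have : g⁻¹ * ((MulAut.conj g).toMonoidHom y) * g = y := by simp [MulAut.conj_apply, mul_assoc]
    rwa [this]
  · intro h
    exact ⟨g⁻¹ * x * g, h, by simp [MulAut.conj_apply, mul_assoc]⟩

theorem map_conj_mul (X : Subgroup G) (g h : G) :
    X.map (MulAut.conj (g * h)).toMonoidHom =
      (X.map (MulAut.conj h).toMonoidHom).map (MulAut.conj g).toMonoidHom := by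
  ext x; simp only [mem_map_conj]; simp [mul_assoc]

theorem card_map_conj (X : Subgroup G) (g : G) :
    Nat.card (X.map (MulAut.conj g).toMonoidHom : Subgroup G) = Nat.card X :=
  Nat.card_congr (X.equivMapOfInjective _ (MulAut.conj g).injective).toEquiv.symm

theorem map_conj_eq_iff [Finite G] {X : Subgroup G} {g : G} :
    X.map (MulAut.conj g).toMonoidHom = X ↔ g ∈ Subgroup.normalizer (X : Set G) := by
  constructor
  · intro h
    refine Subgroup.mem_normalizer_fintype fun x hx => ?_
    have : g * x * g⁻¹ ∈ X.map (MulAut.conj g).toMonoidHom :=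
      ⟨x, hx, by simp [MulAut.conj_apply]⟩
    rwa [h] at this
  · intro h
    ext x
    rw [mem_map_conj]
    exact (Subgroup.mem_normalizer_iff''.1 h x).symm

theorem commute_conj_fix {g a b : G} (hag : g * a * g⁻¹ = b) {x : G} :
    Commute (g⁻¹ * x * g) a ↔ Commute x b := by
  rw [← hag, ← commute_conj_iff g (g⁻¹ * x * g) a]
  simp [mul_assoc]

variable [Finite G]

/-- Subgroups of prime order are conjugate when the square does not divide. -/
theorem conj_of_card {p : ℕ} [Fact p.Prime] (K : Subgroup G) (hp : ¬ p ^ 2 ∣ Nat.card K) {X Y : Subgroup G}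
    (hX : X ≤ K) (hY : Y ≤ K) (hcX : Nat.card X = p) (hcY : Nat.card Y = p) :
    ∃ g ∈ K, X.map (MulAut.conj g).toMonoidHom = Y := by
  classical
  have hdvd : p ∣ Nat.card K := hcX ▸ Subgroup.card_dvd_of_le hX
  have hfac : (Nat.card K).factorization p = 1 :=
    le_antisymm (Nat.lt_succ_iff.1 (lt_of_not_ge fun h =>
        hp (((Fact.out : p.Prime).pow_dvd_iff_le_factorization Nat.card_pos.ne').2 h)))
      (((Fact.out : p.Prime).dvd_iff_one_le_factorization Nat.card_pos.ne').1 hdvd)
  have hc : ∀ Z : Subgroup G, Z ≤ K → Nat.card Z = p → Nat.card (Z.subgroupOf K) = p ^ (Nat.card K).factorization p :=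
    fun Z hZ hcZ => by rw [hfac, pow_one, Nat.card_congr (Subgroup.subgroupOfEquivOfLe hZ).toEquiv, hcZ]
  obtain ⟨g, hg⟩ := MulAction.exists_smul_eq K (Sylow.ofCard _ (hc X hX hcX)) (Sylow.ofCard _ (hc Y hY hcY))
  refine ⟨g, g.2, ?_⟩
  have hg' : ((Sylow.ofCard _ (hc X hX hcX)).map (MulAut.conj g).toMonoidHom : Subgroup K) = Y.subgroupOf K :=
    congrArg (fun P : Sylow p K => (P : Subgroup K)) hg
  ext x
  rw [mem_map_conj]
  constructor
  · intro hx
    have hxK : x ∈ K := by
      have := K.mul_mem (K.mul_mem g.2 (hX hx)) (K.inv_mem g.2)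
      simpa [mul_assoc] using this
    have : (⟨x, hxK⟩ : K) ∈ Y.subgroupOf K := by
      rw [← hg', mem_map_conj]
      exact hx
    exact this
  · intro hx
    have : (⟨x, hY hx⟩ : K) ∈ Y.subgroupOf K := hx
    rw [← hg', mem_map_conj] at this
    exact this

/-- Transitivity of the normaliser on fixed members. -/
theorem exists_normalizer {X K : Subgroup G} {a b : G} (hXK : X ≤ K)
    (hconj : ∀ Y Y' : Subgroup G, Y ≤ K → Y' ≤ K → (∀ y ∈ Y, Commute y b) → (∀ y ∈ Y', Commute y b) →
      Nat.card Y = Nat.card X → Nat.card Y' = Nat.card X →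
      ∃ g ∈ K, Commute g b ∧ Y.map (MulAut.conj g).toMonoidHom = Y')
    (ha : ∀ x ∈ X, Commute x a) (hb : ∀ x ∈ X, Commute x b) {g : G} (hg : g ∈ K) (hgab : g * a * g⁻¹ = b) :
    ∃ n ∈ K, n ∈ Subgroup.normalizer (X : Set G) ∧ n * a * n⁻¹ = b := by
  obtain ⟨h, hh, hhb, e⟩ := hconj (X.map (MulAut.conj g).toMonoidHom) X (fun y hy => by
      have := K.mul_mem (K.mul_mem hg (hXK (mem_map_conj.1 hy))) (K.inv_mem hg)
      simpa [mul_assoc] using this) hXK
    (fun y hy => (commute_conj_fix hgab).1 (ha _ (mem_map_conj.1 hy))) hb (card_map_conj X g) rfl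
  refine ⟨h * g, K.mul_mem hh hg, map_conj_eq_iff.1 (by rw [map_conj_mul, e]), ?_⟩
  calc h * g * a * (h * g)⁻¹ = h * (g * a * g⁻¹) * h⁻¹ := by group
    _ = b := by rw [hgab, hhb.eq, mul_inv_cancel_right]

/-- The size of a set on which a subgroup acts transitively by conjugation. -/
theorem card_eq_orbit_mul (K : Subgroup G) {O : Set G} {a : G} (ha : a ∈ O)
    (hst : ∀ k ∈ K, k * a * k⁻¹ ∈ O) (htr : ∀ b ∈ O, ∃ k ∈ K, k * a * k⁻¹ = b) :
    Nat.card K = O.ncard * Nat.card (K ⊓ Subgroup.centralizer ({a} : Set G) : Subgroup G) := by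
  classical
  choose s hsK hs using htr
  let f : K → O := fun k => ⟨(k : G) * a * (k : G)⁻¹, hst k k.2⟩
  let e : K ≃ O × (K ⊓ Subgroup.centralizer ({a} : Set G) : Subgroup G) :=
    { toFun := fun k => (f k, ⟨(s _ (f k).2)⁻¹ * k, by
        refine ⟨K.mul_mem (K.inv_mem (hsK _ (f k).2)) k.2, Subgroup.mem_centralizer_singleton_iff.2 ?_⟩
        have h := hs _ (f k).2
        change _ = (k : G) * a * (k : G)⁻¹ at h
        calc (s _ (f k).2)⁻¹ * (k : G) * a
            = (s _ (f k).2)⁻¹ * ((k : G) * a * (k : G)⁻¹) * k := by simp [mul_assoc]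
          _ = (s _ (f k).2)⁻¹ * (s _ (f k).2 * a * (s _ (f k).2)⁻¹) * k := by rw [h]
          _ = a * ((s _ (f k).2)⁻¹ * k) := by simp [mul_assoc]⟩)
      invFun := fun q => ⟨s q.1.1 q.1.2 * q.2.1, K.mul_mem (hsK _ q.1.2) q.2.2.1⟩
      left_inv := fun k => Subtype.ext (mul_inv_cancel_left _ _)
      right_inv := fun q => by
        have hq : f ⟨s q.1.1 q.1.2 * q.2.1, K.mul_mem (hsK _ q.1.2) q.2.2.1⟩ = q.1 := Subtype.ext (by
          show s q.1.1 q.1.2 * (q.2.1 : G) * a * (s q.1.1 q.1.2 * (q.2.1 : G))⁻¹ = (q.1.1 : G)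
          refine Eq.trans ?_ (hs _ q.1.2)
          rw [mul_assoc (s q.1.1 q.1.2), Subgroup.mem_centralizer_singleton_iff.1 q.2.2.2]
          simp [mul_assoc])
        refine Prod.ext hq (Subtype.ext ?_)
        simp only [hq]
        exact inv_mul_cancel_left _ _ }
  rw [Nat.card_congr e, Nat.card_prod, Nat.card_coe_set_eq]

/-- Counting modulo the prime. -/
theorem ncard_modEq {p : ℕ} [Fact p.Prime] {X : Subgroup G} (hX : Nat.card X = p) {O : Set G}
    (hO : ∀ x ∈ X, ∀ a ∈ O, x * a * x⁻¹ ∈ O) : O.ncard ≡ {a ∈ O | ∀ x ∈ X, Commute x a}.ncard [MOD p] := by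
  classical
  letI : MulAction X O :=
    { smul := fun x a => ⟨(x : G) * a * (x : G)⁻¹, hO x x.2 a a.2⟩
      one_smul := fun a => Subtype.ext (by show ((1 : X) : G) * a * ((1 : X) : G)⁻¹ = a; simp)
      mul_smul := fun x y a => Subtype.ext (by
        show ((x * y : X) : G) * a * ((x * y : X) : G)⁻¹ = x * (y * (a : G) * (y : G)⁻¹) * (x : G)⁻¹
        simp [mul_assoc]) }
  have h := (IsPGroup.of_card (n := 1) (by rw [hX, pow_one]) : IsPGroup p X).card_modEq_card_fixedPoints O
  rw [Nat.card_coe_set_eq] at h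
  refine h.trans ?_
  show _ % p = _ % p
  congr 1
  rw [← Nat.card_coe_set_eq]
  refine Nat.card_congr
    { toFun := fun a => ⟨a.1.1, a.1.2, fun x hx => by
        have := congrArg Subtype.val (a.2 ⟨x, hx⟩)
        exact mul_inv_eq_iff_eq_mul.1 this⟩
      invFun := fun a => ⟨⟨a.1, a.2.1⟩, fun x => Subtype.ext (mul_inv_eq_iff_eq_mul.2 (a.2.2 x x.2).eq)⟩
      left_inv := fun a => rfl
      right_inv := fun a => rfl }

/-- The normaliser of a subgroup of prime order over its centraliser. -/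
theorem card_normalizer {p : ℕ} [Fact p.Prime] {X : Subgroup G} (K : Subgroup G) (hX : Nat.card X = p) :
    ∃ e, e ∣ p - 1 ∧ Nat.card (Subgroup.normalizer (X : Set G) ⊓ K : Subgroup G) =
      Nat.card (Subgroup.centralizer (X : Set G) ⊓ K : Subgroup G) * e := by
  classical
  set N := Subgroup.normalizer (X : Set G) ⊓ K
  let f : N →* MulAut X := (Subgroup.normalizerMonoidHom X).comp (Subgroup.inclusion inf_le_left)
  haveI : IsCyclic X := isCyclic_of_prime_card hX
  have hker : Nat.card f.ker = Nat.card (Subgroup.centralizer (X : Set G) ⊓ K : Subgroup G) := by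
    have : f.ker = (Subgroup.centralizer (X : Set G) ⊓ K).subgroupOf N := by
      rw [← MonoidHom.comap_ker, Subgroup.normalizerMonoidHom_ker]
      ext g
      simp only [Subgroup.mem_comap, Subgroup.mem_subgroupOf, Subgroup.mem_inf, Subgroup.coe_inclusion]
      exact ⟨fun h => ⟨h, g.2.2⟩, fun h => h.1⟩
    rw [this]
    exact Nat.card_congr (Subgroup.subgroupOfEquivOfLe (inf_le_inf_right K
      (Subgroup.centralizer_le_normalizer (X : Set G)))).toEquiv
  have hidx : f.ker.index ∣ p - 1 := by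
    rw [Subgroup.index_ker]
    refine dvd_trans (Subgroup.card_subgroup_dvd_card _) ?_
    rw [IsCyclic.card_mulAut, hX, Nat.totient_prime Fact.out]
  exact ⟨f.ker.index, hidx, by rw [← hker, Subgroup.card_mul_index]⟩

/-- The congruence for the number of subgroups of prime order in a subgroup where the square does not divide. -/
theorem card_normalizer_modEq {p : ℕ} [Fact p.Prime] {X K : Subgroup G} (hX : Nat.card X = p) (hXK : X ≤ K)
    (hp : ¬ p ^ 2 ∣ Nat.card K) :
    ∃ k, Nat.card K = k * Nat.card (Subgroup.normalizer (X : Set G) ⊓ K : Subgroup G) ∧ k % p = 1 := by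
  classical
  have hdvd : p ∣ Nat.card K := hX ▸ Subgroup.card_dvd_of_le hXK
  have hfac : (Nat.card K).factorization p = 1 :=
    le_antisymm (Nat.lt_succ_iff.1 (lt_of_not_ge fun h =>
        hp (((Fact.out : p.Prime).pow_dvd_iff_le_factorization Nat.card_pos.ne').2 h)))
      (((Fact.out : p.Prime).dvd_iff_one_le_factorization Nat.card_pos.ne').1 hdvd)
  let P : Sylow p K := Sylow.ofCard (X.subgroupOf K)
    (by rw [hfac, pow_one, Nat.card_congr (Subgroup.subgroupOfEquivOfLe hXK).toEquiv, hX])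
  refine ⟨Nat.card (Sylow p K), ?_, ?_⟩
  · rw [P.card_eq_index_normalizer]
    have : Nat.card (Subgroup.normalizer ((P : Subgroup K) : Set K)) =
        Nat.card (Subgroup.normalizer (X : Set G) ⊓ K : Subgroup G) := by
      show Nat.card (Subgroup.normalizer ((X.subgroupOf K : Subgroup K) : Set K)) = _
      rw [← Subgroup.subgroupOf_normalizer_eq hXK]
      exact Nat.card_congr
        { toFun := fun g => ⟨g.1.1, g.2, g.1.2⟩
          invFun := fun g => ⟨⟨g.1, g.2.2⟩, g.2.1⟩
          left_inv := fun g => rfl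
          right_inv := fun g => rfl }
    rw [← this]
    exact (Subgroup.index_mul_card _).symm
  · have h := card_sylow_modEq_one p K
    rwa [Nat.ModEq, Nat.one_mod_eq_one.2 (Fact.out : p.Prime).ne_one] at h

end CfsgLib.ThreeTrans.Torsion
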