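import Mathlib
import Cfsg.Agent.Lib.ThreeTrans.Tower.Orders
import Cfsg.Agent.Lib.ThreeTrans.Torsion.Basic

/-! The centraliser of a member as a double cover of the quotient at it. -/

set_option autoImplicit false

namespace CfsgLib.ThreeTrans.Torsion

open CfsgLib.ThreeTrans.Tower

variable {G Y : Type*} [Group G] [Group Y]

/-- The quotient of the centraliser of a member. -/
structure Quot (D : Set G) (a : G) (E : Set Y) where
  /-- the map -/
  Φ : ↥(Subgroup.centralizer ({a} : Set G)) →* Y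
  mem : a ∈ D
  inv : a * a = 1
  ne : a ≠ 1
  surj : Function.Surjective Φ
  ker : ∀ g, Φ g = 1 ↔ (g : G) = 1 ∨ (g : G) = a
  bij : Set.BijOn Φ {g | (g : G) ∈ Dd D a} E
  comm : ∀ x y : ↥(Subgroup.centralizer ({a} : Set G)), (x : G) ∈ Dd D a → (y : G) ∈ Dd D a →
    (Commute (Φ x) (Φ y) ↔ Commute (x : G) y)

/-- Quotients exist at every member. -/
theorem exists_quot [Finite G] {D : Set G} {E : Set Y} {N k l m v n' k' μ : ℕ} (S : Stage D E N k l m)
    (L : Local D v n' k' μ) {a : G} (ha : a ∈ D) : Nonempty (Quot D a E) := by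
  classical
  obtain ⟨π, M⟩ := S.base a ha
  have hs := S.threeSet
  have hdec : ∀ g : ↥(Subgroup.centralizer ({a} : Set G)), ∃ h : Hd D a, (g : G) = h ∨ (g : G) = a * h :=
    fun g => Model.Kc_decomp hs ha (L.stab a ha g (Subgroup.mem_centralizer_singleton_iff.1 g.2))
  choose r hr using hdec
  have hπ : ∀ h h' : Hd D a, ((h : G) = h' ∨ (h : G) = a * h') → π h = π h' := fun h h' e => by
    rw [← mul_inv_eq_one, ← map_inv, ← map_mul]
    refine (M.base.map_eq_one_iff' _).2 fun y hy => ?_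
    rcases e with e | e <;> simp only [Subgroup.coe_mul, Subgroup.coe_inv, e, mul_inv_cancel,
      mul_inv_cancel_right]
    exacts [Commute.one_left y, hy.2.2]
  have key : ∀ (g : ↥(Subgroup.centralizer ({a} : Set G))) (h : Hd D a),
      ((g : G) = h ∨ (g : G) = a * h) → π (r g) = π h := fun g h e => by
    rcases hr g with e' | e' <;> rcases e with e | e
    · exact hπ _ _ (Or.inl (e'.symm.trans e))
    · exact hπ _ _ (Or.inr (e'.symm.trans e))
    · exact (hπ h (r g) (Or.inr (e.symm.trans e'))).symm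
    · exact hπ _ _ (Or.inl (mul_left_cancel (e'.symm.trans e)))
  let Φ : ↥(Subgroup.centralizer ({a} : Set G)) →* Y := MonoidHom.mk' (fun g => π (r g)) fun g g' => by
    rw [← map_mul]
    refine key _ _ ?_
    have hc : a * (r g : G) = r g * a := (commute_of_mem_Hd (r g).2).eq.symm
    simp only [Subgroup.coe_mul]
    rcases hr g with e | e <;> rcases hr g' with e' | e' <;> rw [e, e']
    · exact Or.inl rfl
    · exact Or.inr (by rw [← mul_assoc, ← hc, mul_assoc])
    · exact Or.inr (mul_assoc _ _ _)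
    · refine Or.inl ?_
      rw [mul_assoc, ← mul_assoc (r g : G), ← hc]
      simp [mul_assoc, mul_self_mul hs ha]
  have hcomm : ∀ {x : G}, x ∈ Dd D a → x ∈ Subgroup.centralizer ({a} : Set G) := fun hx =>
    Subgroup.mem_centralizer_singleton_iff.2 hx.2.2.eq.symm
  have hphi : ∀ g : ↥(Subgroup.centralizer ({a} : Set G)), (g : G) ∈ Dd D a → Φ g = phi π (g : G) := fun g hg => by
    rw [phi_of_mem π (x := ⟨g, Subgroup.subset_closure hg⟩) hg]
    exact key g _ (Or.inl rfl)
  refine ⟨⟨Φ, ha, mul_self hs ha, ne_one hs ha, fun y => ?_, fun g => ⟨fun h => ?_, ?_⟩, ⟨?_, ?_, ?_⟩, ?_⟩⟩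
  · obtain ⟨h, rfl⟩ := M.base.surj y
    exact ⟨⟨h, Subgroup.mem_centralizer_singleton_iff.2 (commute_of_mem_Hd h.2).eq⟩, key _ h (Or.inl rfl)⟩
  · refine S.kernel ha (Subgroup.mem_centralizer_singleton_iff.1 g.2) fun y hy => ?_
    have h1 := (M.base.map_eq_one_iff' (r g)).1 h y hy
    rcases hr g with e | e <;> rw [e]
    exacts [h1, (hy.2.2).mul_left h1]
  · intro e
    show π (r g) = 1
    rw [key g 1 (by simpa using e), map_one]
  · intro g hg; rw [hphi g hg]; exact M.mem hg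
  · intro g hg g' hg' e
    rw [hphi g hg, hphi g' hg'] at e
    exact Subtype.ext (M.inj hg hg' e)
  · intro e he
    obtain ⟨x, hx, rfl⟩ := M.onto he
    exact ⟨⟨x, hcomm hx⟩, hx, hphi _ hx⟩
  · intro x y hx hy
    rw [hphi x hx, hphi y hy]
    exact M.comm hx hy

namespace Quot

variable {D : Set G} {a : G} {E : Set Y} (Q : Quot D a E)

/-- The image of a subgroup commuting with the member. -/
def down (X : Subgroup G) : Subgroup Y := (X.subgroupOf (Subgroup.centralizer ({a} : Set G))).map Q.Φ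

variable {X : Subgroup G}

theorem mem_down {x : ↥(Subgroup.centralizer ({a} : Set G))} (hx : (x : G) ∈ X) : Q.Φ x ∈ Q.down X :=
  ⟨x, hx, rfl⟩

/-- Elements with equal images, one of odd order. -/
theorem eq_of_image_eq {p : ℕ} (hp : Odd p) {x y : ↥(Subgroup.centralizer ({a} : Set G))}
    (hx : (x : G) ^ p = 1) (hy : (y : G) ^ p = 1) (h : Q.Φ x = Q.Φ y) : x = y := by
  have h1 : Q.Φ (x * y⁻¹) = 1 := by rw [map_mul, map_inv, h, mul_inv_cancel]
  rcases (Q.ker _).1 h1 with e | e <;> simp only [Subgroup.coe_mul, Subgroup.coe_inv] at e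
  · exact Subtype.ext (mul_inv_eq_one.1 e)
  · exfalso
    have hya : Commute a (y : G) := (Subgroup.mem_centralizer_singleton_iff.1 y.2).symm
    rw [mul_inv_eq_iff_eq_mul] at e
    rw [e, hya.mul_pow, hy, mul_one] at hx
    obtain ⟨k, rfl⟩ := hp
    rw [pow_succ, pow_mul, pow_two, Q.inv, one_pow, one_mul] at hx
    exact Q.ne hx

theorem le_centralizer (h : ∀ x ∈ X, Commute x a) : X ≤ Subgroup.centralizer ({a} : Set G) :=
  fun x hx => Subgroup.mem_centralizer_singleton_iff.2 (h x hx).eq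

theorem pow_card {x : G} (hx : x ∈ X) : x ^ Nat.card X = 1 := by
  show ((⟨x, hx⟩ : X) : G) ^ Nat.card X = 1
  rw [← Subgroup.coe_pow, pow_card_eq_one', Subgroup.coe_one]

theorem card_down [Finite G] (hX : ∀ x ∈ X, Commute x a) (hp : Odd (Nat.card X)) :
    Nat.card (Q.down X) = Nat.card X := by
  have hle := le_centralizer hX
  rw [down, Nat.card_congr (Subgroup.subgroupOfEquivOfLe hle).symm.toEquiv]
  let f : ↥(X.subgroupOf (Subgroup.centralizer ({a} : Set G))) →
      ↥((X.subgroupOf (Subgroup.centralizer ({a} : Set G))).map Q.Φ) := fun x => ⟨Q.Φ x.1, x.1, x.2, rfl⟩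
  refine (Nat.card_eq_of_bijective f ⟨fun x y h => ?_, ?_⟩).symm
  · exact Subtype.ext (Q.eq_of_image_eq hp (pow_card x.2) (pow_card y.2) (congrArg Subtype.val h))
  · rintro ⟨_, x, hx, rfl⟩; exact ⟨⟨x, hx⟩, rfl⟩

theorem commute_down [Finite G] (hX : ∀ x ∈ X, Commute x a) (hp : Odd (Nat.card X))
    (g : ↥(Subgroup.centralizer ({a} : Set G))) :
    g.1 ∈ Subgroup.centralizer (X : Set G) ↔ Q.Φ g ∈ Subgroup.centralizer (Q.down X : Set Y) := by
  simp only [Subgroup.mem_centralizer_iff, SetLike.mem_coe]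
  constructor
  · rintro h _ ⟨x, hx, rfl⟩
    rw [← map_mul, ← map_mul]
    exact congrArg Q.Φ (Subtype.ext (h x hx))
  · intro h x hx
    let x' : ↥(Subgroup.centralizer ({a} : Set G)) := ⟨x, le_centralizer hX hx⟩
    have h1 := h _ (Q.mem_down (x := x') hx)
    have h2 : g * x' * g⁻¹ = x' := by
      refine Q.eq_of_image_eq hp ?_ (pow_card hx) ?_
      · simp only [Subgroup.coe_mul, Subgroup.coe_inv]
        rw [conj_pow, pow_card hx, mul_one, mul_inv_cancel]
      · rw [map_mul, map_mul, map_inv, ← h1, mul_inv_cancel_right]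
    exact (congrArg Subtype.val (mul_inv_eq_iff_eq_mul.1 h2)).symm

theorem normalizer_down [Finite G] (hX : ∀ x ∈ X, Commute x a) (hp : Odd (Nat.card X))
    (g : ↥(Subgroup.centralizer ({a} : Set G))) :
    g.1 ∈ Subgroup.normalizer (X : Set G) ↔ Q.Φ g ∈ Subgroup.normalizer (Q.down X : Set Y) := by
  constructor
  · intro h
    rw [Subgroup.mem_normalizer_iff] at h ⊢
    intro y
    constructor
    · rintro ⟨x, hx, rfl⟩
      exact ⟨g * x * g⁻¹, (h x).1 hx, by simp⟩
    · rintro ⟨x, hx, e⟩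
      refine ⟨g⁻¹ * x * g, (h _).2 ?_, by simp [e, mul_assoc]⟩
      show ((g * (g⁻¹ * x * g) * g⁻¹ : ↥(Subgroup.centralizer ({a} : Set G))) : G) ∈ X
      simpa [mul_assoc] using (show (x : G) ∈ X from hx)
  · intro h
    refine Subgroup.mem_normalizer_fintype fun x hx => ?_
    obtain ⟨z, hz, e⟩ := (Subgroup.mem_normalizer_iff.1 h _).1 (Q.mem_down (x := ⟨x, le_centralizer hX hx⟩) hx)
    have := Q.eq_of_image_eq hp (x := z) (y := g * ⟨x, le_centralizer hX hx⟩ * g⁻¹) (pow_card hz) (by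
        simp only [Subgroup.coe_mul, Subgroup.coe_inv]
        rw [conj_pow, pow_card hx, mul_one, mul_inv_cancel]) (by rw [e, map_mul, map_mul, map_inv])
    have e' := congrArg Subtype.val this
    simp only [Subgroup.coe_mul, Subgroup.coe_inv] at e'
    exact e' ▸ hz

/-- Preimages are twice as large. -/
theorem card_inf [Finite G] (H : Subgroup G) (K : Subgroup Y)
    (h : ∀ g : ↥(Subgroup.centralizer ({a} : Set G)), g.1 ∈ H ↔ Q.Φ g ∈ K) :
    Nat.card (H ⊓ Subgroup.centralizer ({a} : Set G) : Subgroup G) = 2 * Nat.card K := by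
  classical
  set C := Subgroup.centralizer ({a} : Set G)
  let f : ↥(H.subgroupOf C) →* K := ((Q.Φ).comp (H.subgroupOf C).subtype).codRestrict K fun g => (h g.1).1 g.2
  have hf : Function.Surjective f := fun y => by
    obtain ⟨g, hg⟩ := Q.surj y
    exact ⟨⟨g, (h g).2 (by rw [hg]; exact y.2)⟩, Subtype.ext hg⟩
  let one' : ↥(H.subgroupOf C) := 1
  have haH : a ∈ H := (h ⟨a, Subgroup.mem_centralizer_singleton_iff.2 rfl⟩).2 (by
    rw [(Q.ker _).2 (Or.inr rfl)]; exact K.one_mem)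
  let a' : ↥(H.subgroupOf C) := ⟨⟨a, Subgroup.mem_centralizer_singleton_iff.2 rfl⟩, haH⟩
  have hk : (f.ker : Set ↥(H.subgroupOf C)) = {1, a'} := by
    ext g
    simp only [SetLike.mem_coe, MonoidHom.mem_ker, Set.mem_insert_iff, Set.mem_singleton_iff]
    rw [Subtype.ext_iff]
    show Q.Φ g.1 = 1 ↔ _
    rw [Q.ker]
    exact or_congr ⟨fun e => Subtype.ext (Subtype.ext e), fun e => by rw [e]; rfl⟩
      ⟨fun e => Subtype.ext (Subtype.ext e), fun e => by rw [e]⟩
  have hk2 : Nat.card f.ker = 2 := by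
    rw [← SetLike.coe_sort_coe, Nat.card_coe_set_eq, hk, Set.ncard_pair]
    intro e
    exact Q.ne (congrArg (fun g : ↥(H.subgroupOf C) => (g.1 : G)) e).symm
  have e2 : Nat.card (H ⊓ C : Subgroup G) = Nat.card ↥(H.subgroupOf C) := Nat.card_congr
    { toFun := fun g => ⟨⟨g.1, g.2.2⟩, g.2.1⟩
      invFun := fun g => ⟨g.1.1, g.2, g.1.2⟩
      left_inv := fun g => rfl
      right_inv := fun g => rfl }
  rw [e2, ← f.ker.card_mul_index, Subgroup.index_ker, MonoidHom.range_eq_top.2 hf, Subgroup.card_top, hk2]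

theorem card_centralizer [Finite G] (hX : ∀ x ∈ X, Commute x a) (hp : Odd (Nat.card X)) :
    Nat.card (Subgroup.centralizer (X : Set G) ⊓ Subgroup.centralizer ({a} : Set G) : Subgroup G) =
      2 * Nat.card (Subgroup.centralizer (Q.down X : Set Y)) :=
  Q.card_inf _ _ (Q.commute_down hX hp)

theorem card_normalizer [Finite G] (hX : ∀ x ∈ X, Commute x a) (hp : Odd (Nat.card X)) :
    Nat.card (Subgroup.normalizer (X : Set G) ⊓ Subgroup.centralizer ({a} : Set G) : Subgroup G) =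
      2 * Nat.card (Subgroup.normalizer (Q.down X : Set Y)) :=
  Q.card_inf _ _ (Q.normalizer_down hX hp)

theorem fix_iff [Finite G] (hX : ∀ x ∈ X, Commute x a) (hp : Odd (Nat.card X))
    (g : ↥(Subgroup.centralizer ({a} : Set G))) (hg : g.1 ∈ Dd D a) :
    (g : G) ∈ fixD D X ↔ Q.Φ g ∈ fixD E (Q.down X) := by
  unfold fixD
  rw [Set.mem_inter_iff, Set.mem_inter_iff, SetLike.mem_coe, SetLike.mem_coe, Q.commute_down hX hp g]
  exact ⟨fun h => ⟨Q.bij.mapsTo hg, h.2⟩, fun h => ⟨hg.1, h.2⟩⟩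

/-- The fixed members commuting with the member, seen in the quotient. -/
theorem bijOn_fix [Finite G] (hX : ∀ x ∈ X, Commute x a) (hp : Odd (Nat.card X)) :
    Set.BijOn Q.Φ {g | (g : G) ∈ fixD D X ∩ Dd D a} (fixD E (Q.down X)) := by
  refine ⟨fun g hg => (Q.fix_iff hX hp g hg.2).1 hg.1, Q.bij.injOn.mono fun g hg => hg.2, fun y hy => ?_⟩
  obtain ⟨g, hg, rfl⟩ := Q.bij.surjOn hy.1
  exact ⟨g, ⟨(Q.fix_iff hX hp g hg).2 hy, hg⟩, rfl⟩

theorem ncard_fix [Finite G] (hX : ∀ x ∈ X, Commute x a) (hp : Odd (Nat.card X)) :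
    (fixD D X ∩ Dd D a).ncard = (fixD E (Q.down X)).ncard := by
  rw [← (Q.bijOn_fix hX hp).image_eq, (Q.bijOn_fix hX hp).injOn.ncard_image,
    ← Set.ncard_image_of_injective {g : ↥(Subgroup.centralizer ({a} : Set G)) | (g : G) ∈ fixD D X ∩ Dd D a}
      Subtype.val_injective]
  congr 1
  ext x
  exact ⟨fun h => ⟨⟨x, Subgroup.mem_centralizer_singleton_iff.2 h.2.2.2.eq.symm⟩, h, rfl⟩, fun ⟨g, h, e⟩ => e ▸ h⟩

/-- Conjugacy lifts. -/
theorem exists_conj [Finite G] {X' : Subgroup G} (hX : ∀ x ∈ X, Commute x a)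
    (hp : Odd (Nat.card X)) (hcard : Nat.card X' = Nat.card X) {y : Y}
    (hy : (Q.down X).map (MulAut.conj y).toMonoidHom = Q.down X') :
    ∃ g : ↥(Subgroup.centralizer ({a} : Set G)), Q.Φ g = y ∧
      X.map (MulAut.conj (g : G)).toMonoidHom = X' := by
  obtain ⟨g, rfl⟩ := Q.surj y
  refine ⟨g, rfl, Subgroup.eq_of_le_of_card_ge ?_ ?_⟩
  · rintro _ ⟨x, hx, rfl⟩
    obtain ⟨z, hz, e⟩ : Q.Φ (g * ⟨x, le_centralizer hX hx⟩ * g⁻¹) ∈ Q.down X' := by
      rw [← hy]
      exact ⟨_, Q.mem_down (x := ⟨x, le_centralizer hX hx⟩) hx, by simp [MulAut.conj_apply]⟩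
    have h := congrArg Subtype.val (Q.eq_of_image_eq hp (x := z) (y := g * ⟨x, le_centralizer hX hx⟩ * g⁻¹)
      (hcard ▸ pow_card hz) (by
        simp only [Subgroup.coe_mul, Subgroup.coe_inv]
        rw [conj_pow, pow_card hx, mul_one, mul_inv_cancel]) e)
    simp only [Subgroup.coe_mul, Subgroup.coe_inv] at h
    show (MulAut.conj (g : G)) x ∈ X'
    rw [MulAut.conj_apply, ← h]
    exact hz
  · rw [card_map_conj, hcard]

end Quot

end CfsgLib.ThreeTrans.Torsion
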