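import Mathlib
import Cfsg.Agent.S2530
import Cfsg.Agent.Lib.ThreeTrans.Basic

/-! Symmetric groups generated by members, and groups permuting their transpositions. -/

set_option autoImplicit false

namespace CfsgLib.ThreeTrans.Torsion

open Equiv

variable {G : Type*} [Group G]

/-- The transpositions. -/
def swaps (n : ℕ) : Set (Perm (Fin n)) := {σ | ∃ x y, x ≠ y ∧ swap x y = σ}

theorem swap_share {n : ℕ} {a b c d : Fin n} (h : ¬ Commute (swap a b) (swap c d)) :
    a = c ∨ a = d ∨ b = c ∨ b = d := by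
  by_contra! hne
  refine h (Perm.Disjoint.commute fun z => ?_)
  by_cases hz : z = a ∨ z = b
  · right
    rcases hz with rfl | rfl
    exacts [swap_apply_of_ne_of_ne hne.1 hne.2.1, swap_apply_of_ne_of_ne hne.2.2.1 hne.2.2.2]
  · left; rw [not_or] at hz; exact swap_apply_of_ne_of_ne hz.1 hz.2

theorem swap_conj_three {n : ℕ} {p a b : Fin n} (hap : a ≠ p) (hbp : b ≠ p) (hab : a ≠ b) :
    swap p a * swap p b * swap p a = swap a b := by
  conv_lhs => arg 2; rw [← swap_inv]
  rw [← Equiv.swap_apply_apply, swap_apply_left, swap_apply_of_ne_of_ne hbp (Ne.symm hab)]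

theorem swap_not_commute {n : ℕ} {p a b : Fin n} (hap : a ≠ p) (hbp : b ≠ p) (hab : a ≠ b) :
    ¬ Commute (swap p a) (swap p b) := by
  intro h
  have e := swap_conj_three hap hbp hab
  rw [h.eq, mul_assoc, swap_mul_self, mul_one] at e
  have := congrArg (fun σ : Perm (Fin n) => σ p) e
  simp only [swap_apply_left, swap_apply_of_ne_of_ne (Ne.symm hap) (Ne.symm hbp)] at this
  exact hbp this

/-- An injective endomorphism carrying transpositions to transpositions is inner. -/
theorem exists_inner {n : ℕ} [NeZero n] (hn : 3 ≤ n) (θ : Perm (Fin n) →* Perm (Fin n))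
    (hinj : Function.Injective θ) (hθ : ∀ s ∈ swaps n, θ s ∈ swaps n) : ∃ σ, ∀ τ, θ τ = σ * τ * σ⁻¹ := by
  have himg : ∀ i : Fin n, i ≠ 0 → θ (swap 0 i) ∈ swaps n := fun i hi => hθ _ ⟨0, i, Ne.symm hi, rfl⟩
  have hnc : ∀ i j : Fin n, i ≠ 0 → j ≠ 0 → i ≠ j → ¬ Commute (θ (swap 0 i)) (θ (swap 0 j)) :=
    fun i j hi hj hij h => swap_not_commute hi hj hij (hinj (by rw [map_mul, map_mul]; exact h.eq))
  set i₁ : Fin n := ⟨1, by omega⟩
  set i₂ : Fin n := ⟨2, by omega⟩
  have h1 : i₁ ≠ 0 := by simp [i₁, Fin.ext_iff]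
  have h2 : i₂ ≠ 0 := by simp [i₂, Fin.ext_iff]
  have h12 : i₁ ≠ i₂ := by simp [i₁, i₂]
  obtain ⟨a, b, hab, e1⟩ := himg i₁ h1
  obtain ⟨c, d, hcd, e2⟩ := himg i₂ h2
  have hd := hnc i₁ i₂ h1 h2 h12
  rw [← e1, ← e2] at hd
  obtain ⟨p, q₁, q₂, hq₁, hq₂, f1, f2⟩ : ∃ p q₁ q₂, q₁ ≠ p ∧ q₂ ≠ p ∧ θ (swap 0 i₁) = swap p q₁ ∧ θ (swap 0 i₂) = swap p q₂ := by
    rcases swap_share hd with rfl | rfl | rfl | rfl
    · exact ⟨a, b, d, Ne.symm hab, Ne.symm hcd, e1.symm, e2.symm⟩
    · exact ⟨a, b, c, Ne.symm hab, hcd, e1.symm, e2.symm.trans (swap_comm _ _)⟩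
    · exact ⟨b, a, d, hab, Ne.symm hcd, e1.symm.trans (swap_comm _ _), e2.symm⟩
    · exact ⟨b, a, c, hab, hcd, e1.symm.trans (swap_comm _ _), e2.symm.trans (swap_comm _ _)⟩
  have hq : q₁ ≠ q₂ := fun e => by
    have h := hinj ((f1.trans (e ▸ rfl)).trans f2.symm)
    have := congrArg (fun σ : Perm (Fin n) => σ 0) h
    simp only [swap_apply_left] at this
    exact h12 this
  have hf : ∀ i : Fin n, ∃ q : Fin n, i ≠ 0 → q ≠ p ∧ θ (swap 0 i) = swap p q := by
    intro i
    by_cases hi : i = 0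
    · exact ⟨p, fun h => absurd hi h⟩
    by_cases hi1 : i = i₁
    · exact ⟨q₁, fun _ => ⟨hq₁, hi1 ▸ f1⟩⟩
    by_cases hi2 : i = i₂
    · exact ⟨q₂, fun _ => ⟨hq₂, hi2 ▸ f2⟩⟩
    obtain ⟨x, y, hxy, e⟩ := himg i hi
    have n1 := hnc i i₁ hi h1 hi1
    have n2 := hnc i i₂ hi h2 hi2
    rw [← e, f1] at n1
    rw [← e, f2] at n2
    by_cases hx : x = p
    · subst hx; exact ⟨y, fun _ => ⟨Ne.symm hxy, e.symm⟩⟩
    by_cases hy : y = p
    · subst hy; exact ⟨x, fun _ => ⟨hxy, by rw [← e, swap_comm]⟩⟩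
    exfalso
    have s1 : x = q₁ ∨ y = q₁ := by
      rcases swap_share n1 with h | h | h | h
      exacts [absurd h hx, Or.inl h, absurd h hy, Or.inr h]
    have s2 : x = q₂ ∨ y = q₂ := by
      rcases swap_share n2 with h | h | h | h
      exacts [absurd h hx, Or.inl h, absurd h hy, Or.inr h]
    have e' : swap x y = swap q₁ q₂ := by
      rcases s1 with r | r <;> rcases s2 with r' | r'
      · exact absurd (r.symm.trans r') hq
      · rw [r, r']
      · rw [r, r', swap_comm]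
      · exact absurd (r.symm.trans r') hq
    have : θ (swap 0 i) = θ (swap i₁ i₂) := by
      rw [← e, e', ← swap_conj_three hq₁ hq₂ hq, ← swap_conj_three h1 h2 h12, map_mul, map_mul, f1, f2]
    have := congrArg (fun σ : Perm (Fin n) => σ 0) (hinj this)
    simp only [swap_apply_left, swap_apply_of_ne_of_ne (Ne.symm h1) (Ne.symm h2)] at this
    exact hi this
  choose f hf using hf
  let g : Fin n → Fin n := fun i => if i = 0 then p else f i
  have hg : Function.Injective g := by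
    intro i j h
    by_cases hi : i = 0 <;> by_cases hj : j = 0 <;> simp only [g, hi, hj, if_true, if_false] at h
    · rw [hi, hj]
    · exact absurd h.symm (hf j hj).1
    · exact absurd h (hf i hi).1
    · have e := hinj ((hf i hi).2.trans ((congrArg (swap p) h).trans (hf j hj).2.symm))
      simpa using congrArg (fun σ : Perm (Fin n) => σ 0) e
  refine ⟨Equiv.ofBijective g (Finite.injective_iff_bijective.1 hg), fun τ => ?_⟩
  set σ := Equiv.ofBijective g (Finite.injective_iff_bijective.1 hg)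
  have key : θ = (MulAut.conj σ).toMonoidHom := by
    refine MonoidHom.eq_of_eqOn_dense (s := swaps n) ?_ ?_
    · rw [← top_le_iff, ← Equiv.Perm.closure_isSwap]
      refine Subgroup.closure_mono ?_
      rintro s ⟨x, y, hxy, rfl⟩
      exact ⟨x, y, hxy, rfl⟩
    · rintro _ ⟨x, y, hxy, rfl⟩
      have h0 : ∀ j, j ≠ 0 → θ (swap 0 j) = (MulAut.conj σ).toMonoidHom (swap 0 j) := fun j hj => by
        rw [MulEquiv.coe_toMonoidHom, MulAut.conj_apply, ← Equiv.swap_apply_apply, (hf j hj).2]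
        simp [σ, g, hj]
      by_cases hx : x = 0
      · subst hx; exact h0 y (Ne.symm hxy)
      by_cases hy : y = 0
      · subst hy; rw [swap_comm]; exact h0 x hx
      rw [← swap_conj_three hx hy hxy, map_mul, map_mul, map_mul, map_mul, h0 x hx, h0 y hy]
  rw [key, MulEquiv.coe_toMonoidHom, MulAut.conj_apply]

theorem eq_one_of_commute_swaps {n : ℕ} (hn : 3 ≤ n) {σ : Perm (Fin n)}
    (h : ∀ x y : Fin n, x ≠ y → Commute σ (swap x y)) : σ = 1 := by
  ext x
  rw [Perm.one_apply]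
  obtain ⟨y, z, hy, hz, hyz⟩ : ∃ y z : Fin n, y ≠ x ∧ z ≠ x ∧ y ≠ z := by
    have h1 : 1 < ({x} : Finset (Fin n))ᶜ.card := by
      rw [Finset.card_compl, Fintype.card_fin, Finset.card_singleton]; omega
    obtain ⟨y, hy, z, hz, hyz⟩ := Finset.one_lt_card.1 h1
    exact ⟨y, z, by simpa using hy, by simpa using hz, hyz⟩
  have key : ∀ w, w ≠ x → σ x = x ∨ σ x = w := fun w hw => by
    have e : swap (σ x) (σ w) = swap x w := by
      rw [Equiv.swap_apply_apply, (h x w (Ne.symm hw)).eq, mul_inv_cancel_right]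
    by_contra! hne
    have := congrArg (fun τ : Perm (Fin n) => τ (σ x)) e
    simp only [swap_apply_left, swap_apply_of_ne_of_ne hne.1 hne.2] at this
    exact hw (σ.injective this)
  rcases key y hy with e | e
  · exact congrArg Fin.val e
  rcases key z hz with e' | e'
  · exact congrArg Fin.val e'
  exact absurd (e.symm.trans e') hyz

/-- A copy of a symmetric group whose transpositions form a given set. -/
structure SymSet (T : Set G) (n : ℕ) where
  /-- the map -/
  φ : Perm (Fin n) →* G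
  inj : Function.Injective φ
  img : φ '' swaps n = T

namespace SymSet

variable {T : Set G} {n : ℕ} (Z : SymSet T n)
include Z

theorem range_eq : Z.φ.range = Subgroup.closure T := by
  conv_rhs => rw [← Z.img]
  rw [← MonoidHom.map_closure, MonoidHom.range_eq_map]
  congr 1
  rw [eq_comm, ← top_le_iff, ← Equiv.Perm.closure_isSwap]
  refine Subgroup.closure_mono ?_
  rintro s ⟨x, y, hxy, rfl⟩
  exact ⟨x, y, hxy, rfl⟩

theorem nonempty_iso : Nonempty (↥(Subgroup.closure T) ≃* Perm (Fin n)) :=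
  ⟨(MulEquiv.subgroupCongr Z.range_eq.symm).trans (MonoidHom.ofInjective Z.inj).symm⟩

theorem card_closure : Nat.card (Subgroup.closure T) = n.factorial := by
  obtain ⟨e⟩ := Z.nonempty_iso
  rw [Nat.card_congr e.toEquiv, Nat.card_perm, Nat.card_eq_fintype_card, Fintype.card_fin]

theorem apply_mem {x y : Fin n} (h : x ≠ y) : Z.φ (swap x y) ∈ T :=
  (Set.ext_iff.1 Z.img _).1 ⟨_, ⟨x, y, h, rfl⟩, rfl⟩

theorem mem_closure (σ : Perm (Fin n)) : Z.φ σ ∈ Subgroup.closure T := by
  rw [← Z.range_eq]; exact ⟨σ, rfl⟩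

/-- A subgroup permuting the transpositions is the product of the symmetric group and its centraliser. -/
theorem decomp [NeZero n] (hn : 3 ≤ n) {N : Subgroup G} (hle : Subgroup.closure T ≤ N)
    (hN : ∀ g ∈ N, ∀ t ∈ T, g * t * g⁻¹ ∈ T) :
    (N ⊓ Subgroup.centralizer T) ⊓ Subgroup.closure T = ⊥ ∧
      (∀ x ∈ N ⊓ Subgroup.centralizer T, ∀ y ∈ Subgroup.closure T, x * y = y * x) ∧
      (N ⊓ Subgroup.centralizer T) ⊔ Subgroup.closure T = N ∧
      Nat.card N = Nat.card (N ⊓ Subgroup.centralizer T : Subgroup G) * n.factorial := by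
  set F := N ⊓ Subgroup.centralizer T
  set S := Subgroup.closure T
  have hdis : F ⊓ S = ⊥ := by
    rw [Subgroup.eq_bot_iff_forall]
    rintro x ⟨⟨-, hx⟩, hxS⟩
    have hxS' : x ∈ Z.φ.range := Z.range_eq ▸ hxS
    obtain ⟨σ, rfl⟩ := hxS'
    rw [eq_one_of_commute_swaps hn (σ := σ) fun a b hab => Z.inj (by
      rw [map_mul, map_mul]; exact (Subgroup.mem_centralizer_iff.1 hx _ (Z.apply_mem hab)).symm), map_one]
  have hcomm : ∀ x ∈ F, ∀ y ∈ S, x * y = y * x := fun x hx y hy => by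
    induction hy using Subgroup.closure_induction with
    | mem z hz => exact (Subgroup.mem_centralizer_iff.1 hx.2 z hz).symm
    | one => rw [one_mul, mul_one]
    | mul a b _ _ ha hb => exact (Commute.mul_right ha hb : Commute x (a * b))
    | inv a _ ha => exact (Commute.inv_right ha : Commute x a⁻¹)
  have hfac : ∀ g ∈ N, ∃ σ : Perm (Fin n), (Z.φ σ)⁻¹ * g ∈ F := by
    intro g hg
    have hmem : ∀ σ, g * Z.φ σ * g⁻¹ ∈ Z.φ.range := by
      intro σ
      rw [Z.range_eq]
      have h := Z.mem_closure σ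
      generalize Z.φ σ = z at h ⊢
      induction h using Subgroup.closure_induction with
      | mem z hz => exact Subgroup.subset_closure (hN g hg z hz)
      | one => rw [mul_one, mul_inv_cancel]; exact one_mem _
      | mul a b _ _ ha hb => rw [← conj_mul]; exact mul_mem ha hb
      | inv a _ ha => rw [← conj_inv]; exact inv_mem ha
    let θ : Perm (Fin n) →* Perm (Fin n) := (MonoidHom.ofInjective Z.inj).symm.toMonoidHom.comp
      (((MulAut.conj g).toMonoidHom.comp Z.φ).codRestrict Z.φ.range fun σ => by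
        simpa [MulAut.conj_apply] using hmem σ)
    have hθ : ∀ σ, Z.φ (θ σ) = g * Z.φ σ * g⁻¹ := fun σ => by
      show Z.φ ((MonoidHom.ofInjective Z.inj).symm ⟨_, _⟩) = _
      rw [MonoidHom.apply_ofInjective_symm]
      rfl
    obtain ⟨σ, hσ⟩ := exists_inner hn θ (fun a b h => Z.inj (mul_left_cancel (mul_right_cancel
      ((hθ a).symm.trans ((congrArg Z.φ h).trans (hθ b)))))) (fun s hs => by
      obtain ⟨x, y, hxy, rfl⟩ := hs
      have h := hN g hg _ (Z.apply_mem hxy)
      rw [← hθ] at h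
      obtain ⟨s', hs', e⟩ := (Set.ext_iff.1 Z.img _).2 h
      rwa [← Z.inj e])
    refine ⟨σ, N.mul_mem (N.inv_mem (hle (Z.mem_closure σ))) hg,
      Subgroup.mem_centralizer_iff.2 fun t ht => ?_⟩
    obtain ⟨s, -, rfl⟩ := (Set.ext_iff.1 Z.img t).2 ht
    have e := hθ s
    rw [hσ, map_mul, map_mul, map_inv] at e
    calc Z.φ s * ((Z.φ σ)⁻¹ * g) = (Z.φ σ)⁻¹ * (Z.φ σ * Z.φ s * (Z.φ σ)⁻¹) * g := by group
      _ = (Z.φ σ)⁻¹ * g * Z.φ s := by rw [e]; group
  have hsup : F ⊔ S = N := by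
    refine le_antisymm (sup_le inf_le_left hle) fun g hg => ?_
    obtain ⟨σ, hσ⟩ := hfac g hg
    rw [← mul_inv_cancel_left (Z.φ σ) g]
    exact mul_mem (Subgroup.mem_sup_right (Z.mem_closure σ)) (Subgroup.mem_sup_left hσ)
  refine ⟨hdis, hcomm, hsup, ?_⟩
  rw [← Z.card_closure, ← Nat.card_prod]
  refine (Nat.card_congr (Equiv.ofBijective
    (fun q : F × S => (⟨(q.1 : G) * q.2, N.mul_mem q.1.2.1 (hle q.2.2)⟩ : N)) ⟨?_, ?_⟩)).symm
  · rintro ⟨f, s⟩ ⟨f', s'⟩ h
    have h' : (f : G) * s = f' * s' := congrArg Subtype.val h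
    have h1 : (f' : G)⁻¹ * f = s' * (s : G)⁻¹ := by
      rw [eq_mul_inv_iff_mul_eq, mul_assoc, h', inv_mul_cancel_left]
    have h2 : (f' : G)⁻¹ * f ∈ F ⊓ S := ⟨F.mul_mem (F.inv_mem f'.2) f.2, h1 ▸ S.mul_mem s'.2 (S.inv_mem s.2)⟩
    rw [hdis, Subgroup.mem_bot, inv_mul_eq_one] at h2
    obtain rfl : f = f' := Subtype.ext h2.symm
    obtain rfl : s = s' := Subtype.ext (mul_left_cancel h')
    rfl
  · rintro ⟨g, hg⟩
    obtain ⟨σ, hσ⟩ := hfac g hg
    have hS : Z.φ σ ∈ S := Z.mem_closure σ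
    refine ⟨⟨⟨_, hσ⟩, ⟨_, hS⟩⟩, Subtype.ext ?_⟩
    show (Z.φ σ)⁻¹ * g * Z.φ σ = g
    rw [hcomm _ hσ _ hS, mul_inv_cancel_left]

end SymSet

/-- A path of members gives a symmetric group. -/
theorem exists_path_hom {D : Set G} (hs : Cfsg.IsThreeTranspositionSet D) (hc : ∀ g : G, ∀ d ∈ D, g * d * g⁻¹ ∈ D)
    {m : ℕ} (t : Fin m → G) (ht : ∀ i, t i ∈ D)
    (hfar : ∀ i j : Fin m, i.val + 1 < j.val → Commute (t i) (t j))
    (hnear : ∀ i j : Fin m, i.val + 1 = j.val → ¬ Commute (t i) (t j)) :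
    ∃ φ : Perm (Fin (m + 1)) →* G, (∀ i : Fin m, φ (swap i.castSucc i.succ) = t i) ∧
      (∀ x y, x ≠ y → φ (swap x y) ∈ D) ∧ ((m = 2 ∨ 4 ≤ m) → Function.Injective φ) := by
  classical
  obtain ⟨cs, hcs⟩ := Cfsg.Agent.S2530.result m
  have hlift : (CoxeterMatrix.A m).IsLiftable t := by
    intro i j
    rw [Cfsg.Agent.S2530.A_apply]
    split_ifs with h1 h2
    · subst h1; rw [pow_one, mul_self hs (ht i)]
    · refine pow_three_of_not_commute hs (ht i) (ht j) ?_
      rcases h2 with h | h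
      · exact fun e => hnear j i (by omega) e.symm
      · exact hnear i j (by omega)
    · refine (sq_eq_one_iff hs (ht i) (ht j)).2 ?_
      simp only [Fin.ext_iff, not_or] at h1 h2
      rcases (show i.val + 1 < j.val ∨ j.val + 1 < i.val by omega) with h | h
      exacts [hfar i j h, (hfar j i h).symm]
  let φ : Perm (Fin (m + 1)) →* G := cs.lift ⟨_, hlift⟩
  have hφ : ∀ i, φ (swap i.castSucc i.succ) = t i := fun i => by
    rw [← hcs]; exact cs.lift_apply_simple hlift i
  refine ⟨φ, hφ, fun x y hxy => ?_, fun hm => ?_⟩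
  · rcases Nat.eq_zero_or_pos m with hm | hm
    · exfalso; subst hm; exact hxy (Subsingleton.elim (α := Fin 1) x y)
    obtain ⟨σ, hσ⟩ := isConj_iff.1 (Equiv.Perm.isConj_swap
      (show (⟨0, hm⟩ : Fin m).castSucc ≠ (⟨0, hm⟩ : Fin m).succ by simp [Fin.ext_iff]) hxy)
    rw [← hσ, map_mul, map_mul, map_inv, hφ]
    exact hc _ _ (ht _)
  · rw [← MonoidHom.ker_eq_bot_iff]
    by_contra hne
    have hnc : ¬ Commute (t ⟨0, by omega⟩) (t ⟨1, by omega⟩) := hnear _ _ rfl
    rcases hm with rfl | hm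
    · have hcard : Nat.card φ.range < 4 := by
        have h1 := φ.ker.card_mul_index
        rw [Subgroup.index_ker, Nat.card_perm, Nat.card_fin] at h1
        have h2 : 1 < Nat.card φ.ker :=
          Finite.one_lt_card_iff_nontrivial.2 ((Subgroup.nontrivial_iff_ne_bot _).2 hne)
        simp only [show (2 + 1).factorial = 6 from rfl] at h1
        nlinarith
      have hcyc : IsCyclic φ.range := by
        have h0 : 0 < Nat.card φ.range := Nat.card_pos
        interval_cases h : Nat.card φ.range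
        · haveI : Subsingleton φ.range := (Nat.card_eq_one_iff_unique.1 h).1
          infer_instance
        · exact isCyclic_of_prime_card (hp := ⟨Nat.prime_two⟩) h
        · exact isCyclic_of_prime_card (hp := ⟨Nat.prime_three⟩) h
      letI := IsCyclic.commGroup (α := φ.range)
      exact hnc (congrArg Subtype.val (mul_comm (⟨_, ⟨_, hφ ⟨0, by omega⟩⟩⟩ : φ.range) ⟨_, ⟨_, hφ ⟨1, by omega⟩⟩⟩))
    · have hle : alternatingGroup (Fin (m + 1)) ≤ φ.ker :=
        Equiv.Perm.alternatingGroup_le_of_normal (by rw [Nat.card_eq_fintype_card, Fintype.card_fin]; omega)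
          ((Subgroup.nontrivial_iff_ne_bot _).2 hne)
      have hm' : swap (⟨0, by omega⟩ : Fin m).castSucc (⟨0, by omega⟩ : Fin m).succ *
          swap (⟨1, by omega⟩ : Fin m).castSucc (⟨1, by omega⟩ : Fin m).succ ∈ alternatingGroup (Fin (m + 1)) := by
        rw [Equiv.Perm.mem_alternatingGroup, map_mul, Equiv.Perm.sign_swap (by simp [Fin.ext_iff]),
          Equiv.Perm.sign_swap (by simp [Fin.ext_iff])]
        rfl
      have := hle hm'
      rw [MonoidHom.mem_ker, map_mul, hφ, hφ, mul_eq_one_iff_eq' hs (ht _)] at this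
      exact hnc (this ▸ Commute.refl _)

end CfsgLib.ThreeTrans.Torsion
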