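import Mathlib
import Cfsg.Agent.Lib.ThreeTrans.Torsion.Down
import Cfsg.Agent.Lib.ThreeTrans.Torsion.SymRec

/-! Counting fixed members. -/

set_option autoImplicit false

namespace CfsgLib.ThreeTrans.Torsion

open CfsgLib.ThreeTrans.Tower

variable {G : Type*} [Group G] [Finite G] {D : Set G}

theorem odd_of_prime {p : ℕ} [Fact p.Prime] (hp : p ≠ 2) : Odd p := (Fact.out : p.Prime).odd_of_ne_two hp

theorem fixD_modEq (hD : ConjClosed D) {p : ℕ} [Fact p.Prime] {X : Subgroup G} (hX : Nat.card X = p) :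
    D.ncard % p = (fixD D X).ncard % p := by
  have h := ncard_modEq hX (O := D) fun x _ a ha => hD.conj x a ha
  unfold Nat.ModEq at h
  rw [h]
  exact congrArg (fun s : Set G => s.ncard % p) (Set.ext fun a => (mem_fixD (D := D) (X := X) (a := a)).symm)

theorem conj_fixD (hD : ConjClosed D) {X : Subgroup G} {g a : G} (hg : g ∈ Subgroup.normalizer (X : Set G))
    (ha : a ∈ fixD D X) : g * a * g⁻¹ ∈ fixD D X := by
  rw [mem_fixD] at ha ⊢
  refine ⟨hD.conj g a ha.1, fun x hx => ?_⟩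
  exact (commute_conj_fix (g := g) (a := a) rfl).1 (ha.2 _ ((Subgroup.mem_normalizer_iff''.1 hg x).1 hx))

theorem centralizer_fixD (hD : ConjClosed D) {X : Subgroup G} {g a : G} (hg : g ∈ Subgroup.centralizer (X : Set G))
    (ha : a ∈ fixD D X) : g * a * g⁻¹ ∈ fixD D X :=
  conj_fixD hD (Subgroup.centralizer_le_normalizer (X : Set G) hg) ha

theorem fixD_mem_centralizer {X : Subgroup G} {a : G} (ha : a ∈ fixD D X) :
    a ∈ Subgroup.centralizer (X : Set G) := ha.2

/-- Members not commuting with a member. -/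
def far (D : Set G) (a : G) : Set G := {c | c ∈ D ∧ ¬ Commute a c}

theorem ncard_far {a : G} (ha : a ∈ D) : D.ncard = 1 + (Dd D a).ncard + (far D a).ncard := by
  have e : D = insert a (Dd D a ∪ far D a) := by
    ext x
    constructor
    · intro hx
      by_cases h : x = a
      · exact Or.inl h
      · by_cases hc : Commute a x
        · exact Or.inr (Or.inl ⟨hx, h, hc⟩)
        · exact Or.inr (Or.inr ⟨hx, hc⟩)
    · rintro (rfl | h | h)
      exacts [ha, h.1, h.1]
  have hn : a ∉ Dd D a ∪ far D a := by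
    rintro (h | h)
    exacts [h.2.1 rfl, h.2 (Commute.refl a)]
  have hdisj : Disjoint (Dd D a) (far D a) := Set.disjoint_left.2 fun x h h' => h'.2 h.2.2
  conv_lhs => rw [e]
  rw [Set.ncard_insert_of_notMem hn, Set.ncard_union_eq hdisj]
  ring

theorem fixD_cases {X : Subgroup G} {a : G} (ha : a ∈ fixD D X) :
    (fixD D X).ncard = 1 + (fixD D X ∩ Dd D a).ncard + (fixD D X ∩ far D a).ncard := by
  have e1 : Dd (fixD D X) a = fixD D X ∩ Dd D a :=
    Set.ext fun x => ⟨fun h => ⟨h.1, h.1.1, h.2⟩, fun h => ⟨h.1, h.2.2⟩⟩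
  have e2 : far (fixD D X) a = fixD D X ∩ far D a :=
    Set.ext fun x => ⟨fun h => ⟨h.1, h.1.1, h.2⟩, fun h => ⟨h.1, h.2.2⟩⟩
  rw [← e1, ← e2]
  exact ncard_far ha

theorem mem_centralizer_of_commute {a g : G} (h : Commute g a) : g ∈ Subgroup.centralizer ({a} : Set G) :=
  Subgroup.mem_centralizer_singleton_iff.2 h.eq

/-- Orbits of the centraliser of a member. -/
theorem card_orbit {O : Set G} {a : G} (htr : ∀ b ∈ O, ∀ b' ∈ O, ∃ g : G, Commute g a ∧ g * b * g⁻¹ = b')
    (hst : ∀ g : G, Commute g a → ∀ b ∈ O, g * b * g⁻¹ ∈ O) {b : G} (hb : b ∈ O) :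
    Nat.card (Subgroup.centralizer ({a} : Set G)) = O.ncard *
      Nat.card (Subgroup.centralizer ({a} : Set G) ⊓ Subgroup.centralizer ({b} : Set G) : Subgroup G) :=
  card_eq_orbit_mul _ hb (fun k hk => hst k (Subgroup.mem_centralizer_singleton_iff.1 hk) b hb) fun b' hb' => by
    obtain ⟨g, hg, e⟩ := htr b hb b' hb'
    exact ⟨g, mem_centralizer_of_commute hg, e⟩

theorem far_stable (hD : ConjClosed D) {a g : G} (hg : Commute g a) {b : G} (hb : b ∈ far D a) :
    g * b * g⁻¹ ∈ far D a := by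
  refine ⟨hD.conj g b hb.1, fun h => hb.2 ?_⟩
  rw [← commute_conj_iff g a b, hg.eq, mul_inv_cancel_right]
  exact h

/-- Fixed members lie only in orbits whose point stabilisers have order divisible by the prime. -/
theorem inter_eq_empty {O : Set G} {a : G} (htr : ∀ b ∈ O, ∀ b' ∈ O, ∃ g : G, Commute g a ∧ g * b * g⁻¹ = b')
    (hst : ∀ g : G, Commute g a → ∀ b ∈ O, g * b * g⁻¹ ∈ O) {X : Subgroup G} (ha : a ∈ fixD D X)
    (hp : ¬ Nat.card X * O.ncard ∣ Nat.card (Subgroup.centralizer ({a} : Set G))) : fixD D X ∩ O = ∅ := by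
  refine Set.eq_empty_of_forall_notMem fun b ⟨hb, hbO⟩ => hp ?_
  rw [card_orbit htr hst hbO, mul_comm O.ncard]
  refine mul_dvd_mul_right (Subgroup.card_dvd_of_le fun x hx => ?_) _
  exact ⟨mem_centralizer_of_commute ((mem_fixD.1 ha).2 x hx), mem_centralizer_of_commute ((mem_fixD.1 hb).2 x hx)⟩

/-- The fixed members of one orbit of the centraliser of a member form one orbit of the normaliser. -/
theorem fix_orbit (hD : ConjClosed D) {O : Set G} {a : G}
    (htr : ∀ b ∈ O, ∀ b' ∈ O, ∃ g : G, Commute g a ∧ g * b * g⁻¹ = b')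
    (hst : ∀ g : G, Commute g a → ∀ b ∈ O, g * b * g⁻¹ ∈ O) {p : ℕ} [Fact p.Prime] {X : Subgroup G}
    (hX : Nat.card X = p) (ha : a ∈ fixD D X) (hp : ¬ p ^ 2 ∣ Nat.card (Subgroup.centralizer ({a} : Set G)))
    (hne : (fixD D X ∩ O).Nonempty) :
    (fixD D X ∩ O).ncard * p ∣
      Nat.card (Subgroup.normalizer (X : Set G) ⊓ Subgroup.centralizer ({a} : Set G) : Subgroup G) := by
  obtain ⟨b, hb⟩ := hne
  set K := Subgroup.centralizer ({a} : Set G)
  have hXK : X ≤ K := fun x hx => mem_centralizer_of_commute ((mem_fixD.1 ha).2 x hx)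
  have e := card_eq_orbit_mul (Subgroup.normalizer (X : Set G) ⊓ K) (O := fixD D X ∩ O) hb
    (fun k hk => ⟨conj_fixD hD hk.1 hb.1, hst k (Subgroup.mem_centralizer_singleton_iff.1 hk.2) b hb.2⟩)
    fun b' hb' => by
      obtain ⟨g, hg, hgb⟩ := htr b hb.2 b' hb'.2
      obtain ⟨n, hn, hnX, hnb⟩ := exists_normalizer (X := X) (K := K) (a := b) (b := b') hXK
        (fun Y Y' hY hY' hYb hYb' hcY hcY' => by
          obtain ⟨k, hk, e⟩ := conj_of_card (K ⊓ Subgroup.centralizer ({b'} : Set G)) (p := p)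
            (fun h => hp (h.trans (Subgroup.card_dvd_of_le inf_le_left)))
            (le_inf hY fun y hy => mem_centralizer_of_commute (hYb y hy))
            (le_inf hY' fun y hy => mem_centralizer_of_commute (hYb' y hy)) (hcY.trans hX) (hcY'.trans hX)
          exact ⟨k, hk.1, Subgroup.mem_centralizer_singleton_iff.1 hk.2, e⟩)
        (mem_fixD.1 hb.1).2 (mem_fixD.1 hb'.1).2 (mem_centralizer_of_commute hg) hgb
      exact ⟨n, ⟨hnX, hn⟩, hnb⟩
  rw [e]
  refine mul_dvd_mul_left _ (hX ▸ Subgroup.card_dvd_of_le fun x hx => ?_)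
  exact ⟨⟨Subgroup.le_normalizer hx, hXK hx⟩, mem_centralizer_of_commute ((mem_fixD.1 hb.1).2 x hx)⟩

/-- A group fixing the only fixed member. -/
theorem le_centralizer_of_single (hD : ConjClosed D) {X : Subgroup G} {a : G} (h : fixD D X = {a}) :
    Subgroup.normalizer (X : Set G) ≤ Subgroup.centralizer ({a} : Set G) := fun g hg => by
  have : g * a * g⁻¹ ∈ fixD D X := conj_fixD hD hg (h ▸ rfl)
  rw [h, Set.mem_singleton_iff] at this
  exact Subgroup.mem_centralizer_singleton_iff.2 (mul_inv_eq_iff_eq_mul.1 this)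

/-- The order of the subgroup generated by a normal part and an element outside. -/
theorem exists_frobenius {p q : ℕ} [Fact p.Prime] [Fact q.Prime] {X N : Subgroup G} (hX : Nat.card X = p)
    (hXN : X ≤ N) (hN : N ≤ Subgroup.normalizer (X : Set G)) (hpq : p ≠ q) {r : ℕ} (hNc : Nat.card N = p * q * r)
    (hr : ¬ q ∣ r) : ∃ F : Subgroup G, F ≤ N ∧ X ≤ F ∧ Nat.card F = p * q := by
  obtain ⟨y, hy⟩ := exists_prime_orderOf_dvd_card' q (show q ∣ Nat.card N from hNc ▸ dvd_mul_of_dvd_left (dvd_mul_left q p) r)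
  set P := Subgroup.zpowers (y : G)
  have hP : Nat.card P = q := by rw [Nat.card_zpowers, Subgroup.orderOf_coe, hy]
  have hPN : P ≤ Subgroup.normalizer (X : Set G) := Subgroup.zpowers_le.2 (hN y.2)
  refine ⟨X ⊔ P, sup_le hXN (Subgroup.zpowers_le.2 y.2), le_sup_left, ?_⟩
  have hdisj : Disjoint X P := disjoint_iff.2 (Subgroup.inf_eq_bot_of_coprime (by
    rw [hX, hP]; exact (Nat.coprime_primes Fact.out Fact.out).2 hpq))
  rw [← hX, ← hP, ← Nat.card_prod]
  refine (Nat.card_eq_of_bijective (fun x : X × P => (⟨(x.1 : G) * x.2, mul_mem (Subgroup.mem_sup_left x.1.2)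
    (Subgroup.mem_sup_right x.2.2)⟩ : (X ⊔ P : Subgroup G))) ⟨?_, ?_⟩).symm
  · rintro ⟨a, b⟩ ⟨a', b'⟩ h
    exact Subgroup.mul_injective_of_disjoint hdisj (congrArg Subtype.val h)
  · rintro ⟨z, hz⟩
    rw [← SetLike.mem_coe, Subgroup.coe_mul_of_right_le_normalizer_left X P hPN] at hz
    obtain ⟨a, ha, b, hb, rfl⟩ := hz
    exact ⟨(⟨a, ha⟩, ⟨b, hb⟩), rfl⟩

/-- Recognising a product. -/
theorem sup_eq_of_card {F S N : Subgroup G} (hdis : F ⊓ S = ⊥) (hF : F ≤ N) (hS : S ≤ N)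
    (hc : Nat.card N ≤ Nat.card F * Nat.card S) : F ⊔ S = N := by
  refine Subgroup.eq_of_le_of_card_ge (sup_le hF hS) (hc.trans ?_)
  rw [← Nat.card_prod]
  exact Nat.card_le_card_of_injective (fun x : F × S => (⟨(x.1 : G) * x.2, mul_mem (Subgroup.mem_sup_left x.1.2)
    (Subgroup.mem_sup_right x.2.2)⟩ : (F ⊔ S : Subgroup G))) fun x y h =>
    Subgroup.mul_injective_of_disjoint (disjoint_iff.2 hdis) (congrArg Subtype.val h)

end CfsgLib.ThreeTrans.Torsion
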