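import Mathlib
import Cfsg.Agent.Lib.ThreeTrans.Torsion.Count

/-! The normaliser as a product with the symmetric group generated by the fixed members. -/

set_option autoImplicit false

namespace CfsgLib.ThreeTrans.Torsion

open Equiv

variable {G : Type*} [Group G] {D : Set G}

theorem ncard_swaps (n : ℕ) :
    (swaps n).ncard = (Finset.univ.filter fun p : Fin n × Fin n => p.1 < p.2).card := by
  classical
  rw [← Set.ncard_coe_finset]
  symm
  refine Set.ncard_congr (fun p _ => swap p.1 p.2) ?_ ?_ ?_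
  · intro p hp
    simp only [Finset.coe_filter, Finset.mem_univ, true_and, Set.mem_ofPred_eq] at hp
    exact ⟨p.1, p.2, ne_of_lt hp, rfl⟩
  · rintro ⟨a, b⟩ ⟨c, d⟩ hp hq e
    simp only [Finset.coe_filter, Finset.mem_univ, true_and, Set.mem_ofPred_eq] at hp hq
    simp only at e
    have h1 : swap c d a = b := by rw [← e, swap_apply_left]
    have ha : a = c ∨ a = d := by
      by_contra! hne
      rw [swap_apply_of_ne_of_ne hne.1 hne.2] at h1
      exact absurd h1 (ne_of_lt hp)
    rcases ha with rfl | rfl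
    · rw [swap_apply_left] at h1; rw [h1]
    · rw [swap_apply_right] at h1; subst h1; exact absurd hp (not_lt_of_gt hq)
  · rintro s ⟨x, y, hxy, rfl⟩
    rcases lt_or_gt_of_ne hxy with h | h
    · exact ⟨(x, y), by simp [h], rfl⟩
    · exact ⟨(y, x), by simp [h], swap_comm y x⟩

/-- Fixed members forming the transpositions of a symmetric group, from a path. -/
theorem exists_symSet [Finite G] (hD : ConjClosed D) {X : Subgroup G} {m : ℕ} (t : Fin m → G)
    (ht : ∀ i, t i ∈ fixD D X) (hfar : ∀ i j : Fin m, i.val + 1 < j.val → Commute (t i) (t j))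
    (hnear : ∀ i j : Fin m, i.val + 1 = j.val → ¬ Commute (t i) (t j)) (hm : m = 2 ∨ 4 ≤ m)
    (hcard : (fixD D X).ncard ≤ (swaps (m + 1)).ncard) :
    ∃ Z : SymSet (fixD D X) (m + 1), ∀ i : Fin m, Z.φ (swap i.castSucc i.succ) = t i := by
  obtain ⟨φ, hφ, hmem, hinj⟩ := exists_path_hom hD.set hD.conj t (fun i => (mem_fixD.1 (ht i)).1) hfar hnear
  have hcen : ∀ σ : Perm (Fin (m + 1)), φ σ ∈ Subgroup.centralizer (X : Set G) := by
    intro σ
    have hσ : σ ∈ Submonoid.closure (Set.range fun i : Fin m => swap i.castSucc i.succ) := by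
      rw [Equiv.Perm.mclosure_swap_castSucc_succ]; exact Submonoid.mem_top _
    induction hσ using Submonoid.closure_induction with
    | mem z hz => obtain ⟨i, rfl⟩ := hz; rw [hφ]; exact (ht i).2
    | one => rw [map_one]; exact one_mem _
    | mul a b _ _ ha hb => rw [map_mul]; exact mul_mem ha hb
  have hsub : φ '' swaps (m + 1) ⊆ fixD D X := by
    rintro _ ⟨_, ⟨x, y, hxy, rfl⟩, rfl⟩
    exact ⟨hmem x y hxy, hcen _⟩
  exact ⟨⟨φ, hinj hm, Set.eq_of_subset_of_ncard_le hsub
    (by rwa [Set.ncard_image_of_injective _ (hinj hm)]) (Set.toFinite _)⟩, hφ⟩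

/-- The normaliser of a subgroup of prime order and the fixed members forming the transpositions of a
symmetric group. -/
theorem normalizer_product [Finite G] (hD : ConjClosed D) {X : Subgroup G} {p : ℕ} [Fact p.Prime]
    (hX : Nat.card X = p) {n : ℕ} [NeZero n] (hn : 3 ≤ n) (Z : SymSet (fixD D X) n) {cf : ℕ}
    (hN : Nat.card (Subgroup.normalizer (X : Set G)) = cf * n.factorial)
    (hC : Nat.card (Subgroup.centralizer (X : Set G)) = p * n.factorial) :
    ∃ F : Subgroup G, Nat.card ↥F = cf ∧ X ≤ F ∧ F ⊓ Subgroup.centralizer (X : Set G) = X ∧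
      F ⊓ Subgroup.closure (fixD D X) = ⊥ ∧
      (∀ x ∈ F, ∀ y ∈ Subgroup.closure (fixD D X), x * y = y * x) ∧
      F ⊔ Subgroup.closure (fixD D X) = Subgroup.normalizer (X : Set G) ∧
      Nonempty (↥(Subgroup.closure (fixD D X)) ≃* Perm (Fin n)) := by
  have hle : Subgroup.closure (fixD D X) ≤ Subgroup.centralizer (X : Set G) :=
    (Subgroup.closure_le _).2 fun a ha => ha.2
  have hleN := hle.trans (Subgroup.centralizer_le_normalizer (X : Set G))
  have hpos : 0 < n.factorial := Nat.factorial_pos n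
  obtain ⟨hdis, hcomm, hsup, hcard⟩ := Z.decomp hn hleN fun g hg a ha => conj_fixD hD hg ha
  obtain ⟨-, -, -, hcard'⟩ := Z.decomp hn hle fun g hg a ha => centralizer_fixD hD hg ha
  rw [hN] at hcard
  rw [hC] at hcard'
  have hF := Nat.eq_of_mul_eq_mul_right hpos hcard.symm
  have hF' := Nat.eq_of_mul_eq_mul_right hpos hcard'.symm
  have hXC : X ≤ Subgroup.centralizer (X : Set G) ⊓ Subgroup.centralizer (fixD D X) := by
    refine le_inf (fun x hx => ?_) fun x hx => Subgroup.mem_centralizer_iff.2 fun a ha =>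
      ((mem_fixD.1 ha).2 x hx).symm.eq
    haveI : IsCyclic X := isCyclic_of_prime_card hX
    letI := IsCyclic.commGroup (α := X)
    exact Subgroup.mem_centralizer_iff.2 fun y hy => congrArg Subtype.val (mul_comm (⟨y, hy⟩ : X) ⟨x, hx⟩)
  have heq : Subgroup.centralizer (X : Set G) ⊓ Subgroup.centralizer (fixD D X) = X :=
    (Subgroup.eq_of_le_of_card_ge hXC (by rw [hF', hX])).symm
  refine ⟨Subgroup.normalizer (X : Set G) ⊓ Subgroup.centralizer (fixD D X), hF,
    fun x hx => ⟨Subgroup.le_normalizer hx, (hXC hx).2⟩, ?_, hdis, hcomm, hsup, Z.nonempty_iso⟩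
  conv_rhs => rw [← heq]
  exact le_antisymm (fun x hx => ⟨hx.2, hx.1.2⟩)
    fun x hx => ⟨⟨Subgroup.centralizer_le_normalizer (X : Set G) hx.1, hx.2⟩, hx.1⟩

end CfsgLib.ThreeTrans.Torsion
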