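import Mathlib
import Cfsg.Agent.Lib.ThreeTrans.Tower.Orders
import Cfsg.Agent.Lib.ClassicalGroups.HermGroup

/-! Isometries of prime order of the six dimensional hermitian space over four elements. -/

set_option autoImplicit false
set_option linter.unusedSectionVars false

namespace CfsgLib.ThreeTrans.Torsion

open Matrix CfsgLib.ClassicalGroups CfsgLib.ThreeTrans CfsgLib.ThreeTrans.Tower

variable {F : Type*} [Field F] [Fintype F]

local notation "V" => Fin 6 → F
local notation "𝕙" => Cfsg.hermForm 6 F 2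
local notation "SU₆" => Cfsg.SU 6 F 2

/-- The action of an element as a linear map. -/
def lin (g : SU₆) : V →ₗ[F] V := (g.1.1).mulVecLin

theorem lin_mul (g h : SU₆) (x : V) : lin (g * h) x = lin g (lin h x) :=
  (Matrix.mulVec_mulVec x g.1.1 h.1.1).symm

theorem lin_one (x : V) : lin (1 : SU₆) x = x := Matrix.one_mulVec x

theorem lin_comm {g h : SU₆} (c : Commute h g) (x : V) : lin h (lin g x) = lin g (lin h x) := by
  rw [← lin_mul, ← lin_mul, c.eq]

theorem lin_injective (g : SU₆) : Function.Injective (lin g) := fun x y h => by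
  have := congrArg (lin g⁻¹) h
  rwa [← lin_mul, ← lin_mul, inv_mul_cancel, lin_one, lin_one] at this

theorem herm_lin (g : SU₆) (x y : V) : 𝕙 (lin g x) (lin g y) = 𝕙 x y := USix.herm_map g x y

theorem lin_pow_smul {h : SU₆} {x : V} {c : F} (hx : lin h x = c • x) : ∀ k : ℕ, lin (h ^ k) x = c ^ k • x
  | 0 => by rw [pow_zero, lin_one, pow_zero, one_smul]
  | k + 1 => by rw [pow_succ, lin_mul, hx, map_smul, lin_pow_smul hx k, smul_smul, mul_comm, ← pow_succ]

/-- Preserved subspaces. -/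
def Stable (g : SU₆) (M : Submodule F V) : Prop := ∀ x ∈ M, lin g x ∈ M

theorem Stable.pow {g : SU₆} {M : Submodule F V} (h : Stable g M) : ∀ k : ℕ, Stable (g ^ k) M
  | 0 => fun x hx => by rwa [pow_zero, lin_one]
  | k + 1 => fun x hx => by rw [pow_succ, lin_mul]; exact h.pow k _ (h x hx)

/-- Stable subspaces inside have no proper stable part. -/
def Minimal (g : SU₆) (Q : Submodule F V) : Prop := ∀ M, Stable g M → M ≤ Q → M = ⊥ ∨ M = Q

/-- The fixed space. -/
def fixSp (g : SU₆) : Submodule F V := LinearMap.ker (lin g - LinearMap.id)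

/-- The commutator space. -/
def movSp (g : SU₆) : Submodule F V := LinearMap.range (lin g - LinearMap.id)

theorem mem_fixSp {g : SU₆} {x : V} : x ∈ fixSp g ↔ lin g x = x := by
  simp [fixSp, LinearMap.mem_ker, sub_eq_zero]

theorem stable_movSp {g h : SU₆} (c : Commute h g) : Stable h (movSp g) := by
  rintro _ ⟨y, rfl⟩
  exact ⟨lin h y, by simp [LinearMap.sub_apply, lin_comm c]⟩

theorem stable_fixSp {g h : SU₆} (c : Commute h g) : Stable h (fixSp g) := fun x hx => by
  rw [mem_fixSp] at hx ⊢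
  rw [← lin_comm c, hx]

theorem stable_ker {h : SU₆} {A : V →ₗ[F] V} (hA : ∀ x, A (lin h x) = lin h (A x)) :
    Stable h (LinearMap.ker A) := fun x hx => by
  rw [LinearMap.mem_ker] at hx ⊢
  rw [hA, hx, map_zero]

/-- A stable subspace on which all powers fixing a vector are trivial. -/
theorem pow_gcd_fix [DecidableEq F] {h : SU₆} {Q : Submodule F V} (hQ : Stable h Q) {n : ℕ} (hn : ∀ x ∈ Q, lin (h ^ n) x = x)
    (hfree : ∀ j : ℕ, ∀ x ∈ Q, x ≠ 0 → lin (h ^ j) x = x → ∀ y ∈ Q, lin (h ^ j) y = y) :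
    ∀ x ∈ Q, lin (h ^ Nat.gcd n (Nat.card Q - 1)) x = x := by
  classical
  let S := {x : Q // x ≠ 0}
  let f : S → S := fun x => ⟨⟨lin h x.1.1, hQ _ x.1.2⟩, fun e => x.2 (Subtype.ext (by
    have e' := congrArg Subtype.val e
    exact lin_injective h (e'.trans (map_zero _).symm)))⟩
  have hf : Function.Bijective f := Finite.injective_iff_bijective.1 fun x y e =>
    Subtype.ext (Subtype.ext (lin_injective h (congrArg (fun z : S => z.1.1) e)))
  let σ : Equiv.Perm S := Equiv.ofBijective f hf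
  have hσ : ∀ (j : ℕ) (x : S), ((σ ^ j) x).1.1 = lin (h ^ j) x.1.1 := fun j => by
    induction j with
    | zero => intro x; rw [pow_zero, pow_zero, lin_one]; rfl
    | succ k ih => intro x; rw [pow_succ, Equiv.Perm.mul_apply, ih, pow_succ, lin_mul]; rfl
  have hext : ∀ j : ℕ, (∀ y ∈ Q, lin (h ^ j) y = y) → σ ^ j = 1 := fun j hj =>
    Equiv.ext fun x => Subtype.ext (Subtype.ext (by rw [hσ, hj _ x.1.2]; rfl))
  have hstab : ∀ x : S, MulAction.stabilizer (Subgroup.zpowers σ) x = ⊥ := by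
    intro x
    rw [eq_bot_iff]
    rintro ⟨τ, hτ⟩ hx
    obtain ⟨j, rfl⟩ := ((isOfFinOrder_of_finite σ).mem_powers_iff_mem_zpowers.2 hτ)
    rw [Subgroup.mem_bot]
    refine Subtype.ext (hext j (hfree j x.1.1 x.1.2 (fun e => x.2 (Subtype.ext e)) ?_))
    rw [← hσ]
    exact congrArg (fun z : S => z.1.1) (show (σ ^ j) x = x from hx)
  have hcard : orderOf σ ∣ Nat.card S := by
    have e := MulAction.selfEquivSigmaOrbitsQuotientStabilizer (Subgroup.zpowers σ) S
    have : Fintype (Quotient (MulAction.orbitRel (Subgroup.zpowers σ) S)) := Fintype.ofFinite _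
    rw [Nat.card_congr e, Nat.card_sigma]
    refine Finset.dvd_sum fun ω _ => ?_
    rw [hstab, ← Subgroup.index_eq_card, Subgroup.index_bot, Nat.card_zpowers]
  have hS : Nat.card S = Nat.card Q - 1 := by
    rw [Nat.card_eq_fintype_card, Fintype.card_subtype_compl, Fintype.card_subtype_eq, Nat.card_eq_fintype_card]
  have hd : orderOf σ ∣ Nat.gcd n (Nat.card Q - 1) :=
    Nat.dvd_gcd (orderOf_dvd_of_pow_eq_one (hext n hn)) (hS ▸ hcard)
  intro x hx
  by_cases e : x = 0
  · rw [e, map_zero]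
  · have := hσ (Nat.gcd n (Nat.card Q - 1)) ⟨⟨x, hx⟩, fun e' => e (congrArg Subtype.val e')⟩
    rw [orderOf_dvd_iff_pow_eq_one.1 hd] at this
    exact this.symm

theorem card_submodule (hF : Fintype.card F = 2 ^ 2) (M : Submodule F V) :
    Nat.card M = 4 ^ Module.finrank F M := by
  rw [Module.natCard_eq_pow_finrank (K := F), Nat.card_eq_fintype_card (α := F), hF]; norm_num

/-- Commuting elements on a subspace without proper stable part. -/
theorem Minimal.pow_gcd_fix [DecidableEq F] {g h : SU₆} (c : Commute h g) {Q : Submodule F V} (hg : Stable g Q)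
    (hQ : Minimal g Q) (hh : Stable h Q) {n : ℕ} (hn : ∀ x ∈ Q, lin (h ^ n) x = x) :
    ∀ x ∈ Q, lin (h ^ Nat.gcd n (Nat.card Q - 1)) x = x := by
  refine Torsion.pow_gcd_fix hh hn fun j x hx hx0 hfix y hy => ?_
  have hst : Stable g (Q ⊓ fixSp (h ^ j)) := fun z hz =>
    ⟨hg z hz.1, stable_fixSp (c.pow_left j).symm z hz.2⟩
  rcases hQ _ hst inf_le_left with e | e
  · exact absurd ((Submodule.eq_bot_iff _).1 e x ⟨hx, mem_fixSp.2 hfix⟩) hx0
  · exact mem_fixSp.1 (e.symm ▸ hy : y ∈ Q ⊓ fixSp (h ^ j)).2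

/-- Stable subspaces without fixed vectors. -/
theorem card_stable [DecidableEq F] {g : SU₆} {p : ℕ} (hp : p.Prime) (hgp : g ^ p = 1) {M : Submodule F V} (hM : Stable g M)
    (hfix : M ⊓ fixSp g = ⊥) : M = ⊥ ∨ p ∣ Nat.card M - 1 := by
  by_contra! hno
  have hgcd : Nat.gcd p (Nat.card M - 1) = 1 := (hp.coprime_iff_not_dvd.2 hno.2)
  have h := Torsion.pow_gcd_fix hM (n := p) (fun x _ => by rw [hgp, lin_one]) fun j x hx hx0 hj y hy => by
    by_cases hpj : p ∣ j
    · obtain ⟨k, rfl⟩ := hpj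
      rw [pow_mul, hgp, one_pow, lin_one]
    · exfalso
      obtain ⟨a, ha⟩ := Nat.exists_mul_mod_eq_one_of_coprime
        ((hp.coprime_iff_not_dvd.2 hpj).symm) hp.one_lt
      have h1 : lin ((g ^ j) ^ a) x = x := by
        have := lin_pow_smul (h := g ^ j) (x := x) (c := 1) (by rw [hj, one_smul]) a
        rwa [one_pow, one_smul] at this
      rw [← pow_mul, ← Nat.div_add_mod (j * a) p, ha.2, pow_add, pow_mul, hgp, one_pow, one_mul, pow_one] at h1
      exact hx0 ((Submodule.eq_bot_iff _).1 hfix x ⟨hx, mem_fixSp.2 h1⟩)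
  rw [hgcd] at h
  refine hno.1 ((Submodule.eq_bot_iff _).2 fun x hx => (Submodule.eq_bot_iff _).1 hfix x ⟨hx, mem_fixSp.2 ?_⟩)
  simpa using h x hx

section

variable (hF : Fintype.card F = 2 ^ 2)
include hF

theorem lin_injOn_sq {g : SU₆} {p : ℕ} (hp : Odd p) (hgp : g ^ p = 1) : movSp g ⊓ fixSp g = ⊥ := by
  rw [Submodule.eq_bot_iff]
  rintro x ⟨⟨y, rfl⟩, hx⟩
  rw [SetLike.mem_coe, mem_fixSp] at hx
  simp only [LinearMap.sub_apply, LinearMap.id_apply] at hx ⊢
  have hy : ∀ i : ℕ, lin (g ^ i) y = y + (i : F) • (lin g y - y) := by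
    intro i
    induction i with
    | zero => rw [pow_zero, lin_one]; simp
    | succ k ih =>
      rw [pow_succ', lin_mul, ih, map_add, map_smul, hx, Nat.cast_succ, add_smul, one_smul]
      abel
  have h := hy p
  have h1 : (p : F) = 1 := by
    haveI := USix.charTwo hF
    obtain ⟨k, rfl⟩ := hp
    rw [Nat.cast_add, Nat.cast_mul, Nat.cast_ofNat, USix.two_eq_zero hF, Nat.cast_one, zero_mul, zero_add]
  rw [hgp, lin_one, h1, one_smul] at h
  exact add_eq_left.1 h.symm

theorem isCompl {g : SU₆} {p : ℕ} (hp : Odd p) (hgp : g ^ p = 1) : IsCompl (movSp g) (fixSp g) := by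
  refine ⟨disjoint_iff.2 (lin_injOn_sq hF hp hgp), codisjoint_iff.2 (Submodule.eq_top_of_finrank_eq ?_)⟩
  have h := Submodule.finrank_sup_add_finrank_inf_eq (movSp g) (fixSp g)
  rw [lin_injOn_sq hF hp hgp, finrank_bot, add_zero] at h
  rw [h]
  exact LinearMap.finrank_range_add_finrank_ker _

theorem finrank_movSp_add {g : SU₆} : Module.finrank F (movSp g) + Module.finrank F (fixSp g) = 6 :=
  (LinearMap.finrank_range_add_finrank_ker _).trans (by rw [Module.finrank_fintype_fun_eq_card, Fintype.card_fin])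

theorem movSp_ne_bot {g : SU₆} (hg : g ≠ 1) : movSp g ≠ ⊥ := fun h => hg (SU_ext fun x => by
  have : (lin g - LinearMap.id : V →ₗ[F] V) x = 0 := (Submodule.eq_bot_iff _).1 h _ ⟨x, rfl⟩
  rw [LinearMap.sub_apply, sub_eq_zero] at this
  exact this.trans (lin_one x).symm)

theorem perp_mov_fix {g : SU₆} {x y : V} (hx : x ∈ movSp g) (hy : y ∈ fixSp g) : 𝕙 x y = 0 := by
  obtain ⟨z, rfl⟩ := hx
  rw [mem_fixSp] at hy
  rw [LinearMap.sub_apply, LinearMap.id_apply, hermForm_sub_left]
  conv_lhs => arg 1; rw [← hy]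
  rw [herm_lin, sub_self]

theorem eq_zero_of_perp {x : V} (h : ∀ y, 𝕙 x y = 0) : x = 0 := funext fun i => by
  rw [← hermForm_single_right hF 6 x i]; exact h _

/-- A subspace totally isotropic and orthogonal to a complement is zero. -/
theorem bot_of_perp {U W : Submodule F V} (hc : IsCompl U W) (h1 : ∀ x ∈ U, ∀ y ∈ U, 𝕙 x y = 0)
    (h2 : ∀ x ∈ U, ∀ y ∈ W, 𝕙 x y = 0) : U = ⊥ := by
  refine (Submodule.eq_bot_iff _).2 fun x hx => eq_zero_of_perp hF fun y => ?_
  obtain ⟨u, hu, w, hw, rfl⟩ := Submodule.mem_sup.1 (hc.sup_eq_top ▸ Submodule.mem_top : y ∈ U ⊔ W)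
  rw [hermForm_add_right hF, h1 x hx u hu, h2 x hx w hw, add_zero]

/-- Subspaces of isotropic vectors are totally isotropic. -/
theorem isotropic_pair {M : Submodule F V} (h : ∀ x ∈ M, 𝕙 x x = 0) : ∀ x ∈ M, ∀ y ∈ M, 𝕙 x y = 0 := by
  intro x hx y hy
  obtain ⟨w, -, hw1, hw⟩ := USix.exists_omega hF
  have hc : ∀ c : F, c * 𝕙 x y + (c * 𝕙 x y) ^ 2 = 0 := fun c => by
    have e := h _ (M.add_mem (M.smul_mem c hx) hy)
    rw [hermForm_add_left, hermForm_add_right hF, hermForm_add_right hF, hermForm_smul_left, hermForm_smul_left,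
      hermForm_smul_right, hermForm_smul_right, h x hx, h y hy, USix.herm_symm' hF x y] at e
    linear_combination e
  have a := hc 1
  have b := hc w
  linear_combination (-1 : F) * b + (w ^ 2) * a + (𝕙 x y) * hw - (w ^ 2 * 𝕙 x y) * (USix.two_eq_zero hF)

theorem finrank_isotropic {Q : Submodule F V} (h : ∀ x ∈ Q, ∀ y ∈ Q, 𝕙 x y = 0) :
    2 * Module.finrank F Q ≤ 6 := by
  classical
  let θ : V →+ (Q →ₗ[F] F) :=
    { toFun := fun y =>
        { toFun := fun x => 𝕙 (x : V) y
          map_add' := fun x x' => hermForm_add_left _ _ _ _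
          map_smul' := fun c x => hermForm_smul_left _ _ _ _ }
      map_zero' := LinearMap.ext fun x => hermForm_zero_right hF _
      map_add' := fun y y' => LinearMap.ext fun x => hermForm_add_right hF _ _ _ }
  have hsurj : Function.Surjective θ := fun φ => by
    obtain ⟨ψ, hψ⟩ := LinearMap.exists_extend φ
    obtain ⟨y, hy⟩ := USix.exists_dual hF ψ
    exact ⟨y, LinearMap.ext fun x => (hy x).symm.trans (LinearMap.congr_fun hψ x)⟩
  have hle : Nat.card Q ≤ Nat.card θ.ker :=
    Nat.card_le_card_of_injective (fun x => ⟨(x : V), LinearMap.ext fun z => h z z.2 x x.2⟩)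
      fun a b e => Subtype.ext (congrArg (fun t : θ.ker => (t : V)) e)
  have h1 := AddSubgroup.card_mul_index θ.ker
  rw [AddSubgroup.index_ker, AddMonoidHom.range_eq_top.2 hsurj, AddSubgroup.card_top] at h1
  have h2 : Nat.card (Q →ₗ[F] F) = 4 ^ Module.finrank F Q := by
    rw [Module.natCard_eq_pow_finrank (K := F), Nat.card_eq_fintype_card (α := F), hF,
      Subspace.dual_finrank_eq]
    norm_num
  have h3 : Nat.card V = 4 ^ 6 := by
    rw [Nat.card_fun, Nat.card_eq_fintype_card (α := F), hF]; simp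
  rw [h2, h3] at h1
  rw [card_submodule hF] at hle
  have h4 : 4 ^ (2 * Module.finrank F Q) ≤ 4 ^ 6 := by
    rw [two_mul, pow_add, ← h1]; exact Nat.mul_le_mul_right _ hle
  exact (Nat.pow_le_pow_iff_right (by norm_num)).1 h4

/-- An element whose cube is the identity on a subspace without proper stable part is a scalar there. -/
theorem Minimal.scalar {g h : SU₆} (c : Commute h g) {Q : Submodule F V} (hg : Stable g Q) (hQ : Minimal g Q)
    (hQ0 : Q ≠ ⊥) (hh : Stable h Q) (h3 : ∀ x ∈ Q, lin (h ^ 3) x = x) :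
    ∃ a : F, a ^ 3 = 1 ∧ ∀ x ∈ Q, lin h x = a • x := by
  obtain ⟨w, hw0, -, hw⟩ := USix.exists_omega hF
  have key : ∀ a : F, a ≠ 0 → (∀ x ∈ Q, lin h x = a • x) ∨ ∀ x ∈ Q, lin h x = a • x → x = 0 := by
    intro a _
    let A : V →ₗ[F] V := lin h - a • LinearMap.id
    have hst : Stable g (Q ⊓ LinearMap.ker A) := fun z hz =>
      ⟨hg z hz.1, stable_ker (fun x => by simp [A, lin_comm c]) z hz.2⟩
    rcases hQ _ hst inf_le_left with e | e
    · exact Or.inr fun x hx hfx => (Submodule.eq_bot_iff _).1 e x ⟨hx, by simp [A, hfx]⟩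
    · refine Or.inl fun x hx => ?_
      have := (e.symm ▸ hx : x ∈ Q ⊓ LinearMap.ker A).2
      simpa [A, sub_eq_zero] using this
  rcases key 1 one_ne_zero with h1 | h1
  · exact ⟨1, one_pow 3, h1⟩
  rcases key w hw0 with h2 | h2
  · exact ⟨w, USix.cube_eq_one hF hw0, h2⟩
  refine ⟨w ^ 2, USix.cube_eq_one hF (pow_ne_zero 2 hw0), fun x hx => ?_⟩
  -- the remaining factor vanishes
  set y := lin h x - (w ^ 2) • x with hy
  have hyQ : y ∈ Q := Q.sub_mem (hh x hx) (Q.smul_mem _ hx)
  have hz : lin h y - w • y = 0 := by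
    refine h1 _ (Q.sub_mem (hh y hyQ) (Q.smul_mem _ hyQ)) ?_
    have e3 : lin h (lin h (lin h x)) = x := by
      have := h3 x hx
      rwa [pow_succ, pow_two, lin_mul, lin_mul] at this
    rw [hy, one_smul]
    simp only [map_sub, map_smul, e3]
    have hw3 := USix.cube_eq_one hF hw0
    match_scalars <;> first
      | linear_combination hw | linear_combination -hw | linear_combination hw + hw3
      | linear_combination -hw - hw3 | linear_combination hw3 | linear_combination -hw3
      | linear_combination hw3 - hw | linear_combination hw - hw3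
  exact sub_eq_zero.1 (h2 y hyQ (sub_eq_zero.1 hz))

/-- Scalars on the two parts. -/
theorem det_scalar {h : SU₆} {U W : Submodule F V} (hc : IsCompl U W) {a b : F}
    (hU : ∀ x ∈ U, lin h x = a • x) (hW : ∀ x ∈ W, lin h x = b • x) :
    a ^ Module.finrank F U * b ^ Module.finrank F W = 1 := by
  let e := Submodule.prodEquivOfIsCompl U W hc
  have he : lin h = (e : (U × W) →ₗ[F] V) ∘ₗ
      (LinearMap.prodMap (a • LinearMap.id) (b • LinearMap.id)) ∘ₗ (e.symm : V →ₗ[F] U × W) := by
    refine LinearMap.ext fun x => ?_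
    obtain ⟨⟨u, w⟩, rfl⟩ := e.surjective x
    simp [e, hU _ u.2, hW _ w.2]
  have h1 : LinearMap.det (lin h) = 1 := by
    rw [lin, ← Matrix.toLin'_apply', LinearMap.det_toLin']
    exact h.1.2
  rwa [he, LinearMap.det_conj, LinearMap.det_prodMap, LinearMap.det_smul,
    LinearMap.det_smul, LinearMap.det_id, LinearMap.det_id, mul_one, mul_one] at h1

/-- A scalar is central. -/
theorem mem_center_of_scalar {h : SU₆} {a : F} (hh : ∀ x, lin h x = a • x) :
    h ∈ Subgroup.center SU₆ := by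
  rw [Subgroup.mem_center_iff]
  intro k
  refine SU_ext fun x => ?_
  change lin (k * h) x = lin (h * k) x
  rw [lin_mul, lin_mul, hh, hh, map_smul]

theorem scalar_of_compl {h : SU₆} {U W : Submodule F V} (hc : IsCompl U W) {a : F}
    (hU : ∀ x ∈ U, lin h x = a • x) (hW : ∀ x ∈ W, lin h x = a • x) : h ∈ Subgroup.center SU₆ := by
  refine mem_center_of_scalar hF (a := a) fun x => ?_
  obtain ⟨u, hu, w, hw, rfl⟩ := Submodule.mem_sup.1 (hc.sup_eq_top ▸ Submodule.mem_top : x ∈ U ⊔ W)
  rw [map_add, hU u hu, hW w hw, smul_add]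

theorem card_su_six : Nat.card SU₆ = 27590492160 := by
  rw [card_SU_eq_center_mul_PSU, card_center_SU hF (by norm_num), card_psu_six hF]
  norm_num

end

end CfsgLib.ThreeTrans.Torsion
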