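import Mathlib
import Cfsg.Agent.Lib.ThreeTrans.Torsion.Linear

/-! Centralisers of isometries of order 11, 7 and 5. -/

set_option autoImplicit false
set_option linter.unusedSectionVars false

namespace CfsgLib.ThreeTrans.Torsion

open Matrix CfsgLib.ClassicalGroups CfsgLib.ThreeTrans CfsgLib.ThreeTrans.Tower

variable {F : Type*} [Field F] [Fintype F]

local notation "V" => Fin 6 → F
local notation "𝕙" => Cfsg.hermForm 6 F 2
local notation "SU₆" => Cfsg.SU 6 F 2

/-- A polynomial of degree at most three in an element. -/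
def quad (g : SU₆) (a b c d : F) : V →ₗ[F] V :=
  a • LinearMap.id + b • lin g + c • lin (g ^ 2) + d • lin (g ^ 3)

theorem quad_apply (g : SU₆) (a b c d : F) (x : V) : quad g a b c d x =
    a • x + b • lin g x + c • lin g (lin g x) + d • lin g (lin g (lin g x)) := by
  simp [quad, pow_succ, lin_mul, lin_one]

theorem quad_comm {g h : SU₆} (c' : Commute h g) (a b c d : F) (x : V) :
    quad g a b c d (lin h x) = lin h (quad g a b c d x) := by
  simp [quad_apply, lin_comm c']

variable (hF : Fintype.card F = 2 ^ 2)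
include hF

theorem stable_quad {g h : SU₆} (c' : Commute h g) (a b c d : F) :
    Stable h (movSp g ⊓ LinearMap.ker (quad g a b c d)) :=
  fun x hx => ⟨stable_movSp c' x hx.1, stable_ker (quad_comm c' a b c d) x hx.2⟩

theorem herm_self_sq (x : V) : 𝕙 x x ^ 2 = 𝕙 x x := (USix.herm_symm' hF x x).symm

/-- Vectors killed by `X³ + X + 1` are isotropic. -/
theorem iso_cubic_one {g : SU₆} {u : V} (h : quad g 1 1 0 1 u = 0) : 𝕙 u u = 0 := by
  rw [quad_apply, one_smul, one_smul, one_smul, zero_smul, add_zero] at h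
  have e : lin g (lin g (lin g u)) = lin g u + u := by
    linear_combination (norm := module) h - USix.vadd_self hF (lin g u + u)
  have e3 : 𝕙 (lin g (lin g (lin g u))) (lin g (lin g (lin g u))) =
      𝕙 (lin g u + u) (lin g (lin g (lin g u))) := by rw [← e]
  have e2 : 𝕙 (lin g (lin g (lin g u))) (lin g (lin g u)) = 𝕙 (lin g u + u) (lin g (lin g u)) := by rw [← e]
  have e1 : 𝕙 (lin g (lin g (lin g u))) (lin g u) = 𝕙 (lin g u + u) (lin g u) := by rw [← e]
  have e0 : 𝕙 (lin g (lin g (lin g u))) u = 𝕙 (lin g u + u) u := by rw [← e]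
  simp only [hermForm_add_left, herm_lin] at e0 e1 e2 e3
  rw [USix.herm_symm' hF (lin g (lin g (lin g u))) u, USix.herm_symm' hF (lin g (lin g u)) u] at e3
  rw [USix.herm_symm' hF (lin g u) u, USix.herm_symm' hF (lin g (lin g u)) u] at e2
  rw [USix.herm_symm' hF (lin g u) u] at e1
  set a0 := 𝕙 u u with ha0
  set a1 := 𝕙 (lin g u) u
  set a2 := 𝕙 (lin g (lin g u)) u
  set a3 := 𝕙 (lin g (lin g (lin g u))) u
  have s0 : a0 ^ 2 = a0 := ha0 ▸ herm_self_sq hF u
  have t := USix.two_eq_zero hF
  rw [e0] at e3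
  have h21 : a2 ^ 2 = a1 ^ 2 := by
    linear_combination -e3 - s0 - (a1 * a0 + a1 ^ 2) * t
  have h21' : a2 = a1 := USix.sq_inj hF h21
  rw [h21'] at e1 e2
  have h1 : a1 = 0 := by linear_combination e2 + a1 ^ 2 * t
  rw [h1] at e1
  linear_combination -e1

/-- Vectors killed by `X³ + X² + 1` are isotropic. -/
theorem iso_cubic_two {g : SU₆} {u : V} (h : quad g 1 0 1 1 u = 0) : 𝕙 u u = 0 := by
  rw [quad_apply, one_smul, one_smul, one_smul, zero_smul, add_zero] at h
  have e : lin g (lin g (lin g u)) = lin g (lin g u) + u := by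
    linear_combination (norm := module) h - USix.vadd_self hF (lin g (lin g u) + u)
  have e3 : 𝕙 (lin g (lin g (lin g u))) (lin g (lin g (lin g u))) =
      𝕙 (lin g (lin g u) + u) (lin g (lin g (lin g u))) := by rw [← e]
  have e2 : 𝕙 (lin g (lin g (lin g u))) (lin g (lin g u)) = 𝕙 (lin g (lin g u) + u) (lin g (lin g u)) := by rw [← e]
  have e1 : 𝕙 (lin g (lin g (lin g u))) (lin g u) = 𝕙 (lin g (lin g u) + u) (lin g u) := by rw [← e]
  have e0 : 𝕙 (lin g (lin g (lin g u))) u = 𝕙 (lin g (lin g u) + u) u := by rw [← e]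
  simp only [hermForm_add_left, herm_lin] at e0 e1 e2 e3
  rw [USix.herm_symm' hF (lin g (lin g (lin g u))) u, USix.herm_symm' hF (lin g u) u] at e3
  rw [USix.herm_symm' hF (lin g (lin g u)) u] at e2
  rw [USix.herm_symm' hF (lin g u) u] at e1
  set a0 := 𝕙 u u with ha0
  set a1 := 𝕙 (lin g u) u
  set a2 := 𝕙 (lin g (lin g u)) u
  set a3 := 𝕙 (lin g (lin g (lin g u))) u
  have s0 : a0 ^ 2 = a0 := ha0 ▸ herm_self_sq hF u
  have t := USix.two_eq_zero hF
  rw [e0] at e3
  have h21 : a2 ^ 2 = a1 ^ 2 := by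
    linear_combination -e3 - s0 - (a2 * a0 + a1 ^ 2) * t
  have h21' : a2 = a1 := USix.sq_inj hF h21
  rw [h21'] at e1 e2
  have h1 : a1 = 0 := by
    have : a1 ^ 2 = 0 ^ 2 := by linear_combination -e1
    exact USix.sq_inj hF this
  rw [h1] at e2
  linear_combination -e2

/-- Vectors killed by `X² + w X + 1`, with `w` a cube root of unity. -/
theorem iso_quadratic {g : SU₆} {u : V} {w : F} (hw : 1 + w + w ^ 2 = 0) (h : quad g 1 w 1 0 u = 0) :
    𝕙 u u = 0 := by
  rw [quad_apply, one_smul, one_smul, zero_smul, add_zero] at h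
  have e : lin g (lin g u) = w • lin g u + u := by
    linear_combination (norm := module) h - USix.vadd_self hF (w • lin g u + u)
  have e2 : 𝕙 (lin g (lin g u)) (lin g (lin g u)) = 𝕙 (w • lin g u + u) (lin g (lin g u)) := by rw [← e]
  have e1 : 𝕙 (lin g (lin g u)) (lin g u) = 𝕙 (w • lin g u + u) (lin g u) := by rw [← e]
  have e0 : 𝕙 (lin g (lin g u)) u = 𝕙 (w • lin g u + u) u := by rw [← e]
  simp only [hermForm_add_left, hermForm_smul_left, herm_lin] at e0 e1 e2
  rw [USix.herm_symm' hF (lin g u) u, USix.herm_symm' hF (lin g (lin g u)) u] at e2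
  rw [USix.herm_symm' hF (lin g u) u] at e1
  set a0 := 𝕙 u u with ha0
  set a1 := 𝕙 (lin g u) u
  set a2 := 𝕙 (lin g (lin g u)) u
  have s0 : a0 ^ 2 = a0 := ha0 ▸ herm_self_sq hF u
  have t := USix.two_eq_zero hF
  rw [e0] at e2
  have h1 : a1 = 0 := by
    have : a1 ^ 2 = 0 ^ 2 := by
      linear_combination e2 + s0 + a1 ^ 2 * hw + (w * a1 * a0) * t
    exact USix.sq_inj hF this
  rw [h1] at e1
  have hw0 : w ≠ 0 := fun e => by rw [e] at hw; simp at hw
  have : w * a0 = 0 := by linear_combination -e1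
  exact (mul_eq_zero.1 this).resolve_left hw0

theorem isotropic_cubic_one (g : SU₆) : ∀ x ∈ LinearMap.ker (quad g 1 1 0 1), ∀ y ∈ LinearMap.ker (quad g 1 1 0 1), 𝕙 x y = 0 :=
  isotropic_pair hF fun _ hx => iso_cubic_one hF hx

theorem isotropic_cubic_two (g : SU₆) : ∀ x ∈ LinearMap.ker (quad g 1 0 1 1), ∀ y ∈ LinearMap.ker (quad g 1 0 1 1), 𝕙 x y = 0 :=
  isotropic_pair hF fun _ hx => iso_cubic_two hF hx

/-- The part moved by an element of odd prime order, with the size of its stable subspaces. -/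
theorem moved_stable [DecidableEq F] {g : SU₆} {p : ℕ} (hp : p.Prime) (hodd : Odd p) (hgp : g ^ p = 1)
    {M : Submodule F V} (hM : Stable g M) (hle : M ≤ movSp g) :
    M = ⊥ ∨ p ∣ 4 ^ Module.finrank F M - 1 := by
  rw [← card_submodule hF]
  refine card_stable hp hgp hM (eq_bot_iff.2 fun x hx => ?_)
  rw [← lin_injOn_sq hF hodd hgp]
  exact ⟨hle hx.1, hx.2⟩

theorem finrank_le_six (M : Submodule F V) : Module.finrank F M ≤ 6 :=
  (Submodule.finrank_le M).trans (by rw [Module.finrank_fintype_fun_eq_card, Fintype.card_fin])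

/-- An element whose order is prime to all relevant numbers. -/
theorem pow_fix {h : SU₆} {p : ℕ} (hp : p ∣ 27590492160) (x : V) :
    lin ((h ^ p) ^ (27590492160 / p)) x = x := by
  rw [← pow_mul, Nat.mul_div_cancel' hp, ← card_su_six hF, pow_card_eq_one', lin_one]

/-- Order eleven: the moved part is irreducible of dimension five. -/
theorem eleven_parts [DecidableEq F] {g : SU₆} (hgp : g ^ 11 = 1) (hg : g ≠ 1) :
    Module.finrank F (movSp g) = 5 ∧ Module.finrank F (fixSp g) = 1 ∧ Minimal g (movSp g) := by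
  have key : ∀ M : Submodule F V, Stable g M → M ≤ movSp g → M ≠ ⊥ → Module.finrank F M = 5 := by
    intro M hM hle hne
    have h := (moved_stable hF (by norm_num) ⟨5, rfl⟩ hgp hM hle).resolve_left hne
    have h6 := finrank_le_six hF M
    have h0 : Module.finrank F M ≠ 0 := fun e => hne (Submodule.finrank_eq_zero.1 e)
    interval_cases hfr : Module.finrank F M <;> first
      | (exfalso; norm_num at h; done) | (exfalso; exact h0 rfl) | omega
  have h5 := key _ (stable_movSp (Commute.refl g)) le_rfl (movSp_ne_bot hF hg)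
  refine ⟨h5, by have := finrank_movSp_add hF (g := g); omega, fun M hM hle => ?_⟩
  by_cases hne : M = ⊥
  · exact Or.inl hne
  · exact Or.inr (Submodule.eq_of_le_of_finrank_eq hle (by rw [key M hM hle hne, h5]))

/-- Order eleven: the centraliser. -/
theorem eleven_center {g h : SU₆} (hgp : g ^ 11 = 1) (hg : g ≠ 1) (c : Commute h g) :
    h ^ 11 ∈ Subgroup.center SU₆ := by
  classical
  obtain ⟨h5, h1, hmin⟩ := eleven_parts hF hgp hg
  have hc' : Commute (h ^ 11) g := c.pow_left 11
  have hU := stable_movSp hc'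
  have hst := stable_movSp (Commute.refl g)
  have hd := hmin.pow_gcd_fix hc' hst hU (n := 27590492160 / 11) fun x _ => pow_fix hF (by norm_num) x
  rw [card_submodule hF, h5] at hd
  norm_num at hd
  obtain ⟨a, ha, hscal⟩ := hmin.scalar hF hc' hst (movSp_ne_bot hF hg) hU hd
  obtain ⟨⟨w, hw⟩, hw0, hspan⟩ := finrank_eq_one_iff'.1 h1
  obtain ⟨b, hb⟩ := hspan ⟨lin (h ^ 11) w, stable_fixSp hc' w hw⟩
  have hb' : lin (h ^ 11) w = b • w := (congrArg Subtype.val hb).symm
  have hW : ∀ x ∈ fixSp g, lin (h ^ 11) x = b • x := fun x hx => by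
    obtain ⟨s, hs⟩ := hspan ⟨x, hx⟩
    rw [show x = s • w from (congrArg Subtype.val hs).symm, map_smul, hb', smul_comm]
  have hc := isCompl hF (p := 11) ⟨5, rfl⟩ hgp
  have hdet := det_scalar hF hc hscal hW
  rw [h5, h1, pow_one] at hdet
  have hba : b = a := by linear_combination a * hdet - (a ^ 3 * b + b) * ha
  exact scalar_of_compl hF hc hscal (hba ▸ hW)

/-- Order seven: two totally isotropic irreducible halves. -/
theorem seven_parts [DecidableEq F] {g : SU₆} (hgp : g ^ 7 = 1) (hg : g ≠ 1) :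
    fixSp g = ⊥ ∧ IsCompl (LinearMap.ker (quad g 1 1 0 1)) (LinearMap.ker (quad g 1 0 1 1)) ∧
      Module.finrank F (LinearMap.ker (quad g 1 1 0 1)) = 3 ∧ Module.finrank F (LinearMap.ker (quad g 1 0 1 1)) = 3 ∧
      Minimal g (LinearMap.ker (quad g 1 1 0 1)) ∧ Minimal g (LinearMap.ker (quad g 1 0 1 1)) := by
  have hgg := Commute.refl g
  have key : ∀ M : Submodule F V, Stable g M → M ≤ movSp g → M ≠ ⊥ →
      Module.finrank F M = 3 ∨ Module.finrank F M = 6 := by
    intro M hM hle hne
    have h := (moved_stable hF (by norm_num) ⟨3, rfl⟩ hgp hM hle).resolve_left hne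
    have h6 := finrank_le_six hF M
    have h0 : Module.finrank F M ≠ 0 := fun e => hne (Submodule.finrank_eq_zero.1 e)
    interval_cases hfr : Module.finrank F M <;> first
      | (exfalso; norm_num at h; done) | (exfalso; exact h0 rfl) | omega
  set A := quad g (1 : F) 1 0 1 with hA
  set B := quad g (1 : F) 0 1 1 with hB
  have hAB : ∀ x ∈ movSp g, A (B x) = 0 := by
    intro x hx
    have hmem : A (B x) ∈ movSp g ⊓ fixSp g := by
      refine ⟨?_, mem_fixSp.2 ?_⟩
      · have hB' : ∀ z ∈ movSp g, ∀ a b c d : F, quad g a b c d z ∈ movSp g := fun z hz a b c d => by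
          rw [quad_apply]
          have s := stable_movSp hgg
          exact add_mem (add_mem (add_mem (Submodule.smul_mem _ _ hz) (Submodule.smul_mem _ _ (s _ hz)))
            (Submodule.smul_mem _ _ (s _ (s _ hz)))) (Submodule.smul_mem _ _ (s _ (s _ (s _ hz))))
        exact hB' _ (hB' x hx _ _ _ _) _ _ _ _
      · have e7 : lin g (lin g (lin g (lin g (lin g (lin g (lin g x)))))) = x := by
          have := congrArg (fun z => lin z x) hgp
          simpa [pow_succ, lin_mul, lin_one] using this
        rw [hA, hB, quad_apply, quad_apply]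
        simp only [map_add, map_smul, e7, one_smul, zero_smul, map_zero, add_zero]
        linear_combination (norm := module)
          USix.vadd_self hF (lin g (lin g (lin g (lin g x)))) - USix.vadd_self hF (lin g (lin g (lin g x)))
    rwa [lin_injOn_sq hF (p := 7) ⟨3, rfl⟩ hgp, Submodule.mem_bot] at hmem
  have hU : movSp g = ⊤ := by
    rcases key _ (stable_movSp hgg) le_rfl (movSp_ne_bot hF hg) with h3 | h6
    · exfalso
      refine movSp_ne_bot hF hg (bot_of_perp hF (isCompl hF (p := 7) ⟨3, rfl⟩ hgp) ?_ fun x hx y hy => perp_mov_fix hF hx hy)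
      have small : ∀ M : Submodule F V, Stable g M → M ≤ movSp g → M = ⊥ ∨ M = movSp g := fun M hM hle => by
        by_cases hne : M = ⊥
        · exact Or.inl hne
        · have h := key M hM hle hne
          have := Submodule.finrank_mono hle
          exact Or.inr (Submodule.eq_of_le_of_finrank_eq hle (by omega))
      rcases small _ (stable_quad hF hgg 1 0 1 1) inf_le_left with e | e
      · intro x hx y hy
        have mem : ∀ z ∈ movSp g, z ∈ LinearMap.ker A := fun z hz => by
          have hst : Stable g (movSp g ⊓ LinearMap.ker A) := stable_quad hF hgg 1 1 0 1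
          rcases small _ hst inf_le_left with e' | e'
          · exfalso
            have hBz : ∀ z ∈ movSp g, B z = 0 := fun z hz => by
              have hmem : B z ∈ movSp g := by
                rw [hB, quad_apply]
                have s := stable_movSp hgg
                exact add_mem (add_mem (add_mem (Submodule.smul_mem _ _ hz) (Submodule.smul_mem _ _ (s _ hz)))
                  (Submodule.smul_mem _ _ (s _ (s _ hz)))) (Submodule.smul_mem _ _ (s _ (s _ (s _ hz))))
              exact (Submodule.eq_bot_iff _).1 e' _ ⟨hmem, LinearMap.mem_ker.2 (hAB z hz)⟩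
            exact movSp_ne_bot hF hg ((Submodule.eq_bot_iff _).2 fun z hz =>
              (Submodule.eq_bot_iff _).1 e z ⟨hz, LinearMap.mem_ker.2 (hBz z hz)⟩)
          · exact (e'.symm ▸ hz : z ∈ movSp g ⊓ LinearMap.ker A).2
        exact isotropic_cubic_one hF g x (mem x hx) y (mem y hy)
      · exact fun x hx y hy => isotropic_cubic_two hF g x (e.symm ▸ hx : x ∈ movSp g ⊓ LinearMap.ker B).2 y
          (e.symm ▸ hy : y ∈ movSp g ⊓ LinearMap.ker B).2
    · exact Submodule.eq_top_of_finrank_eq (h6.trans (by rw [Module.finrank_fintype_fun_eq_card, Fintype.card_fin]))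
  have hW : fixSp g = ⊥ := by
    have := lin_injOn_sq hF (g := g) (p := 7) ⟨3, rfl⟩ hgp
    rwa [hU, top_inf_eq] at this
  have hr : LinearMap.range B ≤ LinearMap.ker A := by
    rintro _ ⟨x, rfl⟩; exact LinearMap.mem_ker.2 (hAB x (hU ▸ Submodule.mem_top))
  have hsum := LinearMap.finrank_range_add_finrank_ker B
  rw [Module.finrank_fintype_fun_eq_card, Fintype.card_fin] at hsum
  have hA3 : 2 * Module.finrank F (LinearMap.ker A) ≤ 6 := finrank_isotropic hF (isotropic_cubic_one hF g)
  have hB3 : 2 * Module.finrank F (LinearMap.ker B) ≤ 6 := finrank_isotropic hF (isotropic_cubic_two hF g)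
  have hrle := Submodule.finrank_mono hr
  have dA : Module.finrank F (LinearMap.ker A) = 3 := by omega
  have dB : Module.finrank F (LinearMap.ker B) = 3 := by omega
  have hdis : LinearMap.ker A ⊓ LinearMap.ker B = ⊥ := by
    rw [Submodule.eq_bot_iff]
    rintro x ⟨hx1, hx2⟩
    rw [SetLike.mem_coe, LinearMap.mem_ker, quad_apply] at hx1 hx2
    simp only [one_smul, zero_smul, add_zero] at hx1 hx2
    have : lin g x ∈ fixSp g := mem_fixSp.2 (by
      linear_combination (norm := module) hx1 + hx2 - USix.vadd_self hF (x + lin g (lin g (lin g x)) + lin g x))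
    rw [hW, Submodule.mem_bot] at this
    exact lin_injective g (this.trans (map_zero _).symm)
  have hcompl : IsCompl (LinearMap.ker A) (LinearMap.ker B) := by
    refine ⟨disjoint_iff.2 hdis, codisjoint_iff.2 (Submodule.eq_top_of_finrank_eq ?_)⟩
    have h := Submodule.finrank_sup_add_finrank_inf_eq (LinearMap.ker A) (LinearMap.ker B)
    rw [hdis, finrank_bot, add_zero, dA, dB] at h
    rw [h, Module.finrank_fintype_fun_eq_card, Fintype.card_fin]
  have hmin : ∀ Q : Submodule F V, Module.finrank F Q = 3 → Minimal g Q := fun Q hQ M hM hle => by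
    by_cases hne : M = ⊥
    · exact Or.inl hne
    · have h := key M hM (hU ▸ le_top) hne
      have := Submodule.finrank_mono hle
      exact Or.inr (Submodule.eq_of_le_of_finrank_eq hle (by omega))
  exact ⟨hW, hcompl, dA, dB, hmin _ dA, hmin _ dB⟩

/-- Cubic combinations vanish only trivially. -/
theorem cubic_norm_ne {a b e c : F} (hc : c ^ 3 = 1) (hc1 : c ≠ 1)
    (h : a ^ 3 + b ^ 3 * c + e ^ 3 * c ^ 2 + a * b * e * c = 0) : a = 0 ∧ b = 0 ∧ e = 0 := by
  have hc0 : c ≠ 0 := fun h => by rw [h] at hc; simp at hc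
  have hs : 1 + c + c ^ 2 = 0 := by
    rcases mul_eq_zero.1 (show (c - 1) * (1 + c + c ^ 2) = 0 by linear_combination hc) with e | e
    · exact absurd (sub_eq_zero.1 e) hc1
    · exact e
  have ht := USix.two_eq_zero hF
  have hcc : ∀ x : F, x = 0 ∧ x ^ 3 = 0 ∨ x ≠ 0 ∧ x ^ 3 = 1 := fun x => by
    rcases eq_or_ne x 0 with e | e
    · exact Or.inl ⟨e, by rw [e]; ring⟩
    · exact Or.inr ⟨e, USix.cube_eq_one hF e⟩
  rcases hcc a with ⟨a0, a3⟩ | ⟨a0, a3⟩ <;> rcases hcc b with ⟨b0, b3⟩ | ⟨b0, b3⟩ <;>
    rcases hcc e with ⟨e0, e3⟩ | ⟨e0, e3⟩ <;> rw [a3, b3, e3] at h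
  case inl.inl.inl => exact ⟨a0, b0, e0⟩
  case inr.inr.inr =>
    exact absurd (show a * b * e * c = 0 by linear_combination h - hs)
      (mul_ne_zero (mul_ne_zero (mul_ne_zero a0 b0) e0) hc0)
  all_goals exfalso
  · subst a0; subst b0; exact pow_ne_zero 2 hc0 (by linear_combination h)
  · subst a0; subst e0; exact hc0 (by linear_combination h)
  · subst a0; exact one_ne_zero (show (1 : F) = 0 by linear_combination hs - h)
  · subst b0; subst e0; exact one_ne_zero (show (1 : F) = 0 by linear_combination h)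
  · subst b0; exact hc0 (show c = 0 by linear_combination hs - h)
  · subst e0; exact pow_ne_zero 2 hc0 (by linear_combination hs - h)

/-- The determinant on a three dimensional subspace of an element with scalar cube. -/
theorem det_three {h : SU₆} {Q : Submodule F V}
    (hd : Module.finrank F Q = 3) (hh : Stable h Q) {c : F} (hc : c ^ 3 = 1) (hc1 : c ≠ 1)
    (h3 : ∀ x ∈ Q, lin h (lin h (lin h x)) = c • x) :
    LinearMap.det ((lin h).restrict hh) = c := by
  classical
  obtain ⟨q, hq, hq0⟩ := (Submodule.ne_bot_iff Q).1 (fun e => by rw [e, finrank_bot] at hd; omega)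
  have hindep : ∀ a b e : F, a • q + b • lin h q + e • lin h (lin h q) = 0 → a = 0 ∧ b = 0 ∧ e = 0 := by
    intro a b e h0
    refine cubic_norm_ne hF hc hc1 ?_
    by_contra hne
    refine hq0 ((smul_eq_zero.1 (?_ : (a ^ 3 + b ^ 3 * c + e ^ 3 * c ^ 2 + a * b * e * c) • q = 0)).resolve_left hne)
    have hs : 1 + c + c ^ 2 = 0 := by
      rcases mul_eq_zero.1 (show (c - 1) * (1 + c + c ^ 2) = 0 by linear_combination hc) with e | e
      · exact absurd (sub_eq_zero.1 e) hc1
      · exact e
    have ht := USix.two_eq_zero hF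
    have r1 := congrArg (lin h) h0
    have r2 := congrArg (lin h) r1
    simp only [map_add, map_smul, map_zero, h3 q hq] at r1 r2
    linear_combination (norm := skip)
      (a ^ 2 - b * e * c) • h0 + (e ^ 2 * c - a * b) • r1 + (b ^ 2 - a * e) • r2
    match_scalars <;> first
      | linear_combination (2 * a * b * e * c) * ht
      | linear_combination (-(2 * a * b * e * c)) * ht
      | ring
  let v : Fin 3 → Q := ![⟨q, hq⟩, ⟨lin h q, hh q hq⟩, ⟨lin h (lin h q), hh _ (hh q hq)⟩]
  have hli : LinearIndependent F v := by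
    rw [Fintype.linearIndependent_iff]
    intro f hf
    simp only [Fin.sum_univ_three] at hf
    have := congrArg Subtype.val hf
    obtain ⟨f0, f1, f2⟩ := hindep (f 0) (f 1) (f 2) (by simpa [v] using this)
    intro i; fin_cases i; exacts [f0, f1, f2]
  let bb := basisOfLinearIndependentOfCardEqFinrank hli (by rw [hd, Fintype.card_fin])
  have hbb : ∀ i, bb i = v i := fun i => by simp [bb]
  rw [← LinearMap.det_toMatrix bb, Matrix.det_fin_three]
  have e0 : (lin h).restrict hh (bb 0) = bb 1 := by rw [hbb, hbb]; rfl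
  have e1 : (lin h).restrict hh (bb 1) = bb 2 := by rw [hbb, hbb]; rfl
  have e2 : (lin h).restrict hh (bb 2) = c • bb 0 := by
    rw [hbb, hbb]; exact Subtype.ext (h3 q hq)
  simp only [LinearMap.toMatrix_apply, e0, e1, e2, map_smul, Module.Basis.repr_self]
  simp [Finsupp.single_apply]

/-- Order seven: the centraliser. -/
theorem seven_center {g h : SU₆} (hgp : g ^ 7 = 1) (hg : g ≠ 1) (c : Commute h g) :
    h ^ 7 ∈ Subgroup.center SU₆ := by
  classical
  obtain ⟨hW, hcompl, dA, dB, mA, mB⟩ := seven_parts hF hgp hg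
  set Q := LinearMap.ker (quad g (1 : F) 1 0 1) with hQdef
  set R := LinearMap.ker (quad g (1 : F) 0 1 1) with hRdef
  set k := h ^ 7 with hk
  have ck : Commute k g := c.pow_left 7
  have hgQ : Stable g Q := stable_ker (quad_comm (Commute.refl g) _ _ _ _)
  have hgR : Stable g R := stable_ker (quad_comm (Commute.refl g) _ _ _ _)
  have hkQ : Stable k Q := stable_ker (quad_comm ck _ _ _ _)
  have hkR : Stable k R := stable_ker (quad_comm ck _ _ _ _)
  have nine : ∀ (P : Submodule F V), Stable g P → Minimal g P → Stable k P → Module.finrank F P = 3 →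
      ∀ x ∈ P, lin ((k ^ 3) ^ 3) x = x := by
    intro P h1 h2 h3 h4 x hx
    have := h2.pow_gcd_fix ck h1 h3 (n := 27590492160 / 7) (fun x _ => pow_fix hF (by norm_num) x) x hx
    rw [card_submodule hF, h4] at this
    norm_num at this
    rwa [← pow_mul]
  have hQ0 : Q ≠ ⊥ := fun e => by rw [e, finrank_bot] at dA; omega
  have hR0 : R ≠ ⊥ := fun e => by rw [e, finrank_bot] at dB; omega
  obtain ⟨a, ha, hQa⟩ := mA.scalar hF (ck.pow_left 3) hgQ hQ0 (hkQ.pow 3) (nine Q hgQ mA hkQ dA)
  obtain ⟨b, hb, hRb⟩ := mB.scalar hF (ck.pow_left 3) hgR hR0 (hkR.pow 3) (nine R hgR mB hkR dB)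
  -- the pairing between the halves is not zero
  have dual : ∀ {m : SU₆} {s t : F}, t ^ 3 = 1 → (∀ x ∈ Q, lin m x = s • x) → (∀ x ∈ R, lin m x = t • x) → s = t := by
    intro m s t ht hs' ht'
    obtain ⟨x, hx, y, hy, hxy⟩ : ∃ x ∈ Q, ∃ y ∈ R, 𝕙 x y ≠ 0 := by
      by_contra! hall
      exact hQ0 (bot_of_perp hF hcompl (isotropic_cubic_one hF g) hall)
    have e := herm_lin m x y
    rw [hs' x hx, ht' y hy, hermForm_smul_left, hermForm_smul_right] at e
    have h1 : s * t ^ 2 = 1 := mul_right_cancel₀ hxy (by rw [one_mul, mul_assoc]; exact e)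
    linear_combination t * h1 - s * ht
  have hab : a = b := dual hb hQa hRb
  subst hab
  have three : ∀ (P : Submodule F V), (∀ x ∈ P, lin (k ^ 3) x = a • x) →
      ∀ x ∈ P, lin k (lin k (lin k x)) = a • x := fun P hP x hx => by
    rw [← hP x hx, pow_succ, pow_two, lin_mul, lin_mul]
  by_cases ha1 : a = 1
  · have hfixQ : ∀ x ∈ Q, lin (k ^ 3) x = x := fun x hx => by rw [hQa x hx, ha1, one_smul]
    have hfixR : ∀ x ∈ R, lin (k ^ 3) x = x := fun x hx => by rw [hRb x hx, ha1, one_smul]
    obtain ⟨s, hs3, hs⟩ := mA.scalar hF ck hgQ hQ0 hkQ hfixQ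
    obtain ⟨t, ht3, ht⟩ := mB.scalar hF ck hgR hR0 hkR hfixR
    obtain rfl : s = t := dual ht3 hs ht
    exact scalar_of_compl hF hcompl hs ht
  · exfalso
    let e := Submodule.prodEquivOfIsCompl Q R hcompl
    have he : lin k = (e : (Q × R) →ₗ[F] V) ∘ₗ
        (LinearMap.prodMap ((lin k).restrict hkQ) ((lin k).restrict hkR)) ∘ₗ (e.symm : V →ₗ[F] Q × R) := by
      refine LinearMap.ext fun x => ?_
      obtain ⟨⟨u, w⟩, rfl⟩ := e.surjective x
      simp [e]
      rfl
    have h1 : LinearMap.det (lin k) = 1 := by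
      rw [lin, ← Matrix.toLin'_apply', LinearMap.det_toLin']
      exact k.1.2
    rw [he, LinearMap.det_conj, LinearMap.det_prodMap,
      det_three hF dA hkQ ha ha1 (three Q hQa), det_three hF dB hkR ha ha1 (three R hRb)] at h1
    exact ha1 (by linear_combination -a * h1 + ha)

/-- Order five: two totally isotropic irreducible planes and an anisotropic fixed line. -/
theorem five_parts [DecidableEq F] {g : SU₆} {w : F} (hw : 1 + w + w ^ 2 = 0) (hgp : g ^ 5 = 1) (hg : g ≠ 1) :
    Module.finrank F (fixSp g) = 2 ∧ Module.finrank F (movSp g) = 4 ∧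
      (∀ P : Submodule F V, P = movSp g ⊓ LinearMap.ker (quad g 1 w 1 0) ∨
          P = movSp g ⊓ LinearMap.ker (quad g 1 (w ^ 2) 1 0) →
        Module.finrank F P = 2 ∧ Minimal g P ∧ ∀ x ∈ P, ∀ y ∈ P, 𝕙 x y = 0) ∧
      (movSp g ⊓ LinearMap.ker (quad g 1 w 1 0)) ⊔ (movSp g ⊓ LinearMap.ker (quad g 1 (w ^ 2) 1 0)) = movSp g := by
  have hgg := Commute.refl g
  have ht := USix.two_eq_zero hF
  have hw0 : w ≠ 0 := fun e => by rw [e] at hw; simp at hw
  have hw3 := USix.cube_eq_one hF hw0
  have hw2 : 1 + w ^ 2 + (w ^ 2) ^ 2 = 0 := by linear_combination hw + w * hw3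
  have hodd : Odd 5 := ⟨2, rfl⟩
  have key : ∀ M : Submodule F V, Stable g M → M ≤ movSp g → M ≠ ⊥ →
      Module.finrank F M = 2 ∨ Module.finrank F M = 4 ∨ Module.finrank F M = 6 := by
    intro M hM hle hne
    have h := (moved_stable hF (by norm_num) hodd hgp hM hle).resolve_left hne
    have h6 := finrank_le_six hF M
    have h0 : Module.finrank F M ≠ 0 := fun e => hne (Submodule.finrank_eq_zero.1 e)
    interval_cases hfr : Module.finrank F M <;> first
      | (exfalso; norm_num at h; done) | (exfalso; exact h0 rfl) | omega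
  have hUm : ∀ z ∈ movSp g, ∀ a b c d : F, quad g a b c d z ∈ movSp g := fun z hz a b c d => by
    rw [quad_apply]
    have s := stable_movSp hgg
    exact add_mem (add_mem (add_mem (Submodule.smul_mem _ _ hz) (Submodule.smul_mem _ _ (s _ hz)))
      (Submodule.smul_mem _ _ (s _ (s _ hz)))) (Submodule.smul_mem _ _ (s _ (s _ (s _ hz))))
  set A := quad g 1 w 1 0 with hA
  set B := quad g 1 (w ^ 2) 1 0 with hB
  set P := movSp g ⊓ LinearMap.ker A
  set Q := movSp g ⊓ LinearMap.ker B
  have hAB : ∀ x ∈ movSp g, A (B x) = 0 := by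
    intro x hx
    have hmem : A (B x) ∈ movSp g ⊓ fixSp g := by
      refine ⟨hUm _ (hUm x hx _ _ _ _) _ _ _ _, mem_fixSp.2 ?_⟩
      have e5 : lin g (lin g (lin g (lin g (lin g x)))) = x := by
        have := congrArg (fun z => lin z x) hgp
        simpa [pow_succ, lin_mul, lin_one] using this
      rw [hA, hB, quad_apply, quad_apply]
      simp only [map_add, map_smul, e5, one_smul, zero_smul, add_zero]
      linear_combination (norm := skip) (0 : F) • e5
      match_scalars <;> first
        | linear_combination (0 : F) * hw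
        | linear_combination hw - ht
        | linear_combination -hw + ht
        | linear_combination hw - hw3 - 2 * ht
        | linear_combination -hw + hw3 + 2 * ht
        | linear_combination hw + hw3
        | linear_combination -hw - hw3
        | linear_combination hw + hw3 - ht
        | linear_combination -hw - hw3 + ht
        | linear_combination hw3
        | linear_combination -hw3
        | linear_combination hw
        | linear_combination -hw
    rwa [lin_injOn_sq hF hodd hgp, Submodule.mem_bot] at hmem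
  have hPi : ∀ x ∈ P, ∀ y ∈ P, 𝕙 x y = 0 := isotropic_pair hF fun x hx => iso_quadratic hF hw hx.2
  have hQi : ∀ x ∈ Q, ∀ y ∈ Q, 𝕙 x y = 0 := isotropic_pair hF fun x hx => iso_quadratic hF hw2 hx.2
  have small : ∀ R : Submodule F V, Stable g R → R ≤ movSp g → (∀ x ∈ R, ∀ y ∈ R, 𝕙 x y = 0) →
      Module.finrank F R = 0 ∨ Module.finrank F R = 2 := fun R h1 h2 h3 => by
    have := finrank_isotropic hF h3
    by_cases hne : R = ⊥
    · rw [hne, finrank_bot]; exact Or.inl rfl
    · have := key R h1 h2 hne; omega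
  have hP := small P (stable_quad hF hgg _ _ _ _) inf_le_left hPi
  have hQ := small Q (stable_quad hF hgg _ _ _ _) inf_le_left hQi
  -- the moved part is covered by the two
  let f : movSp g →ₗ[F] P := LinearMap.codRestrict P (B ∘ₗ (movSp g).subtype)
    fun x => ⟨hUm x x.2 _ _ _ _, LinearMap.mem_ker.2 (hAB x x.2)⟩
  have hker : Module.finrank F (LinearMap.ker f) = Module.finrank F Q := by
    refine LinearEquiv.finrank_eq
      { toFun := fun x => ⟨x.1.1, x.1.2, by
          have := congrArg Subtype.val (LinearMap.mem_ker.1 x.2)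
          exact LinearMap.mem_ker.2 this⟩
        invFun := fun x => ⟨⟨x.1, x.2.1⟩, LinearMap.mem_ker.2
          (Subtype.ext (LinearMap.mem_ker.1 x.2.2))⟩
        left_inv := fun x => rfl
        right_inv := fun x => rfl
        map_add' := fun x y => rfl
        map_smul' := fun c x => rfl }
  have hle : Module.finrank F (movSp g) ≤ Module.finrank F P + Module.finrank F Q := by
    rw [← LinearMap.finrank_range_add_finrank_ker f, hker]
    exact Nat.add_le_add_right (Submodule.finrank_le _) _
  have hdis : P ⊓ Q = ⊥ := by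
    rw [Submodule.eq_bot_iff]
    rintro x ⟨⟨hxU, h1⟩, -, h2⟩
    rw [SetLike.mem_coe, LinearMap.mem_ker, quad_apply] at h1 h2
    simp only [one_smul, zero_smul, add_zero] at h1 h2
    have : lin g x = 0 := by
      linear_combination (norm := skip) (-1 : F) • h1 + (1 : F) • h2 + (0 : F) • h1
      match_scalars <;> first
        | linear_combination hw - w * ht
        | linear_combination -hw + w * ht
        | linear_combination hw - (w ^ 2) * ht
        | linear_combination -hw + (w ^ 2) * ht
        | ring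
    exact lin_injective g (this.trans (map_zero _).symm)
  have hsup := Submodule.finrank_sup_add_finrank_inf_eq P Q
  rw [hdis, finrank_bot, add_zero] at hsup
  have hsle : P ⊔ Q ≤ movSp g := sup_le inf_le_left inf_le_left
  have hall := Submodule.eq_of_le_of_finrank_le hsle (by omega)
  have h4 : Module.finrank F (movSp g) = 4 := by
    rcases key _ (stable_movSp hgg) le_rfl (movSp_ne_bot hF hg) with h | h | h
    · exfalso
      refine movSp_ne_bot hF hg (bot_of_perp hF (isCompl hF hodd hgp) ?_ fun x hx y hy => perp_mov_fix hF hx hy)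
      rcases hP with h0 | h2
      · rw [Submodule.finrank_eq_zero.1 h0, bot_sup_eq] at hall
        rw [← hall]; exact hQi
      · have : P = movSp g := Submodule.eq_of_le_of_finrank_eq inf_le_left (by omega)
        rw [← this]; exact hPi
    · exact h
    · omega
  have hadd := finrank_movSp_add hF (g := g)
  refine ⟨by omega, h4, ?_, hall⟩
  rintro R (rfl | rfl)
  · refine ⟨by omega, fun M hM hle' => ?_, hPi⟩
    by_cases hne : M = ⊥
    · exact Or.inl hne
    · have := key M hM (hle'.trans inf_le_left) hne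
      have := Submodule.finrank_mono hle'
      exact Or.inr (Submodule.eq_of_le_of_finrank_eq hle' (by omega))
  · refine ⟨by omega, fun M hM hle' => ?_, hQi⟩
    by_cases hne : M = ⊥
    · exact Or.inl hne
    · have := key M hM (hle'.trans inf_le_left) hne
      have := Submodule.finrank_mono hle'
      exact Or.inr (Submodule.eq_of_le_of_finrank_eq hle' (by omega))

/-- Order five: the centraliser acting by a scalar on the fixed space. -/
theorem five_center {g h : SU₆} (hgp : g ^ 5 = 1) (hg : g ≠ 1) (c : Commute h g) {b : F}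
    (hb : ∀ x ∈ fixSp g, lin h x = b • x) : h ^ 5 ∈ Subgroup.center SU₆ := by
  classical
  obtain ⟨w, -, -, hw⟩ := USix.exists_omega hF
  obtain ⟨hW2, hU4, hparts, hsup⟩ := five_parts hF hw hgp hg
  set P := movSp g ⊓ LinearMap.ker (quad g 1 w 1 0)
  set Q := movSp g ⊓ LinearMap.ker (quad g 1 (w ^ 2) 1 0)
  obtain ⟨dP, mP, iP⟩ := hparts P (Or.inl rfl)
  obtain ⟨dQ, mQ, iQ⟩ := hparts Q (Or.inr rfl)
  have ck : Commute (h ^ 5) g := c.pow_left 5
  have hgg := Commute.refl g
  have scal : ∀ R : Submodule F V, Stable g R → Minimal g R → Stable (h ^ 5) R → Module.finrank F R = 2 →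
      ∃ a : F, a ^ 3 = 1 ∧ ∀ x ∈ R, lin (h ^ 5) x = a • x := fun R h1 h2 h3 h4 => by
    have hd := h2.pow_gcd_fix ck h1 h3 (n := 27590492160 / 5) fun x _ => pow_fix hF (by norm_num) x
    rw [card_submodule hF, h4] at hd
    norm_num at hd
    exact h2.scalar hF ck h1 (fun e => by rw [e, finrank_bot] at h4; omega) h3 hd
  obtain ⟨a, ha, hPa⟩ := scal P (stable_quad hF hgg _ _ _ _) mP (stable_quad hF ck _ _ _ _) dP
  obtain ⟨a', ha', hQa⟩ := scal Q (stable_quad hF hgg _ _ _ _) mQ (stable_quad hF ck _ _ _ _) dQ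
  obtain ⟨x, hx, y, hy, hxy⟩ : ∃ x ∈ P, ∃ y ∈ Q, 𝕙 x y ≠ 0 := by
    by_contra! hall
    have hP0 : P = ⊥ := by
      refine (Submodule.eq_bot_iff _).2 fun x hx => eq_zero_of_perp hF fun z => ?_
      obtain ⟨u, hu, v, hv, rfl⟩ := Submodule.mem_sup.1
        ((isCompl hF (p := 5) ⟨2, rfl⟩ hgp).sup_eq_top ▸ Submodule.mem_top : z ∈ movSp g ⊔ fixSp g)
      rw [hermForm_add_right hF, perp_mov_fix hF hx.1 hv, add_zero]
      obtain ⟨p', hp', q', hq', rfl⟩ := Submodule.mem_sup.1 (hsup.symm ▸ hu : u ∈ P ⊔ Q)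
      rw [hermForm_add_right hF, iP x hx p' hp', hall x hx q' hq', add_zero]
    rw [hP0, finrank_bot] at dP
    omega
  have e := herm_lin (h ^ 5) x y
  rw [hPa x hx, hQa y hy, hermForm_smul_left, hermForm_smul_right] at e
  have h1 : a * a' ^ 2 = 1 := mul_right_cancel₀ hxy (by rw [one_mul, mul_assoc]; exact e)
  have haa : a = a' := by linear_combination a' * h1 - a * ha'
  subst haa
  have hU : ∀ z ∈ movSp g, lin (h ^ 5) z = a • z := fun z hz => by
    obtain ⟨p', hp', q', hq', rfl⟩ := Submodule.mem_sup.1 (hsup.symm ▸ hz : z ∈ P ⊔ Q)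
    rw [map_add, hPa _ hp', hQa _ hq', smul_add]
  have hW : ∀ z ∈ fixSp g, lin (h ^ 5) z = b ^ 5 • z := fun z hz => lin_pow_smul (hb z hz) 5
  have hc := isCompl hF (p := 5) ⟨2, rfl⟩ hgp
  have hdet := det_scalar hF hc hU hW
  rw [hU4, hW2] at hdet
  have hba : b ^ 5 = a := by
    refine USix.sq_inj hF ?_
    linear_combination a ^ 2 * hdet - (a ^ 3 * (b ^ 5) ^ 2 + (b ^ 5) ^ 2) * ha
  exact scalar_of_compl hF hc hU (hba ▸ hW)

end CfsgLib.ThreeTrans.Torsion
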