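import Mathlib
import Cfsg.Agent.Lib.ThreeTrans.Tower.UnitaryLocal
import Cfsg.Agent.Lib.ThreeTrans.Torsion.Isometry
import Cfsg.Agent.Lib.ThreeTrans.Torsion.Basic

/-! Subgroups of order 11, 7 and 5 of the six dimensional projective unitary group over four elements. -/

set_option autoImplicit false
set_option linter.unusedSectionVars false

namespace CfsgLib.ThreeTrans.Torsion

open Matrix CfsgLib.ClassicalGroups CfsgLib.ThreeTrans CfsgLib.ThreeTrans.Tower CfsgLib.ThreeTrans.USix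

variable {F : Type*} [Field F] [Fintype F]

local notation "V" => Fin 6 → F
local notation "𝕙" => Cfsg.hermForm 6 F 2
local notation "SU₆" => Cfsg.SU 6 F 2
local notation "PSU₆" => Cfsg.PSU 6 F 2

variable (hF : Fintype.card F = 2 ^ 2)
include hF

/-- Lifts of subgroups of prime order other than three. -/
theorem exists_lift {p : ℕ} [Fact p.Prime] (hp3 : p ≠ 3) {X : Subgroup PSU₆} (hX : Nat.card X = p) :
    ∃ g : SU₆, g ^ p = 1 ∧ g ≠ 1 ∧ Subgroup.zpowers (QuotientGroup.mk g : PSU₆) = X ∧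
      ∀ h : SU₆, (QuotientGroup.mk h : PSU₆) ∈ Subgroup.centralizer (X : Set PSU₆) ↔ Commute h g := by
  have hp : p.Prime := Fact.out
  haveI : Nontrivial X := (Finite.one_lt_card_iff_nontrivial).1 (by rw [hX]; exact hp.one_lt)
  obtain ⟨⟨x, hx⟩, hx1⟩ := exists_ne (1 : X)
  have hox : orderOf x = p := by
    have h := orderOf_dvd_natCard (⟨x, hx⟩ : X)
    rw [hX, Subgroup.orderOf_mk] at h
    exact (hp.eq_one_or_self_of_dvd _ h).resolve_left fun e => hx1 (Subtype.ext (orderOf_eq_one_iff.1 e))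
  obtain ⟨h₀, rfl⟩ := QuotientGroup.mk_surjective x
  have hz : h₀ ^ p ∈ Subgroup.center SU₆ := by
    rw [← QuotientGroup.eq_one_iff, QuotientGroup.mk_pow, ← hox, pow_orderOf_eq_one]
  set g := h₀ ^ 3 with hg
  have hgp : g ^ p = 1 := by
    rw [hg, ← pow_mul, mul_comm, pow_mul, pow_succ, pow_two, center_cube hF hz]
  have h3 : Nat.Coprime 3 p := (Nat.coprime_primes Nat.prime_three hp).2 (Ne.symm hp3)
  have hog : orderOf (QuotientGroup.mk g : PSU₆) = p := by
    rw [hg, QuotientGroup.mk_pow, Nat.Coprime.orderOf_pow (by rw [hox]; exact h3.symm), hox]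
  have hzp : Subgroup.zpowers (QuotientGroup.mk g : PSU₆) = X := by
    refine Subgroup.eq_of_le_of_card_ge ?_ (by rw [Nat.card_zpowers, hog, hX])
    rw [Subgroup.zpowers_le, hg, QuotientGroup.mk_pow]
    exact pow_mem hx 3
  refine ⟨g, hgp, fun e => ?_, hzp, fun h => ⟨fun hc => ?_, fun hc => ?_⟩⟩
  · rw [e, QuotientGroup.mk_one, orderOf_one] at hog
    exact hp.ne_one hog.symm
  · have hcm : Commute (QuotientGroup.mk h : PSU₆) (QuotientGroup.mk g) :=
      (Subgroup.mem_centralizer_iff.1 hc _ (hzp ▸ Subgroup.mem_zpowers _)).symm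
    have hzc : h * g * h⁻¹ * g⁻¹ ∈ Subgroup.center SU₆ := by
      rw [← QuotientGroup.eq_one_iff, QuotientGroup.mk_mul, QuotientGroup.mk_mul, QuotientGroup.mk_mul,
        QuotientGroup.mk_inv, QuotientGroup.mk_inv, hcm.eq, mul_inv_cancel_right, mul_inv_cancel]
    set z := h * g * h⁻¹ * g⁻¹ with hzdef
    have e : h * g * h⁻¹ = z * g := by rw [hzdef, inv_mul_cancel_right]
    have hzp1 : z ^ p = 1 := by
      have := congrArg (· ^ p) e
      simp only [conj_pow, hgp, mul_one, mul_inv_cancel] at this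
      have hzg : Commute z g := (Subgroup.mem_center_iff.1 hzc g).symm
      rw [hzg.mul_pow, hgp, mul_one] at this
      exact this.symm
    have hz1 : z = 1 := by
      have h3z : z ^ 3 = 1 := by rw [pow_succ, pow_two]; exact center_cube hF hzc
      rw [← pow_one z, ← h3.gcd_eq_one]
      exact pow_gcd_eq_one.2 ⟨h3z, hzp1⟩
    rw [hz1, one_mul, mul_inv_eq_iff_eq_mul] at e
    exact e
  · rw [Subgroup.mem_centralizer_iff]
    intro y hy
    rw [SetLike.mem_coe, ← hzp] at hy
    obtain ⟨i, rfl⟩ := Subgroup.mem_zpowers_iff.1 hy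
    exact ((hc.map (QuotientGroup.mk' _)).zpow_right i).symm.eq

/-- The order of a group containing only powers and central elements. -/
theorem mk_mem_zpowers {p : ℕ} [Fact p.Prime] (hp : ¬ p ^ 2 ∣ 27590492160) {g h : SU₆} (hgp : g ^ p = 1) (hg : g ≠ 1)
    (c : Commute h g) (hc : h ^ p ∈ Subgroup.center SU₆) :
    (QuotientGroup.mk h : PSU₆) ∈ Subgroup.zpowers (QuotientGroup.mk g) := by
  have hpp : p.Prime := Fact.out
  have hog : orderOf g = p := orderOf_eq_prime hgp hg
  obtain ⟨m, hm⟩ : p ∣ 27590492160 := card_su_six hF ▸ hog ▸ orderOf_dvd_natCard g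
  have hmp : Nat.Coprime p m := hpp.coprime_iff_not_dvd.2 fun hd => hp (by rw [hm, pow_two]; exact mul_dvd_mul_left p hd)
  have hkp : (h ^ m) ^ p = 1 := by rw [← pow_mul, mul_comm, ← hm, ← card_su_six hF, pow_card_eq_one']
  have hk : h ^ m ∈ Subgroup.zpowers g := by
    by_contra hne
    have hk1 : h ^ m ≠ 1 := fun e => hne (e ▸ one_mem _)
    have hok : orderOf (h ^ m) = p := orderOf_eq_prime hkp hk1
    let φ : ↥(Subgroup.zpowers g) × ↥(Subgroup.zpowers (h ^ m)) →* SU₆ :=
      MonoidHom.noncommCoprod (Subgroup.zpowers g).subtype (Subgroup.zpowers (h ^ m)).subtype fun a b => by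
        obtain ⟨i, hi⟩ := Subgroup.mem_zpowers_iff.1 a.2
        obtain ⟨j, hj⟩ := Subgroup.mem_zpowers_iff.1 b.2
        show Commute (a : SU₆) (b : SU₆)
        rw [← hi, ← hj]
        exact ((c.pow_left m).symm.zpow_left i).zpow_right j
    have hinj : Function.Injective φ := by
      rw [injective_iff_map_eq_one]
      rintro ⟨a, b⟩ hab
      have hab' : (a : SU₆) * (b : SU₆) = 1 := hab
      have hb : (b : SU₆) = 1 := by
        by_contra hb1
        have hbg : (b : SU₆) ∈ Subgroup.zpowers g := by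
          rw [eq_inv_of_mul_eq_one_right hab']
          exact inv_mem a.2
        have e : Subgroup.zpowers (b : SU₆) = Subgroup.zpowers (h ^ m) :=
          Subgroup.eq_of_le_of_card_ge (Subgroup.zpowers_le.2 b.2) (by
            rw [Nat.card_zpowers, Nat.card_zpowers, hok,
              (hpp.eq_one_or_self_of_dvd (orderOf (b : SU₆)) (hok ▸ orderOf_dvd_of_mem_zpowers b.2)).resolve_left
                fun e => hb1 (orderOf_eq_one_iff.1 e)])
        have hm' : h ^ m ∈ Subgroup.zpowers (b : SU₆) := by rw [e]; exact Subgroup.mem_zpowers _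
        exact hne (Subgroup.zpowers_le.2 hbg hm')
      rw [hb, mul_one] at hab'
      exact Prod.ext (Subtype.ext hab') (Subtype.ext hb)
    have hdvd := Subgroup.card_dvd_of_injective φ hinj
    rw [Nat.card_prod, Nat.card_zpowers, Nat.card_zpowers, hog, hok, card_su_six hF, ← pow_two] at hdvd
    exact hp hdvd
  have e := Nat.gcd_eq_gcd_ab p m
  rw [hmp.gcd_eq_one, Nat.cast_one] at e
  have hh : h = (h ^ p) ^ (p.gcdA m) * (h ^ m) ^ (p.gcdB m) := by
    rw [← zpow_natCast h p, ← zpow_natCast h m, ← _root_.zpow_mul, ← _root_.zpow_mul, ← _root_.zpow_add, ← e, zpow_one]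
  rw [hh, QuotientGroup.mk_mul, QuotientGroup.mk_zpow, QuotientGroup.mk_zpow, (QuotientGroup.eq_one_iff _).2 hc,
    _root_.one_zpow, one_mul]
  obtain ⟨j, hj⟩ := Subgroup.mem_zpowers_iff.1 hk
  rw [← hj, QuotientGroup.mk_zpow, ← _root_.zpow_mul]
  exact zpow_mem (Subgroup.mem_zpowers _) _

theorem centralizer_eq_of {p : ℕ} [Fact p.Prime] {X H : Subgroup PSU₆} (hX : Nat.card X = p)
    (hle : H ≤ X) (hXH : X ≤ H) : Nat.card H = p := by
  rw [le_antisymm hle hXH, hX]

theorem le_centralizer_self {p : ℕ} [Fact p.Prime] {X : Subgroup PSU₆} (hX : Nat.card X = p) :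
    X ≤ Subgroup.centralizer (X : Set PSU₆) := fun x hx => by
  haveI : IsCyclic X := isCyclic_of_prime_card hX
  rw [Subgroup.mem_centralizer_iff]
  intro y hy
  letI := IsCyclic.commGroup (α := X)
  exact congrArg Subtype.val (mul_comm (⟨y, hy⟩ : X) ⟨x, hx⟩)

/-- Order eleven. -/
theorem card_centralizer_eleven {X : Subgroup PSU₆} (hX : Nat.card X = 11) :
    Nat.card (Subgroup.centralizer (X : Set PSU₆)) = 11 := by
  haveI : Fact (Nat.Prime 11) := ⟨by norm_num⟩
  obtain ⟨g, hgp, hg, hzp, hc⟩ := exists_lift hF (by norm_num) hX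
  refine centralizer_eq_of hF hX (fun x hx => ?_) (le_centralizer_self hF hX)
  obtain ⟨h, rfl⟩ := QuotientGroup.mk_surjective x
  have c := (hc h).1 hx
  exact hzp ▸ mk_mem_zpowers hF (by norm_num) hgp hg c (eleven_center hF hgp hg c)

/-- Order seven. -/
theorem card_centralizer_seven {X : Subgroup PSU₆} (hX : Nat.card X = 7) :
    Nat.card (Subgroup.centralizer (X : Set PSU₆)) = 7 := by
  haveI : Fact (Nat.Prime 7) := ⟨by norm_num⟩
  obtain ⟨g, hgp, hg, hzp, hc⟩ := exists_lift hF (by norm_num) hX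
  refine centralizer_eq_of hF hX (fun x hx => ?_) (le_centralizer_self hF hX)
  obtain ⟨h, rfl⟩ := QuotientGroup.mk_surjective x
  have c := (hc h).1 hx
  exact hzp ▸ mk_mem_zpowers hF (by norm_num) hgp hg c (seven_center hF hgp hg c)

variable {E : Set (Cfsg.PSU 6 F 2)}

/-- A member fixed by a subgroup of prime order other than three has a fixed vector. -/
theorem mem_fixD_iff {p : ℕ} [Fact p.Prime] (hp3 : p ≠ 3) (hE : TClass E) {X : Subgroup PSU₆} {g : SU₆} (hgp : g ^ p = 1)
    (hzp : Subgroup.zpowers (QuotientGroup.mk g : PSU₆) = X)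
    {v : V} {A : SU₆} (hA : IsTvAt v A) :
    (QuotientGroup.mk A : PSU₆) ∈ fixD E X ↔ v ∈ fixSp g := by
  rw [mem_fixD, mem_fixSp]
  constructor
  · rintro ⟨-, h⟩
    obtain ⟨a, ha⟩ := map_line_of_mk_commute hF hA (h _ (hzp ▸ Subgroup.mem_zpowers _))
    have ha' : lin g v = a • v := ha
    have h1 := lin_pow_smul ha' p
    rw [hgp, lin_one] at h1
    have ha0 : a ≠ 0 := fun e => by
      rw [e, zero_smul] at ha'
      exact hA.1 (lin_injective g (ha'.trans (map_zero _).symm))
    have hap : a ^ p = 1 := smul_left_injective F hA.1 ((one_smul F v).trans h1).symm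
    have hcop : Nat.Coprime 3 p := (Nat.coprime_primes Nat.prime_three Fact.out).2 (Ne.symm hp3)
    have : a = 1 := by
      rw [← pow_one a, ← hcop.gcd_eq_one]
      exact pow_gcd_eq_one.2 ⟨cube_eq_one hF ha0, hap⟩
    rwa [this, one_smul] at ha'
  · intro h
    refine ⟨hE.hall hF hA, fun x hx => ?_⟩
    rw [← hzp] at hx
    obtain ⟨i, rfl⟩ := Subgroup.mem_zpowers_iff.1 hx
    refine Commute.zpow_left ?_ i
    refine Commute.map ?_ (QuotientGroup.mk' _)
    have hA' := hA.conj hF g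
    rw [show g.1.1 *ᵥ v = v from h] at hA'
    exact (mul_inv_eq_iff_eq_mul.1 (hA'.unique hF hA) : g * A = A * g)

/-- Order seven: no member is fixed. -/
theorem fixD_seven (hE : TClass E) {X : Subgroup PSU₆} (hX : Nat.card X = 7) : fixD E X = ∅ := by
  classical
  haveI : Fact (Nat.Prime 7) := ⟨by norm_num⟩
  obtain ⟨g, hgp, hg, hzp, -⟩ := exists_lift hF (by norm_num) hX
  refine Set.eq_empty_of_forall_notMem fun a ha => ?_
  obtain ⟨v, A, hA, rfl⟩ := hE.rep hF (mem_fixD.1 ha).1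
  have h := (mem_fixD_iff hF (by norm_num) hE hgp hzp hA).1 ha
  rw [(seven_parts hF hgp hg).1, Submodule.mem_bot] at h
  exact hA.1 h

/-- Order five: three pairwise non-commuting members are fixed, and little centralises them. -/
theorem fixD_five (hE : TClass E) {X : Subgroup PSU₆} (hX : Nat.card X = 5) :
    (fixD E X).ncard = 3 ∧ (∀ a ∈ fixD E X, ∀ b ∈ fixD E X, a ≠ b → ¬ Commute a b) ∧
      Nat.card (Subgroup.centralizer (X : Set PSU₆) ⊓ Subgroup.centralizer (fixD E X) : Subgroup PSU₆) = 5 := by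
  classical
  haveI : Fact (Nat.Prime 5) := ⟨by norm_num⟩
  obtain ⟨g, hgp, hg, hzp, hc⟩ := exists_lift hF (by norm_num) hX
  obtain ⟨w, -, -, hw⟩ := USix.exists_omega hF
  obtain ⟨hW2, hU4, -, -⟩ := five_parts hF hw hgp hg
  have hcompl := isCompl hF (p := 5) ⟨2, rfl⟩ hgp
  have hiff : ∀ {v : V} {A : SU₆}, IsTvAt v A → ((QuotientGroup.mk A : PSU₆) ∈ fixD E X ↔ v ∈ fixSp g) :=
    fun hA => mem_fixD_iff hF (by norm_num) hE hgp hzp hA
  set S := {v : V | v ∈ fixSp g ∧ v ≠ 0 ∧ 𝕙 v v = 0} with hS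
  have hpts : fixD E X = ptsOf S := by
    ext a
    constructor
    · intro ha
      obtain ⟨v, A, hA, rfl⟩ := hE.rep hF (mem_fixD.1 ha).1
      exact ⟨v, A, hA, ⟨(hiff hA).1 ha, hA.1, hA.2.1⟩, rfl⟩
    · rintro ⟨v, A, hA, hv, rfl⟩
      exact (hiff hA).2 hv.1
  have h3 := ncard_ptsOf hF (S := S) (fun v hv => hv.2) fun v hv c hc' => ⟨Submodule.smul_mem _ _ hv.1,
    smul_ne_zero hc' hv.2.1, by rw [hermForm_smul_left, hermForm_smul_right, hv.2.2, mul_zero, mul_zero]⟩
  rw [← hpts] at h3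
  have hWcard : Nat.card (fixSp g) = 16 := by rw [card_submodule hF, hW2]; norm_num
  have hS15 : S.ncard ≤ 15 := by
    have h : S ⊆ (fixSp g : Set V) \ {0} := fun v hv => ⟨hv.1, hv.2.1⟩
    refine (Set.ncard_le_ncard h (Set.toFinite _)).trans ?_
    rw [Set.ncard_diff_singleton_of_mem (Submodule.zero_mem _), ← Nat.card_coe_set_eq]
    exact le_of_eq (by rw [show Nat.card ↥((fixSp g : Set V)) = 16 from hWcard])
  have hmod : E.ncard % 5 = (fixD E X).ncard % 5 := by
    have h := ncard_modEq hX (O := E) fun x _ a ha => hE.conj x a ha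
    unfold Nat.ModEq at h
    rw [h]
    refine congrArg (fun s : Set PSU₆ => s.ncard % 5) (Set.ext fun a => ?_)
    exact (mem_fixD (D := E) (X := X) (a := a)).symm
  rw [hE.card_eq hF] at hmod
  have hn : (fixD E X).ncard = 3 := by omega
  have hnc : ∀ a ∈ fixD E X, ∀ b ∈ fixD E X, a ≠ b → ¬ Commute a b := by
    intro a ha b hb hab hcm
    obtain ⟨v, A, hA, rfl⟩ := hE.rep hF (mem_fixD.1 ha).1
    obtain ⟨u, B, hB, rfl⟩ := hE.rep hF (mem_fixD.1 hb).1
    have hvu := (commute_mk_iff hF hA hB).1 hcm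
    have hli := li_pair_of_ne hA.1 (hA.not_smul hF hB hab)
    have hle : Submodule.span F (Set.range ![v, u]) ≤ fixSp g := by
      rw [Submodule.span_le]
      rintro _ ⟨i, rfl⟩
      fin_cases i
      exacts [(hiff hA).1 ha, (hiff hB).1 hb]
    have heq : Submodule.span F (Set.range ![v, u]) = fixSp g :=
      Submodule.eq_of_le_of_finrank_eq hle (by rw [finrank_span_eq_card hli, hW2, Fintype.card_fin])
    have hiso : ∀ x ∈ fixSp g, ∀ y ∈ fixSp g, 𝕙 x y = 0 := by
      intro x hx y hy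
      rw [← heq, Matrix.range_cons, Matrix.range_cons, Matrix.range_empty, Set.union_empty,
        Set.singleton_union, Submodule.mem_span_pair] at hx hy
      obtain ⟨s, t, rfl⟩ := hx
      obtain ⟨s', t', rfl⟩ := hy
      simp [hermForm_add_left, hermForm_add_right hF, hermForm_smul_left, hermForm_smul_right, hA.2.1, hB.2.1,
        hvu, USix.herm_zero_symm hF hvu]
    have hbot := bot_of_perp hF hcompl.symm hiso fun x hx y hy => USix.herm_zero_symm hF (perp_mov_fix hF hy hx)
    exact hA.1 ((Submodule.eq_bot_iff _).1 hbot v ((hiff hA).1 ha))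
  refine ⟨hn, hnc, centralizer_eq_of hF hX ?_ ?_⟩
  · rintro x ⟨hx, hxf⟩
    obtain ⟨h, rfl⟩ := QuotientGroup.mk_surjective x
    have c := (hc h).1 hx
    obtain ⟨a₁, a₂, a₃, h12, h13, h23, he⟩ := Set.ncard_eq_three.1 hn
    have get : ∀ a ∈ fixD E X, ∃ (v : V) (A : SU₆) (s : F), IsTvAt v A ∧ QuotientGroup.mk A = a ∧ v ∈ fixSp g ∧
        lin h v = s • v := by
      intro a ha
      obtain ⟨v, A, hA, rfl⟩ := hE.rep hF (mem_fixD.1 ha).1
      obtain ⟨s, hs⟩ := map_line_of_mk_commute hF hA (g := h) (Subgroup.mem_centralizer_iff.1 hxf _ ha).symm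
      exact ⟨v, A, s, hA, rfl, (hiff hA).1 ha, hs⟩
    obtain ⟨v₁, A₁, s₁, hA₁, e₁, hv₁, hs₁⟩ := get a₁ (by rw [he]; simp)
    obtain ⟨v₂, A₂, s₂, hA₂, e₂, hv₂, hs₂⟩ := get a₂ (by rw [he]; simp)
    obtain ⟨v₃, A₃, s₃, hA₃, e₃, hv₃, hs₃⟩ := get a₃ (by rw [he]; simp)
    have hli := li_pair_of_ne hA₁.1 (hA₁.not_smul hF hA₂ (by rw [e₁, e₂]; exact h12))
    have heq : Submodule.span F (Set.range ![v₁, v₂]) = fixSp g := by
      refine Submodule.eq_of_le_of_finrank_eq ?_ (by rw [finrank_span_eq_card hli, hW2, Fintype.card_fin])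
      rw [Submodule.span_le]
      rintro _ ⟨i, rfl⟩
      fin_cases i
      exacts [hv₁, hv₂]
    rw [Matrix.range_cons, Matrix.range_cons, Matrix.range_empty, Set.union_empty, Set.singleton_union] at heq
    obtain ⟨α, β, hαβ⟩ := Submodule.mem_span_pair.1 (heq.symm ▸ hv₃ : v₃ ∈ Submodule.span F {v₁, v₂})
    have hα : α ≠ 0 := fun e => by
      rw [e, zero_smul, zero_add] at hαβ
      exact hA₂.not_smul hF hA₃ (by rw [e₂, e₃]; exact h23) β hαβ.symm
    have hβ : β ≠ 0 := fun e => by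
      rw [e, zero_smul, add_zero] at hαβ
      exact hA₁.not_smul hF hA₃ (by rw [e₁, e₃]; exact h13) α hαβ.symm
    have hsame : (α * (s₁ - s₃)) • v₁ + (β * (s₂ - s₃)) • v₂ = 0 := by
      have e := congrArg (lin h) hαβ
      rw [map_add, map_smul, map_smul, hs₁, hs₂, hs₃, ← hαβ] at e
      linear_combination (norm := module) e
    obtain ⟨z1, z2⟩ := LinearIndependent.pair_iff.1 hli _ _ hsame
    have d1 : s₁ = s₃ := sub_eq_zero.1 ((mul_eq_zero.1 z1).resolve_left hα)
    have d2 : s₂ = s₃ := sub_eq_zero.1 ((mul_eq_zero.1 z2).resolve_left hβ)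
    have hb : ∀ y ∈ fixSp g, lin h y = s₃ • y := by
      intro y hy
      rw [← heq] at hy
      obtain ⟨a, b, rfl⟩ := Submodule.mem_span_pair.1 hy
      rw [map_add, map_smul, map_smul, hs₁, hs₂, d1, d2, smul_add, smul_comm a, smul_comm b]
    exact hzp ▸ mk_mem_zpowers hF (by norm_num) hgp hg c (five_center hF hgp hg c hb)
  · refine le_inf (le_centralizer_self hF hX) fun x hx => ?_
    rw [Subgroup.mem_centralizer_iff]
    intro a ha
    exact ((mem_fixD.1 ha).2 x hx).symm.eq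

end CfsgLib.ThreeTrans.Torsion
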