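import Mathlib
import Cfsg.Agent.Lib.ThreeTrans.Tower.UnitaryLocal
import Cfsg.Agent.Lib.ThreeTrans.Torsion.Count
import Cfsg.Agent.Lib.ThreeTrans.Torsion.Unitary

/-! Subgroups of order 11 and 7 in groups of type M(22). -/

set_option autoImplicit false

namespace CfsgLib.ThreeTrans.Torsion

open CfsgLib.ThreeTrans.Tower

universe u

variable {G : Type u} [Group G] [Finite G] {D : Set G}

/-- The quotients at members in a group of type M(22). -/
theorem data22 (hD : Cfsg.IsThreeTranspositionGroup D) (hprim : Cfsg.IsPrimitiveUnderConj D)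
    (h : Cfsg.IsOfTypeM22 G D) :
    ∃ (F : Type) (_ : Field F) (_ : Fintype F) (E : Set (Cfsg.PSU 6 F 2)), Fintype.card F = 2 ^ 2 ∧ USix.TClass E ∧
      ∀ a ∈ D, Nonempty (Quot D a E) := by
  obtain ⟨d, c, F, _, _, π, hB, -, -, hloc, -, hF⟩ := bottom22 hD h
  exact ⟨F, _, _, _, hF, ⟨hloc.group.1, hloc.group.2.1, hloc.rigid.nonabelian.imp fun _ h => h.1⟩,
    fun a ha => exists_quot (stage_of_base hD hprim h.1 hloc hB rfl) (local22 hD hprim h) ha⟩

theorem ncard_far22 (hD : Cfsg.IsThreeTranspositionGroup D) (hprim : Cfsg.IsPrimitiveUnderConj D)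
    (h : Cfsg.IsOfTypeM22 G D) {a : G} (ha : a ∈ D) : (far D a).ncard = 2816 := by
  have L := local22 hD hprim h
  have e := ncard_far ha
  rw [L.card, L.deg a ha] at e
  omega

theorem nonempty_fix {p : ℕ} [Fact p.Prime] (hD : Cfsg.IsThreeTranspositionGroup D) {X : Subgroup G}
    (hX : Nat.card X = p) {n : ℕ} (hn : D.ncard = n) (hnp : n % p ≠ 0) : (fixD D X).Nonempty := by
  rw [← Set.ncard_pos (Set.toFinite _), Nat.pos_iff_ne_zero]
  intro e
  have h := fixD_modEq (conjClosed_of_group hD) hX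
  rw [hn, e, Nat.zero_mod] at h
  exact hnp h

/-- Type M(22): conjugacy of subgroups of order p, with p one of 7, 11, 13. -/
theorem conj22 {p : ℕ} [Fact p.Prime] (hD : Cfsg.IsThreeTranspositionGroup D) (hprim : Cfsg.IsPrimitiveUnderConj D)
    (h : Cfsg.IsOfTypeM22 G D) (hp : ¬ p ^ 2 ∣ 64561751654400) {X Y : Subgroup G} (hX : Nat.card X = p)
    (hY : Nat.card Y = p) : ∃ g : G, X.map (MulAut.conj g).toMonoidHom = Y := by
  obtain ⟨g, -, hg⟩ := conj_of_card (⊤ : Subgroup G) (p := p) (by rw [Subgroup.card_top, (orders22 hD hprim h).2]; exact hp)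
    le_top le_top hX hY
  exact ⟨g, hg⟩

/-- Type M(22), order eleven. -/
theorem eleven22 (hD : Cfsg.IsThreeTranspositionGroup D) (hprim : Cfsg.IsPrimitiveUnderConj D)
    (h : Cfsg.IsOfTypeM22 G D) {X : Subgroup G} (hX : Nat.card X = 11) :
    ∃ d, fixD D X = {d} ∧ Nat.card (Subgroup.centralizer (X : Set G)) = 22 ∧
      Nat.card (Subgroup.normalizer (X : Set G)) = 110 := by
  haveI : Fact (Nat.Prime 11) := ⟨by norm_num⟩
  have hc := conjClosed_of_group hD
  have L := local22 hD hprim h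
  obtain ⟨hCd, hG⟩ := orders22 hD hprim h
  obtain ⟨F, _, _, E, hF, hE, hQ⟩ := data22 hD hprim h
  obtain ⟨d, hd⟩ := nonempty_fix hD hX L.card (by norm_num)
  have hdD := (mem_fixD.1 hd).1
  have h1 : fixD D X ∩ Dd D d = ∅ := inter_eq_empty (L.perp d hdD) (fun g hg b hb => conj_mem_Dd hc hg hb) hd
    (by rw [hX, L.deg d hdD, hCd d hdD]; norm_num)
  have h2 : fixD D X ∩ far D d = ∅ := inter_eq_empty (fun b hb b' hb' => L.farT d hdD b hb.1 b' hb'.1 hb.2 hb'.2)
    (fun g hg b hb => far_stable hc hg hb) hd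
    (by rw [hX, ncard_far22 hD hprim h hdD, hCd d hdD]; norm_num)
  have hone : (fixD D X).ncard = 1 := by rw [fixD_cases hd, h1, h2, Set.ncard_empty]
  obtain ⟨d', hd'⟩ := Set.ncard_eq_one.1 hone
  obtain rfl : d = d' := by rw [hd'] at hd; exact hd
  obtain ⟨Q⟩ := hQ d hdD
  have hXd := (mem_fixD.1 hd).2
  have hodd : Odd (Nat.card X) := by rw [hX]; exact ⟨5, rfl⟩
  have hN := le_centralizer_of_single hc hd'
  have hC : Nat.card (Subgroup.centralizer (X : Set G)) = 22 := by
    have e := Q.card_centralizer hXd hodd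
    rw [inf_eq_left.2 ((Subgroup.centralizer_le_normalizer (X : Set G)).trans hN),
      card_centralizer_eleven hF (by rw [Q.card_down hXd hodd, hX])] at e
    exact e
  refine ⟨d, hd', hC, ?_⟩
  obtain ⟨e, he, heN⟩ := card_normalizer (⊤ : Subgroup G) hX
  obtain ⟨k, hk, hk1⟩ := card_normalizer_modEq hX (le_top : X ≤ ⊤) (by rw [Subgroup.card_top, hG]; norm_num)
  rw [inf_top_eq, inf_top_eq, hC] at heN
  rw [inf_top_eq, Subgroup.card_top, hG, heN] at hk
  rw [heN]
  have h10 : e ∣ 10 := he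
  have : e ≤ 10 := Nat.le_of_dvd (by norm_num) h10
  interval_cases e <;> first | omega | (exfalso; norm_num at h10; done)

/-- Type M(22), order seven. -/
theorem seven22 (hD : Cfsg.IsThreeTranspositionGroup D) (hprim : Cfsg.IsPrimitiveUnderConj D)
    (h : Cfsg.IsOfTypeM22 G D) {X : Subgroup G} (hX : Nat.card X = 7) :
    (fixD D X).ncard = 3 ∧ (∀ a ∈ fixD D X, ∀ b ∈ fixD D X, a ≠ b → ¬ Commute a b) ∧
      Nat.card (Subgroup.centralizer (X : Set G)) = 42 ∧ Nat.card (Subgroup.normalizer (X : Set G)) = 252 := by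
  haveI : Fact (Nat.Prime 7) := ⟨by norm_num⟩
  have hc := conjClosed_of_group hD
  have L := local22 hD hprim h
  obtain ⟨hCd, -⟩ := orders22 hD hprim h
  obtain ⟨F, _, _, E, hF, hE, hQ⟩ := data22 hD hprim h
  have hodd : Odd (Nat.card X) := by rw [hX]; exact ⟨3, rfl⟩
  obtain ⟨d, hd⟩ := nonempty_fix hD hX L.card (by norm_num)
  have local_ : ∀ a ∈ fixD D X, fixD D X ∩ Dd D a = ∅ ∧
      Nat.card (Subgroup.centralizer (X : Set G) ⊓ Subgroup.centralizer ({a} : Set G) : Subgroup G) = 14 ∧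
      Nat.card (Subgroup.normalizer (X : Set G) ⊓ Subgroup.centralizer ({a} : Set G) : Subgroup G) = 84 := by
    intro a ha
    obtain ⟨haD, hXa⟩ := mem_fixD.1 ha
    obtain ⟨Q⟩ := hQ a haD
    have hX' : Nat.card (Q.down X) = 7 := by rw [Q.card_down hXa hodd, hX]
    have hC : Nat.card (Subgroup.centralizer (X : Set G) ⊓ Subgroup.centralizer ({a} : Set G) : Subgroup G) = 14 := by
      rw [Q.card_centralizer hXa hodd, card_centralizer_seven hF hX']
    refine ⟨?_, hC, ?_⟩
    · rw [← Set.ncard_eq_zero (Set.toFinite _), Q.ncard_fix hXa hodd, fixD_seven hF hE hX', Set.ncard_empty]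
    · obtain ⟨e, he, heN⟩ := card_normalizer (Subgroup.centralizer ({a} : Set G)) hX
      obtain ⟨k, hk, hk1⟩ := card_normalizer_modEq hX
        (fun x hx => mem_centralizer_of_commute (hXa x hx) : X ≤ Subgroup.centralizer ({a} : Set G))
        (by rw [hCd a haD]; norm_num)
      rw [hC] at heN
      rw [hCd a haD, heN] at hk
      rw [heN]
      have h6 : e ∣ 6 := he
      have : e ≤ 6 := Nat.le_of_dvd (by norm_num) h6
      interval_cases e <;> first | omega | (exfalso; norm_num at h6; done)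
  have three : ∀ a ∈ fixD D X, (fixD D X ∩ far D a).ncard = 2 := by
    intro a ha
    obtain ⟨haD, hXa⟩ := mem_fixD.1 ha
    obtain ⟨h0, hC, hN⟩ := local_ a ha
    have hfar := fixD_cases ha
    rw [h0, Set.ncard_empty] at hfar
    have hmod := fixD_modEq hc hX
    rw [L.card, hfar] at hmod
    have hne : (fixD D X ∩ far D a).Nonempty := by
      rw [← Set.ncard_pos (Set.toFinite _)]; omega
    have hdvd := fix_orbit hc (fun b hb b' hb' => L.farT a haD b hb.1 b' hb'.1 hb.2 hb'.2)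
      (fun g hg b hb => far_stable hc hg hb) hX ha (by rw [hCd a haD]; norm_num) hne
    rw [hN] at hdvd
    have hle : (fixD D X ∩ far D a).ncard ≤ 12 := by
      have := Nat.le_of_dvd (by norm_num) hdvd
      omega
    interval_cases hn : (fixD D X ∩ far D a).ncard <;> omega
  have hnc : ∀ a ∈ fixD D X, ∀ b ∈ fixD D X, a ≠ b → ¬ Commute a b := fun a ha b hb hab hcm => by
    have h0 := (local_ a ha).1
    exact Set.eq_empty_iff_forall_notMem.1 h0 b ⟨hb, (mem_fixD.1 hb).1, Ne.symm hab, hcm⟩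
  have hcard : (fixD D X).ncard = 3 := by
    rw [fixD_cases hd, (local_ d hd).1, Set.ncard_empty, three d hd]
  have htr : ∀ b ∈ fixD D X, ∃ g ∈ Subgroup.centralizer (X : Set G), g * d * g⁻¹ = b := by
    intro b hb
    by_cases e : b = d
    · exact ⟨1, one_mem _, by simp [e]⟩
    · refine ⟨d * b, mul_mem (fixD_mem_centralizer hd) (fixD_mem_centralizer hb), ?_⟩
      have hbr := braid hD.1 (mem_fixD.1 hd).1 (mem_fixD.1 hb).1 (hnc d hd b hb (Ne.symm e))
      rw [mul_inv_rev, inv_eq hD.1 (mem_fixD.1 hd).1, inv_eq hD.1 (mem_fixD.1 hb).1]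
      calc d * b * d * (b * d) = d * b * (d * b * d) := by simp [mul_assoc]
        _ = d * b * (b * d * b) := by rw [hbr]
        _ = b := by simp [mul_assoc, mul_self_mul hD.1 (mem_fixD.1 hb).1, mul_self_mul hD.1 (mem_fixD.1 hd).1]
  refine ⟨hcard, hnc, ?_, ?_⟩
  · rw [card_eq_orbit_mul _ hd (fun k hk => centralizer_fixD hc hk hd) htr, hcard, (local_ d hd).2.1]
  · rw [card_eq_orbit_mul _ hd (fun k hk => conj_fixD hc hk hd) (fun b hb => by
      obtain ⟨g, hg, e⟩ := htr b hb
      exact ⟨g, Subgroup.centralizer_le_normalizer (X : Set G) hg, e⟩), hcard, (local_ d hd).2.2]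

end CfsgLib.ThreeTrans.Torsion
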