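import Mathlib
import Cfsg.Agent.Lib.ThreeTrans.Torsion.TypeTwentyTwo
import Cfsg.Agent.Lib.ThreeTrans.Torsion.Product

/-! Subgroups of order 11 and 7 in groups of type M(23). -/

set_option autoImplicit false

namespace CfsgLib.ThreeTrans.Torsion

open CfsgLib.ThreeTrans.Tower

universe u

variable {G : Type u} [Group G] [Finite G] {D : Set G}

/-- The quotients at members in a group of type M(23). -/
theorem data23 (hD : Cfsg.IsThreeTranspositionGroup D) (hprim : Cfsg.IsPrimitiveUnderConj D)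
    (h : Cfsg.IsOfTypeM23 G D) :
    ∃ (Y : Type u) (_ : Group Y) (_ : Finite Y) (E : Set Y), Cfsg.IsThreeTranspositionGroup E ∧
      Cfsg.IsPrimitiveUnderConj E ∧ Cfsg.IsOfTypeM22 Y E ∧ Stage D E 3510 693 180 126 ∧
      ∀ a ∈ D, Nonempty (Quot D a E) := by
  obtain ⟨d, c, -, -, hB, h22, -⟩ := bottom23 hD h
  have hp := prim22 hD hprim hB h22
  have S := stage_of_base hD hprim h.1 (local22 hB.img_group hp h22) hB rfl
  exact ⟨_, _, inferInstance, _, hB.img_group, hp, h22, S,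
    fun a ha => exists_quot S (local23 hD hprim h) ha⟩

/-- Orders for type M(23). -/
theorem orders23 (hD : Cfsg.IsThreeTranspositionGroup D) (hprim : Cfsg.IsPrimitiveUnderConj D)
    (h : Cfsg.IsOfTypeM23 G D) : (∀ a ∈ D, Nat.card (Subgroup.centralizer ({a} : Set G)) = 129123503308800) ∧
      Nat.card G = 4089470473293004800 := by
  obtain ⟨Y, _, _, E, hE, hp, h22, S, -⟩ := data23 hD hprim h
  have L := local23 hD hprim h
  have hC : ∀ a ∈ D, Nat.card (Subgroup.centralizer ({a} : Set G)) = 129123503308800 := fun a ha => by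
    rw [card_centralizer S L ha, (orders22 hE hp h22).2]
  refine ⟨hC, ?_⟩
  obtain ⟨d, hd⟩ : D.Nonempty := (Set.ncard_pos (Set.toFinite _)).1 (by rw [L.card]; norm_num)
  rw [card_group hD hprim.1 hd, L.card, hC d hd]

theorem ncard_far23 (hD : Cfsg.IsThreeTranspositionGroup D) (hprim : Cfsg.IsPrimitiveUnderConj D)
    (h : Cfsg.IsOfTypeM23 G D) {a : G} (ha : a ∈ D) : (far D a).ncard = 28160 := by
  have L := local23 hD hprim h
  have e := ncard_far ha
  rw [L.card, L.deg a ha] at e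
  omega

/-- Type M(23): conjugacy of subgroups of order p when the square does not divide the order. -/
theorem conj23 {p : ℕ} [Fact p.Prime] (hD : Cfsg.IsThreeTranspositionGroup D) (hprim : Cfsg.IsPrimitiveUnderConj D)
    (h : Cfsg.IsOfTypeM23 G D) (hp : ¬ p ^ 2 ∣ 4089470473293004800) {X Y : Subgroup G} (hX : Nat.card X = p)
    (hY : Nat.card Y = p) : ∃ g : G, X.map (MulAut.conj g).toMonoidHom = Y := by
  obtain ⟨g, -, hg⟩ := conj_of_card (⊤ : Subgroup G) (p := p) (by rw [Subgroup.card_top, (orders23 hD hprim h).2]; exact hp)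
    le_top le_top hX hY
  exact ⟨g, hg⟩

/-- Type M(23), order eleven. -/
theorem eleven23 (hD : Cfsg.IsThreeTranspositionGroup D) (hprim : Cfsg.IsPrimitiveUnderConj D)
    (h : Cfsg.IsOfTypeM23 G D) {X : Subgroup G} (hX : Nat.card X = 11) :
    ∃ d b, b ∈ Dd D d ∧ fixD D X = {d, b} ∧
      (∀ a ∈ fixD D X,
        Nat.card (Subgroup.centralizer (X : Set G) ⊓ Subgroup.centralizer ({a} : Set G) : Subgroup G) = 44 ∧
        Nat.card (Subgroup.normalizer (X : Set G) ⊓ Subgroup.centralizer ({a} : Set G) : Subgroup G) = 220) ∧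
      ∃ g ∈ Subgroup.normalizer (X : Set G), g * d * g⁻¹ = b ∧ g * b * g⁻¹ = d := by
  haveI : Fact (Nat.Prime 11) := ⟨by norm_num⟩
  have hc := conjClosed_of_group hD
  have L := local23 hD hprim h
  obtain ⟨hCd, hG⟩ := orders23 hD hprim h
  obtain ⟨Y, _, _, E, hE, hp, h22, -, hQ⟩ := data23 hD hprim h
  have hodd : Odd (Nat.card X) := by rw [hX]; exact ⟨5, rfl⟩
  have loc : ∀ a ∈ fixD D X, (fixD D X ∩ Dd D a).ncard = 1 ∧ fixD D X ∩ far D a = ∅ ∧
      Nat.card (Subgroup.centralizer (X : Set G) ⊓ Subgroup.centralizer ({a} : Set G) : Subgroup G) = 44 ∧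
      Nat.card (Subgroup.normalizer (X : Set G) ⊓ Subgroup.centralizer ({a} : Set G) : Subgroup G) = 220 := by
    intro a ha
    obtain ⟨haD, hXa⟩ := mem_fixD.1 ha
    obtain ⟨Q⟩ := hQ a haD
    obtain ⟨e, he, hC, hN⟩ := eleven22 hE hp h22 (X := Q.down X) (by rw [Q.card_down hXa hodd, hX])
    refine ⟨by rw [Q.ncard_fix hXa hodd, he, Set.ncard_singleton],
      inter_eq_empty (fun b hb b' hb' => L.farT a haD b hb.1 b' hb'.1 hb.2 hb'.2)
        (fun g hg b hb => far_stable hc hg hb) ha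
        (by rw [hX, ncard_far23 hD hprim h haD, hCd a haD]; norm_num),
      by rw [Q.card_centralizer hXa hodd, hC], by rw [Q.card_normalizer hXa hodd, hN]⟩
  obtain ⟨d, hd⟩ := nonempty_fix hD hX L.card (by norm_num)
  obtain ⟨h1, h2, -, -⟩ := loc d hd
  obtain ⟨b, hb⟩ := Set.ncard_eq_one.1 h1
  have hbm : b ∈ fixD D X ∩ Dd D d := by rw [hb]; rfl
  have hfix : fixD D X = {d, b} := by
    ext x
    constructor
    · intro hx
      by_cases e : x = d
      · exact Or.inl e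
      · by_cases hcm : Commute d x
        · exact Or.inr (by
            have : x ∈ fixD D X ∩ Dd D d := ⟨hx, (mem_fixD.1 hx).1, e, hcm⟩
            rwa [hb] at this)
        · exact absurd (⟨hx, (mem_fixD.1 hx).1, hcm⟩ : x ∈ fixD D X ∩ far D d)
            (Set.eq_empty_iff_forall_notMem.1 h2 x)
    · rintro (rfl | rfl)
      exacts [hd, hbm.1]
  obtain ⟨hdD, hdX⟩ := mem_fixD.1 hd
  obtain ⟨hbD, hbX⟩ := mem_fixD.1 hbm.1
  obtain ⟨g₁, hg₁⟩ := hprim.1 d hdD b hbD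
  have hb1 : g₁ * b * g₁⁻¹ ∈ Dd D b := by
    have := conj_mem_Dd_conj hc g₁ hbm.2
    rwa [hg₁] at this
  obtain ⟨g₂, hg₂, hg₂b⟩ := L.perp b hbD _ hb1 d (Dd_symm hdD hbm.2)
  set g := g₂ * g₁ with hg
  have e1 : g * d * g⁻¹ = b := by
    rw [hg]
    calc g₂ * g₁ * d * (g₂ * g₁)⁻¹ = g₂ * (g₁ * d * g₁⁻¹) * g₂⁻¹ := by group
      _ = b := by rw [hg₁, hg₂.eq, mul_inv_cancel_right]
  have e2 : g * b * g⁻¹ = d := by rw [hg, ← hg₂b]; group
  have hXg : ∀ y ∈ X.map (MulAut.conj g).toMonoidHom, Commute y d ∧ Commute y b := fun y hy =>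
    ⟨(commute_conj_fix e2).1 (hbX _ (mem_map_conj.1 hy)), (commute_conj_fix e1).1 (hdX _ (mem_map_conj.1 hy))⟩
  obtain ⟨k, hk, hkX⟩ := conj_of_card
    (Subgroup.centralizer ({d} : Set G) ⊓ Subgroup.centralizer ({b} : Set G)) (p := 11)
    (fun hh => by
      have := hh.trans (Subgroup.card_dvd_of_le inf_le_left)
      rw [hCd d hdD] at this
      norm_num at this)
    (fun y hy => ⟨mem_centralizer_of_commute (hXg y hy).1, mem_centralizer_of_commute (hXg y hy).2⟩)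
    (fun y hy => ⟨mem_centralizer_of_commute (hdX y hy), mem_centralizer_of_commute (hbX y hy)⟩)
    (by rw [card_map_conj, hX]) hX
  refine ⟨d, b, hbm.2, hfix, fun a ha => (loc a ha).2.2, k * g, map_conj_eq_iff.1 (by rw [map_conj_mul, hkX]),
    ?_, ?_⟩
  · calc k * g * d * (k * g)⁻¹ = k * (g * d * g⁻¹) * k⁻¹ := by group
      _ = b := by rw [e1, Subgroup.mem_centralizer_singleton_iff.1 hk.2, mul_inv_cancel_right]
  · calc k * g * b * (k * g)⁻¹ = k * (g * b * g⁻¹) * k⁻¹ := by group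
      _ = d := by rw [e2, Subgroup.mem_centralizer_singleton_iff.1 hk.1, mul_inv_cancel_right]

/-- A triangle-free cubic graph structure on ten fixed members gives a path. -/
theorem exists_path_ten {T : Set G} (hfin : T.ncard = 10) (hD : ConjClosed D) (hT : T ⊆ D)
    (hclosed : ∀ x ∈ T, ∀ y ∈ T, x * y * x⁻¹ ∈ T) (hdeg : ∀ x ∈ T, (T ∩ Dd D x).ncard = 3)
    (hnt : ∀ x ∈ T, ∀ y ∈ T ∩ Dd D x, ∀ z ∈ T ∩ Dd D x, y ≠ z → ¬ Commute y z) :
    ∃ t : Fin 4 → G, (∀ i, t i ∈ T) ∧ (∀ i j : Fin 4, i.val + 1 < j.val → Commute (t i) (t j)) ∧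
      ∀ i j : Fin 4, i.val + 1 = j.val → ¬ Commute (t i) (t j) := by
  obtain ⟨d, hd⟩ : T.Nonempty := (Set.ncard_pos (Set.toFinite _)).1 (by omega)
  obtain ⟨b₁, b₂, b₃, h12, h13, h23, hB⟩ := Set.ncard_eq_three.1 (hdeg d hd)
  have m : ∀ x ∈ ({b₁, b₂, b₃} : Set G), x ∈ T ∩ Dd D d := fun x hx => by rw [hB]; exact hx
  have hb₁ := m b₁ (by simp)
  have hb₂ := m b₂ (by simp)
  have hn12 := hnt d hd b₁ hb₁ b₂ hb₂ h12
  have hd1 : d ∈ T ∩ Dd D b₁ := ⟨hd, Dd_symm (hT hd) hb₁.2⟩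
  obtain ⟨c, hc, hcd⟩ := Set.exists_ne_of_one_lt_ncard
    (show 1 < (T ∩ Dd D b₁).ncard by rw [hdeg b₁ hb₁.1]; norm_num) d
  have hncd : ¬ Commute c d := hnt b₁ hb₁.1 c hc d hd1 hcd
  by_cases hc2 : Commute b₂ c
  swap
  · refine ⟨![b₁, b₂, c, d], fun i => ?_, ?_, ?_⟩
    · fin_cases i
      exacts [hb₁.1, hb₂.1, hc.1, hd]
    · intro i j hij
      fin_cases i <;> fin_cases j <;> first
        | exact hc.2.2.2 | exact hd1.2.2.2 | exact hb₂.2.2.2.symm | simp at hij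
    · intro i j hij
      fin_cases i <;> fin_cases j <;> first
        | exact hn12 | exact hc2 | exact hncd | simp at hij
  exfalso
  -- the two lines close up to six members
  set d' := c * d * c⁻¹ with hd'
  have hd'T : d' ∈ T := hclosed c hc.1 d hd
  have hcc := mul_self hD.set (hT hc.1)
  have hne1 : d' ≠ d := fun e => hncd (mul_inv_eq_iff_eq_mul.1 e)
  have hne2 : d' ≠ c := fun e => hncd (by
    have : d = c := mul_left_cancel (mul_right_cancel (e.trans (mul_inv_cancel_right c c).symm))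
    rw [this])
  have hcb₂ : c ≠ b₂ := fun e => hn12 (e ▸ hc.2.2.2)
  have nb1 : ({d, c, d'} : Set G) = T ∩ Dd D b₁ := by
    refine Set.eq_of_subset_of_ncard_le ?_ ?_ (Set.toFinite _)
    · rintro x (rfl | rfl | rfl)
      · exact hd1
      · exact hc
      · refine ⟨hd'T, hT hd'T, fun e => ?_, ((hc.2.2.2.mul_right hd1.2.2.2).mul_right hc.2.2.2.inv_right)⟩
        refine hb₁.2.2.1 (mul_left_cancel (mul_right_cancel (show c * b₁ * c⁻¹ = c * d * c⁻¹ from ?_)))
        rw [← hd', e, hc.2.2.2.symm.eq, mul_inv_cancel_right]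
    · rw [hdeg b₁ hb₁.1, Set.ncard_eq_three.2 ⟨d, c, d', Ne.symm hcd, Ne.symm hne1, Ne.symm hne2, rfl⟩]
  have sat : ∀ x ∈ ({b₁, b₂, b₃} : Set G), T ∩ Dd D x = {d, c, d'} := by
    have nb2 : ({d, c, d'} : Set G) ⊆ T ∩ Dd D b₂ := by
      have hd2 : Commute b₂ d := hb₂.2.2.2.symm
      rintro x (rfl | rfl | rfl)
      · exact ⟨hd, Dd_symm (hT hd) hb₂.2⟩
      · exact ⟨hc.1, hT hc.1, hcb₂, hc2⟩
      · refine ⟨hd'T, hT hd'T, fun e => ?_, (hc2.mul_right hd2).mul_right hc2.inv_right⟩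
        refine hb₂.2.2.1 (mul_left_cancel (mul_right_cancel (show c * b₂ * c⁻¹ = c * d * c⁻¹ from ?_)))
        rw [← hd', e, hc2.symm.eq, mul_inv_cancel_right]
    have hb₃ : b₃ = b₁ * b₂ * b₁⁻¹ := by
      have hmem : b₁ * b₂ * b₁⁻¹ ∈ T ∩ Dd D d :=
        ⟨hclosed _ hb₁.1 _ hb₂.1, conj_mem_Dd hD hb₁.2.2.2.symm hb₂.2⟩
      rw [hB] at hmem
      rcases hmem with e | e | e
      · exact absurd (mul_left_cancel (mul_right_cancel (e.trans (mul_inv_cancel_right b₁ b₁).symm))).symm h12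
      · exact absurd (mul_inv_eq_iff_eq_mul.1 e : b₁ * b₂ = b₂ * b₁) hn12
      · exact e.symm
    intro x hx
    refine (Set.eq_of_subset_of_ncard_le ?_ ?_ (Set.toFinite _)).symm
    · rcases hx with rfl | rfl | rfl
      · exact nb1.subset
      · exact nb2
      · intro y hy
        have c1 := (nb1.subset hy).2
        have c2 := (nb2 hy).2
        refine ⟨(nb2 hy).1, c1.1, fun e => ?_, ?_⟩
        · refine h13 (hb₃ ▸ ?_)
          have : Commute b₁ (b₁ * b₂ * b₁⁻¹) := hb₃ ▸ e ▸ c1.2.2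
          exact absurd ((commute_conj_iff b₁ b₁ b₂).1 (by rw [mul_inv_cancel_right]; exact this)) hn12
        · rw [hb₃]
          exact (c1.2.2.mul_left c2.2.2).mul_left c1.2.2.inv_left
    · rw [hdeg x (m x hx).1, Set.ncard_eq_three.2 ⟨d, c, d', Ne.symm hcd, Ne.symm hne1, Ne.symm hne2, rfl⟩]
  have sat' : ∀ x ∈ ({d, c, d'} : Set G), T ∩ Dd D x = {b₁, b₂, b₃} := by
    intro x hx
    have hxT : x ∈ T := ((sat b₁ (by simp)).symm.subset hx).1
    refine (Set.eq_of_subset_of_ncard_le ?_ ?_ (Set.toFinite _)).symm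
    · intro y hy
      exact ⟨(m y hy).1, Dd_symm (hT (m y hy).1) ((sat y hy).symm.subset hx).2⟩
    · rw [hdeg x hxT, Set.ncard_eq_three.2 ⟨b₁, b₂, b₃, h12, h13, h23, rfl⟩]
  set six := ({d, c, d'} : Set G) ∪ {b₁, b₂, b₃}
  have hsix : six.ncard = 6 := by
    rw [Set.ncard_union_eq ?_ (Set.toFinite _) (Set.toFinite _),
      Set.ncard_eq_three.2 ⟨d, c, d', Ne.symm hcd, Ne.symm hne1, Ne.symm hne2, rfl⟩,
      Set.ncard_eq_three.2 ⟨b₁, b₂, b₃, h12, h13, h23, rfl⟩]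
    refine Set.disjoint_left.2 fun x hx hx' => ?_
    exact (((sat x hx').symm.subset hx).2).2.1 rfl
  have hsub : six ⊆ T := by
    rintro x (hx | hx)
    · exact ((sat b₁ (by simp)).symm.subset hx).1
    · exact (m x hx).1
  obtain ⟨x, hxT, hx⟩ := Set.exists_mem_notMem_of_ncard_lt_ncard (show six.ncard < T.ncard by omega) (Set.toFinite _)
  have rest : ∀ z ∈ T \ six, T ∩ Dd D z = (T \ six) \ {z} := by
    intro z hz
    refine Set.eq_of_subset_of_ncard_le ?_ ?_ (Set.toFinite _)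
    · rintro y ⟨hy, hyz⟩
      refine ⟨⟨hy, ?_⟩, fun e => hyz.2.1 e⟩
      rintro (hy' | hy')
      · exact hz.2 (Or.inr ((sat' y hy').subset ⟨hz.1, Dd_symm (hT hz.1) hyz⟩))
      · exact hz.2 (Or.inl ((sat y hy').subset ⟨hz.1, Dd_symm (hT hz.1) hyz⟩))
    · rw [hdeg z hz.1, Set.ncard_sdiff_singleton_of_mem hz, Set.ncard_sdiff hsub (Set.toFinite _), hfin, hsix]
  obtain ⟨y, hy, y', hy', hyy⟩ := (Set.one_lt_ncard (Set.toFinite _)).1
    (show 1 < (T ∩ Dd D x).ncard by rw [hdeg x hxT]; norm_num)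
  have hy0 : y ∈ T \ six := ((rest x ⟨hxT, hx⟩).subset hy).1
  have hy'0 : y' ∈ T \ six := ((rest x ⟨hxT, hx⟩).subset hy').1
  exact hnt x hxT y hy y' hy' hyy ((rest y hy0).symm.subset ⟨hy'0, Ne.symm hyy⟩).2.2.2

omit [Finite G] in
/-- Members fixed form one orbit of the centraliser. -/
theorem symSet_transitive {X : Subgroup G} {n : ℕ} (Z : SymSet (fixD D X) n) {a b : G} (ha : a ∈ fixD D X)
    (hb : b ∈ fixD D X) : ∃ g ∈ Subgroup.centralizer (X : Set G), g * a * g⁻¹ = b := by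
  obtain ⟨_, ⟨x, y, hxy, rfl⟩, rfl⟩ := (Set.ext_iff.1 Z.img a).2 ha
  obtain ⟨_, ⟨x', y', hxy', rfl⟩, rfl⟩ := (Set.ext_iff.1 Z.img b).2 hb
  obtain ⟨σ, hσ⟩ := isConj_iff.1 (Equiv.Perm.isConj_swap hxy hxy')
  refine ⟨Z.φ σ, ?_, by rw [← map_inv, ← map_mul, ← map_mul, hσ]⟩
  exact ((Subgroup.closure_le _).2 fun t ht => ht.2 : Subgroup.closure (fixD D X) ≤ _) (Z.mem_closure σ)

theorem fixD_closed (hD : ConjClosed D) {X : Subgroup G} {x y : G} (hx : x ∈ fixD D X) (hy : y ∈ fixD D X) :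
    x * y * x⁻¹ ∈ fixD D X :=
  centralizer_fixD hD (fixD_mem_centralizer hx) hy

/-- Type M(23), order seven. -/
theorem seven23 (hD : Cfsg.IsThreeTranspositionGroup D) (hprim : Cfsg.IsPrimitiveUnderConj D)
    (h : Cfsg.IsOfTypeM23 G D) {X : Subgroup G} (hX : Nat.card X = 7) :
    Nonempty (SymSet (fixD D X) 5) ∧
      Nat.card (Subgroup.centralizer (X : Set G)) = 840 ∧ Nat.card (Subgroup.normalizer (X : Set G)) = 5040 := by
  haveI : Fact (Nat.Prime 7) := ⟨by norm_num⟩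
  have hc := conjClosed_of_group hD
  have L := local23 hD hprim h
  obtain ⟨hCd, -⟩ := orders23 hD hprim h
  obtain ⟨Y, _, _, E, hE, hp, h22, -, hQ⟩ := data23 hD hprim h
  have hodd : Odd (Nat.card X) := by rw [hX]; exact ⟨3, rfl⟩
  have loc : ∀ a ∈ fixD D X, (fixD D X ∩ Dd D a).ncard = 3 ∧
      (∀ y ∈ fixD D X ∩ Dd D a, ∀ z ∈ fixD D X ∩ Dd D a, y ≠ z → ¬ Commute y z) ∧
      (fixD D X ∩ far D a).ncard = 6 ∧
      Nat.card (Subgroup.centralizer (X : Set G) ⊓ Subgroup.centralizer ({a} : Set G) : Subgroup G) = 84 ∧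
      Nat.card (Subgroup.normalizer (X : Set G) ⊓ Subgroup.centralizer ({a} : Set G) : Subgroup G) = 504 := by
    intro a ha
    obtain ⟨haD, hXa⟩ := mem_fixD.1 ha
    obtain ⟨Q⟩ := hQ a haD
    obtain ⟨h3, hnc, hC, hN⟩ := seven22 hE hp h22 (X := Q.down X) (by rw [Q.card_down hXa hodd, hX])
    have h0 : (fixD D X ∩ Dd D a).ncard = 3 := by rw [Q.ncard_fix hXa hodd, h3]
    have hN' : Nat.card (Subgroup.normalizer (X : Set G) ⊓ Subgroup.centralizer ({a} : Set G) : Subgroup G) = 504 := by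
      rw [Q.card_normalizer hXa hodd, hN]
    refine ⟨h0, fun y hy z hz hyz hcm => ?_, ?_, by rw [Q.card_centralizer hXa hodd, hC], hN'⟩
    · let y' : ↥(Subgroup.centralizer ({a} : Set G)) := ⟨y, mem_centralizer_of_commute hy.2.2.2.symm⟩
      let z' : ↥(Subgroup.centralizer ({a} : Set G)) := ⟨z, mem_centralizer_of_commute hz.2.2.2.symm⟩
      exact hnc _ ((Q.fix_iff hXa hodd y' hy.2).1 hy.1) _ ((Q.fix_iff hXa hodd z' hz.2).1 hz.1)
        (fun e => hyz (congrArg Subtype.val (Q.bij.injOn (x₁ := y') hy.2 (x₂ := z') hz.2 e)))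
        ((Q.comm y' z' hy.2 hz.2).2 hcm)
    · have hfar := fixD_cases ha
      rw [h0] at hfar
      have hmod := fixD_modEq hc hX
      rw [L.card, hfar] at hmod
      have hne : (fixD D X ∩ far D a).Nonempty := by
        rw [← Set.ncard_pos (Set.toFinite _)]; omega
      have hdvd := fix_orbit hc (fun b hb b' hb' => L.farT a haD b hb.1 b' hb'.1 hb.2 hb'.2)
        (fun g hg b hb => far_stable hc hg hb) hX ha (by rw [hCd a haD]; norm_num) hne
      rw [hN'] at hdvd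
      have hle : (fixD D X ∩ far D a).ncard ≤ 72 := by
        have := Nat.le_of_dvd (by norm_num) hdvd
        omega
      interval_cases hn : (fixD D X ∩ far D a).ncard <;> omega
  obtain ⟨d, hd⟩ := nonempty_fix hD hX L.card (by norm_num)
  obtain ⟨h3, -, h6, hC, hN⟩ := loc d hd
  have hcard : (fixD D X).ncard = 10 := by rw [fixD_cases hd, h3, h6]
  obtain ⟨t, ht, hfar, hnear⟩ := exists_path_ten hcard hc (fun x hx => hx.1) (fun x hx y hy => fixD_closed hc hx hy)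
    (fun x hx => (loc x hx).1) (fun x hx => (loc x hx).2.1)
  obtain ⟨Z, -⟩ := exists_symSet hc t ht hfar hnear (Or.inr le_rfl) (by rw [hcard, ncard_swaps]; decide)
  have htr := fun b (hb : b ∈ fixD D X) => symSet_transitive Z hd hb
  refine ⟨⟨Z⟩, ?_, ?_⟩
  · rw [card_eq_orbit_mul _ hd (fun k hk => centralizer_fixD hc hk hd) htr, hcard, hC]
  · rw [card_eq_orbit_mul _ hd (fun k hk => conj_fixD hc hk hd) (fun b hb => by
      obtain ⟨g, hg, e⟩ := htr b hb
      exact ⟨g, Subgroup.centralizer_le_normalizer (X : Set G) hg, e⟩), hcard, hN]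

end CfsgLib.ThreeTrans.Torsion
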