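import Mathlib
import Cfsg.Agent.Lib.ThreeTrans.Torsion.TypeTwentyThree

/-! Subgroups of order 11 in groups of type M(24). -/

set_option autoImplicit false

namespace CfsgLib.ThreeTrans.Torsion

open CfsgLib.ThreeTrans.Tower

universe u

variable {G : Type u} [Group G] [Finite G] {D : Set G}

/-- The quotients at members in a group of type M(24). -/
theorem data24 (hD : Cfsg.IsThreeTranspositionGroup D) (hprim : Cfsg.IsPrimitiveUnderConj D)
    (h : Cfsg.IsOfTypeM24 G D) :
    ∃ (Y : Type u) (_ : Group Y) (_ : Finite Y) (E : Set Y), Cfsg.IsThreeTranspositionGroup E ∧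
      Cfsg.IsPrimitiveUnderConj E ∧ Cfsg.IsOfTypeM23 Y E ∧ Stage D E 31671 3510 693 351 ∧
      ∀ a ∈ D, Nonempty (Quot D a E) := by
  obtain ⟨d, c, -, -, hB, h23⟩ := bottom24 hD hprim h
  have hp := prim23 hD hprim hB h23
  have S := stage_of_base hD hprim h.1 (local23 hB.img_group hp h23) hB rfl
  exact ⟨_, _, inferInstance, _, hB.img_group, hp, h23, S,
    fun a ha => exists_quot S (local24 hD hprim h) ha⟩

/-- Orders for type M(24). -/
theorem orders24 (hD : Cfsg.IsThreeTranspositionGroup D) (hprim : Cfsg.IsPrimitiveUnderConj D)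
    (h : Cfsg.IsOfTypeM24 G D) : (∀ a ∈ D, Nat.card (Subgroup.centralizer ({a} : Set G)) = 8178940946586009600) ∧
      Nat.card G = 2510411418381323442585600 := by
  obtain ⟨Y, _, _, E, hE, hp, h23, S, -⟩ := data24 hD hprim h
  have L := local24 hD hprim h
  have hC : ∀ a ∈ D, Nat.card (Subgroup.centralizer ({a} : Set G)) = 8178940946586009600 := fun a ha => by
    rw [card_centralizer S L ha, (orders23 hE hp h23).2]
  refine ⟨hC, ?_⟩
  obtain ⟨d, hd⟩ : D.Nonempty := (Set.ncard_pos (Set.toFinite _)).1 (by rw [L.card]; norm_num)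
  rw [card_group hD hprim.1 hd, L.card, hC d hd]

theorem ncard_far24 (hD : Cfsg.IsThreeTranspositionGroup D) (hprim : Cfsg.IsPrimitiveUnderConj D)
    (h : Cfsg.IsOfTypeM24 G D) {a : G} (ha : a ∈ D) : (far D a).ncard = 275264 := by
  have L := local24 hD hprim h
  have e := ncard_far ha
  rw [L.card, L.deg a ha] at e
  omega

/-- Type M(24): conjugacy of subgroups of order p when the square does not divide the order. -/
theorem conj24 {p : ℕ} [Fact p.Prime] (hD : Cfsg.IsThreeTranspositionGroup D) (hprim : Cfsg.IsPrimitiveUnderConj D)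
    (h : Cfsg.IsOfTypeM24 G D) (hp : ¬ p ^ 2 ∣ 2510411418381323442585600) {X Y : Subgroup G} (hX : Nat.card X = p)
    (hY : Nat.card Y = p) : ∃ g : G, X.map (MulAut.conj g).toMonoidHom = Y := by
  obtain ⟨g, -, hg⟩ := conj_of_card (⊤ : Subgroup G) (p := p) (by rw [Subgroup.card_top, (orders24 hD hprim h).2]; exact hp)
    le_top le_top hX hY
  exact ⟨g, hg⟩

/-- Type M(24), order eleven. -/
theorem eleven24 (hD : Cfsg.IsThreeTranspositionGroup D) (hprim : Cfsg.IsPrimitiveUnderConj D)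
    (h : Cfsg.IsOfTypeM24 G D) {X : Subgroup G} (hX : Nat.card X = 11) :
    ∃ d b c, b ∈ Dd D d ∧ c ∈ Dd D d ∩ Dd D b ∧ d ≠ b * c ∧ fixD D X = {d, b, c} ∧
      Nat.card (Subgroup.normalizer (X : Set G) ⊓ Subgroup.centralizer (fixD D X) : Subgroup G) = 440 ∧
      Nat.card (Subgroup.centralizer (X : Set G) ⊓ Subgroup.centralizer (fixD D X) : Subgroup G) = 88 ∧
      ∀ a' b' c' : G, a' ∈ fixD D X → b' ∈ fixD D X → c' ∈ fixD D X → a' ≠ b' → a' ≠ c' → b' ≠ c' →
        ∃ n ∈ Subgroup.normalizer (X : Set G), n * d * n⁻¹ = a' ∧ n * b * n⁻¹ = b' ∧ n * c * n⁻¹ = c' := by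
  haveI : Fact (Nat.Prime 11) := ⟨by norm_num⟩
  have hc := conjClosed_of_group hD
  have L := local24 hD hprim h
  obtain ⟨hCd, -⟩ := orders24 hD hprim h
  obtain ⟨Y, _, _, E, hE, hp, h23, S, hQ⟩ := data24 hD hprim h
  have hodd : Odd (Nat.card X) := by rw [hX]; exact ⟨5, rfl⟩
  have far0 : ∀ a ∈ fixD D X, fixD D X ∩ far D a = ∅ := fun a ha => by
    have haD := (mem_fixD.1 ha).1
    exact inter_eq_empty (fun b hb b' hb' => L.farT a haD b hb.1 b' hb'.1 hb.2 hb'.2)
      (fun g hg b hb => far_stable hc hg hb) ha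
      (by rw [hX, ncard_far24 hD hprim h haD, hCd a haD]; norm_num)
  have hcomm : ∀ a ∈ fixD D X, ∀ b ∈ fixD D X, Commute a b := fun a ha b hb => by
    by_contra hn
    exact Set.eq_empty_iff_forall_notMem.1 (far0 a ha) b ⟨hb, (mem_fixD.1 hb).1, hn⟩
  obtain ⟨d, hd⟩ := nonempty_fix hD hX L.card (by norm_num)
  obtain ⟨hdD, hdX⟩ := mem_fixD.1 hd
  obtain ⟨Q⟩ := hQ d hdD
  obtain ⟨d', b', -, he, hcards, -⟩ := eleven23 hE hp h23 (X := Q.down X) (by rw [Q.card_down hdX hodd, hX])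
  obtain ⟨hC, hN⟩ := hcards d' (by rw [he]; simp)
  have h2 : (fixD D X ∩ Dd D d).ncard ≤ 2 := by
    rw [Q.ncard_fix hdX hodd, he]
    exact (Set.ncard_insert_le _ _).trans (by rw [Set.ncard_singleton])
  obtain ⟨bb, ⟨hbf, hbd⟩, hbΦ⟩ := (Q.bijOn_fix hdX hodd).surjOn (show d' ∈ fixD E (Q.down X) by rw [he]; simp)
  obtain ⟨cc, ⟨hcf, hcd⟩, hcΦ⟩ := (Q.bijOn_fix hdX hodd).surjOn (show b' ∈ fixD E (Q.down X) by rw [he]; simp)
  have hbc : bb ≠ cc := by
    intro e
    subst e
    have h1 : (fixD D X ∩ Dd D d).ncard = 1 := by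
      rw [Q.ncard_fix hdX hodd, he, hbΦ.symm.trans hcΦ]; simp
    have hmod := fixD_modEq hc hX
    rw [L.card, fixD_cases hd, h1, far0 d hd, Set.ncard_empty] at hmod
    omega
  set b := (bb : G)
  set c := (cc : G)
  have hbc' : b ≠ c := fun e => hbc (Subtype.ext e)
  have hfix : fixD D X = {d, b, c} := by
    refine (Set.eq_of_subset_of_ncard_le ?_ ?_ (Set.toFinite _)).symm
    · rintro x (rfl | rfl | rfl)
      exacts [hd, hbf, hcf]
    · rw [fixD_cases hd, far0 d hd, Set.ncard_empty,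
        Set.ncard_eq_three.2 ⟨d, b, c, Ne.symm hbd.2.1, Ne.symm hcd.2.1, hbc', rfl⟩]
      omega
  have hcb : c ∈ Dd D d ∩ Dd D b := ⟨hcd, hcd.1, Ne.symm hbc', hcomm b hbf c hcf⟩
  have hdbc : d ≠ b * c := by
    intro e
    have h1 : Q.Φ (bb * cc) = 1 := (Q.ker _).2 (Or.inr (by rw [Subgroup.coe_mul]; exact e.symm))
    rw [map_mul, mul_eq_one_iff_eq' hE.1 (Q.bij.mapsTo hcd)] at h1
    exact hbc (Q.bij.injOn hbd hcd h1)
  -- the elements fixing all three
  have hcent : ∀ (H : Subgroup G), (∀ g ∈ H, g ∈ Subgroup.normalizer (X : Set G)) →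
      H ⊓ Subgroup.centralizer (fixD D X) = (H ⊓ Subgroup.centralizer ({b} : Set G)) ⊓ Subgroup.centralizer ({d} : Set G) := by
    intro H hH
    refine le_antisymm (fun g hg => ?_) fun g hg => ?_
    · exact ⟨⟨hg.1, Subgroup.centralizer_le (by rw [hfix]; simp) hg.2⟩,
        Subgroup.centralizer_le (by rw [hfix]; simp) hg.2⟩
    · obtain ⟨⟨hgH, hgb⟩, hgd⟩ := hg
      refine ⟨hgH, Subgroup.mem_centralizer_iff.2 fun x hx => ?_⟩
      have hgd' : Commute g d := Subgroup.mem_centralizer_singleton_iff.1 hgd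
      have hgb' : Commute g b := Subgroup.mem_centralizer_singleton_iff.1 hgb
      rw [hfix] at hx
      rcases hx with rfl | rfl | rfl
      · exact hgd'.eq.symm
      · exact hgb'.eq.symm
      · have h3 : g * c * g⁻¹ ∈ fixD D X := conj_fixD hc (hH g hgH) hcf
        rw [hfix] at h3
        rcases h3 with e | e | e
        · exact absurd (mul_left_cancel (mul_right_cancel (e.trans (by rw [hgd'.eq, mul_inv_cancel_right] : d = g * d * g⁻¹))))
            hcd.2.1
        · exact absurd (mul_left_cancel (mul_right_cancel (e.trans (by rw [hgb'.eq, mul_inv_cancel_right] : b = g * b * g⁻¹))))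
            (Ne.symm hbc')
        · exact (mul_inv_eq_iff_eq_mul.1 e).symm
  have hcommb : ∀ g : ↥(Subgroup.centralizer ({d} : Set G)),
      (g : G) ∈ Subgroup.centralizer ({b} : Set G) ↔ Q.Φ g ∈ Subgroup.centralizer ({d'} : Set Y) := by
    intro g
    rw [Subgroup.mem_centralizer_singleton_iff, Subgroup.mem_centralizer_singleton_iff, ← hbΦ, ← map_mul, ← map_mul]
    refine ⟨fun e => congrArg Q.Φ (Subtype.ext e), fun e => ?_⟩
    have hgm : ((g * bb * g⁻¹ : ↥(Subgroup.centralizer ({d} : Set G))) : G) ∈ Dd D d :=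
      conj_mem_Dd hc (Subgroup.mem_centralizer_singleton_iff.1 g.2) hbd
    have e2 := Q.bij.injOn hgm hbd (by rw [map_mul, e, ← map_mul, mul_inv_cancel_right])
    exact congrArg Subtype.val (mul_inv_eq_iff_eq_mul.1 e2)
  refine ⟨d, b, c, hbd, hcb, hdbc, hfix, ?_, ?_, ?_⟩
  · rw [hcent _ fun g hg => hg, Q.card_inf _ (Subgroup.normalizer (Q.down X : Set Y) ⊓ Subgroup.centralizer ({d'} : Set Y))
      (fun g => by simp only [Subgroup.mem_inf, Q.normalizer_down hdX hodd, hcommb]), hN]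
  · rw [hcent _ (fun g hg => Subgroup.centralizer_le_normalizer (X : Set G) hg),
      Q.card_inf _ (Subgroup.centralizer (Q.down X : Set Y) ⊓ Subgroup.centralizer ({d'} : Set Y))
      (fun g => by simp only [Subgroup.mem_inf, Q.commute_down hdX hodd, hcommb]), hC]
  · intro a' b'' c' ha' hb'' hc' hab hac hbc''
    have haD := (mem_fixD.1 ha').1
    have hbD := (mem_fixD.1 hb'').1
    have hcD := (mem_fixD.1 hc').1
    obtain ⟨g, g1, g2, g3⟩ := triple_transitive S L hdD hbd hcb haD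
      (⟨hbD, Ne.symm hab, hcomm a' ha' b'' hb''⟩ : b'' ∈ Dd D a')
      (⟨⟨hcD, Ne.symm hac, hcomm a' ha' c' hc'⟩, hcD, Ne.symm hbc'', hcomm b'' hb'' c' hc'⟩ :
        c' ∈ Dd D a' ∩ Dd D b'')
    have hXg : ∀ y ∈ X.map (MulAut.conj g).toMonoidHom, Commute y a' ∧ Commute y b'' ∧ Commute y c' := fun y hy =>
      ⟨(commute_conj_fix g1).1 (hdX _ (mem_map_conj.1 hy)),
        (commute_conj_fix g2).1 ((mem_fixD.1 hbf).2 _ (mem_map_conj.1 hy)),
        (commute_conj_fix g3).1 ((mem_fixD.1 hcf).2 _ (mem_map_conj.1 hy))⟩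
    obtain ⟨k, hk, hkX⟩ := conj_of_card (Subgroup.centralizer ({a'} : Set G) ⊓
      (Subgroup.centralizer ({b''} : Set G) ⊓ Subgroup.centralizer ({c'} : Set G))) (p := 11)
      (fun hh => by
        have := hh.trans (Subgroup.card_dvd_of_le inf_le_left)
        rw [hCd a' haD] at this
        norm_num at this)
      (fun y hy => ⟨mem_centralizer_of_commute (hXg y hy).1, mem_centralizer_of_commute (hXg y hy).2.1,
        mem_centralizer_of_commute (hXg y hy).2.2⟩)
      (fun y hy => ⟨mem_centralizer_of_commute ((mem_fixD.1 ha').2 y hy),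
        mem_centralizer_of_commute ((mem_fixD.1 hb'').2 y hy), mem_centralizer_of_commute ((mem_fixD.1 hc').2 y hy)⟩)
      (by rw [card_map_conj, hX]) hX
    refine ⟨k * g, map_conj_eq_iff.1 (by rw [map_conj_mul, hkX]), ?_, ?_, ?_⟩
    · calc k * g * d * (k * g)⁻¹ = k * (g * d * g⁻¹) * k⁻¹ := by group
        _ = a' := by rw [g1, Subgroup.mem_centralizer_singleton_iff.1 hk.1, mul_inv_cancel_right]
    · calc k * g * b * (k * g)⁻¹ = k * (g * b * g⁻¹) * k⁻¹ := by group
        _ = b'' := by rw [g2, Subgroup.mem_centralizer_singleton_iff.1 hk.2.1, mul_inv_cancel_right]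
    · calc k * g * c * (k * g)⁻¹ = k * (g * c * g⁻¹) * k⁻¹ := by group
        _ = c' := by rw [g3, Subgroup.mem_centralizer_singleton_iff.1 hk.2.2, mul_inv_cancel_right]

end CfsgLib.ThreeTrans.Torsion
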