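import Mathlib
import Cfsg.Agent.Lib.ThreeTrans.Torsion.Count

/-! Common neighbourhoods seen in the quotient at a member. -/

set_option autoImplicit false

namespace CfsgLib.ThreeTrans.Torsion

open CfsgLib.ThreeTrans.Tower

variable {G Y : Type*} [Group G] [Finite G] [Group Y] {D : Set G} {a : G} {E : Set Y}

namespace Quot

variable (Q : Quot D a E)

open Classical in
/-- The image of a member commuting with the member. -/
noncomputable def img (x : G) : Y := if h : x ∈ Dd D a then Q.Φ ⟨x, mem_centralizer_of_commute h.2.2.symm⟩ else 1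

theorem img_eq {g : ↥(Subgroup.centralizer ({a} : Set G))} (hg : (g : G) ∈ Dd D a) : Q.img g = Q.Φ g := by
  rw [img, dif_pos hg]

theorem img_bij : Set.BijOn Q.img (Dd D a) E := by
  refine ⟨fun x hx => ?_, fun x hx y hy e => ?_, fun e he => ?_⟩
  · rw [img, dif_pos hx]; exact Q.bij.mapsTo hx
  · rw [img, dif_pos hx, img, dif_pos hy] at e
    exact congrArg Subtype.val (Q.bij.injOn (x₁ := ⟨x, _⟩) hx (x₂ := ⟨y, _⟩) hy e)
  · obtain ⟨g, hg, rfl⟩ := Q.bij.surjOn he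
    exact ⟨g, hg, Q.img_eq hg⟩

theorem img_comm {x y : G} (hx : x ∈ Dd D a) (hy : y ∈ Dd D a) : Commute (Q.img x) (Q.img y) ↔ Commute x y := by
  rw [img, dif_pos hx, img, dif_pos hy]
  exact Q.comm _ _ hx hy

theorem img_mem_Dd {x y : G} (hx : x ∈ Dd D a) (hy : y ∈ Dd D a) : Q.img y ∈ Dd E (Q.img x) ↔ y ∈ Dd D x :=
  ⟨fun h => ⟨hy.1, fun e => h.2.1 (by rw [e]), (Q.img_comm hx hy).1 h.2.2⟩,
    fun h => ⟨Q.img_bij.mapsTo hy, fun e => h.2.1 (Q.img_bij.injOn hy hx e), (Q.img_comm hx hy).2 h.2.2⟩⟩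

/-- Common neighbours inside the neighbourhood. -/
theorem ncard_common (S : Set G) (hS : S ⊆ Dd D a) :
    (Dd D a ∩ {y | ∀ x ∈ S, y ∈ Dd D x}).ncard = (E ∩ {e | ∀ x ∈ S, e ∈ Dd E (Q.img x)}).ncard := by
  have e : Q.img '' (Dd D a ∩ {y | ∀ x ∈ S, y ∈ Dd D x}) = E ∩ {e | ∀ x ∈ S, e ∈ Dd E (Q.img x)} := by
    ext e
    constructor
    · rintro ⟨y, ⟨hy, hyS⟩, rfl⟩
      exact ⟨Q.img_bij.mapsTo hy, fun x hx => (Q.img_mem_Dd (hS hx) hy).2 (hyS x hx)⟩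
    · rintro ⟨he, heS⟩
      obtain ⟨y, hy, rfl⟩ := Q.img_bij.surjOn he
      exact ⟨y, ⟨hy, fun x hx => (Q.img_mem_Dd (hS hx) hy).1 (heS x hx)⟩, rfl⟩
  rw [← e, (Q.img_bij.injOn.mono Set.inter_subset_left).ncard_image]

theorem ncard_common_two {x y : G} (hx : x ∈ Dd D a) (hy : y ∈ Dd D a) :
    (Dd D a ∩ Dd D x ∩ Dd D y).ncard = (Dd E (Q.img x) ∩ Dd E (Q.img y)).ncard := by
  have h := Q.ncard_common {x, y} (by rintro z (rfl | rfl) <;> assumption)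
  refine Eq.trans (congrArg Set.ncard (Set.ext fun z => ?_)) (h.trans (congrArg Set.ncard (Set.ext fun z => ?_)))
  · exact ⟨fun ⟨⟨h1, h2⟩, h3⟩ => ⟨h1, by rintro w (rfl | rfl) <;> assumption⟩,
      fun ⟨h1, h2⟩ => ⟨⟨h1, h2 x (Or.inl rfl)⟩, h2 y (Or.inr rfl)⟩⟩
  · exact ⟨fun ⟨_, h2⟩ => ⟨h2 x (Or.inl rfl), h2 y (Or.inr rfl)⟩,
      fun ⟨h1, h2⟩ => ⟨h1.1, by rintro w (rfl | rfl) <;> assumption⟩⟩

theorem ncard_common_three {x y z : G} (hx : x ∈ Dd D a) (hy : y ∈ Dd D a) (hz : z ∈ Dd D a) :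
    (Dd D a ∩ Dd D x ∩ Dd D y ∩ Dd D z).ncard =
      (Dd E (Q.img x) ∩ Dd E (Q.img y) ∩ Dd E (Q.img z)).ncard := by
  have h := Q.ncard_common {x, y, z} (by rintro w (rfl | rfl | rfl) <;> assumption)
  refine Eq.trans (congrArg Set.ncard (Set.ext fun w => ?_)) (h.trans (congrArg Set.ncard (Set.ext fun w => ?_)))
  · exact ⟨fun ⟨⟨⟨h1, h2⟩, h3⟩, h4⟩ => ⟨h1, by rintro v (rfl | rfl | rfl) <;> assumption⟩,
      fun ⟨h1, h2⟩ => ⟨⟨⟨h1, h2 x (by simp)⟩, h2 y (by simp)⟩, h2 z (by simp)⟩⟩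
  · exact ⟨fun ⟨_, h2⟩ => ⟨⟨h2 x (by simp), h2 y (by simp)⟩, h2 z (by simp)⟩,
      fun ⟨⟨h1, h2⟩, h3⟩ => ⟨h1.1, by rintro v (rfl | rfl | rfl) <;> assumption⟩⟩

end Quot

end CfsgLib.ThreeTrans.Torsion
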