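import Mathlib
import Cfsg.Agent.Lib.ThreeTrans.Torsion.Common

/-! Sets of members whose commuting graphs look like disjointness graphs of pairs. -/

set_option autoImplicit false

namespace CfsgLib.ThreeTrans.Torsion

open CfsgLib.ThreeTrans.Tower

variable {G : Type*} [Group G] [Finite G] {D : Set G}

/-- Numbers of a commuting graph. -/
structure Graph (D S : Set G) (v k l m : ℕ) : Prop where
  sub : S ⊆ D
  card : S.ncard = v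
  deg : ∀ a ∈ S, (S ∩ Dd D a).ncard = k
  lam : ∀ a ∈ S, ∀ b ∈ S ∩ Dd D a, (S ∩ Dd D a ∩ Dd D b).ncard = l
  mu : ∀ a ∈ S, ∀ b ∈ S, ¬ Commute a b → (S ∩ Dd D a ∩ Dd D b).ncard = m

theorem Graph.map {Y : Type*} [Group Y] {E T : Set Y} {S : Set G} {v k l m : ℕ} {f : G → Y}
    (hT : Graph E T v k l m) (hS : S ⊆ D) (hf : Set.BijOn f S T)
    (hcomm : ∀ x ∈ S, ∀ y ∈ S, (Commute (f x) (f y) ↔ Commute x y)) : Graph D S v k l m := by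
  have hmem : ∀ x ∈ S, ∀ y ∈ S, (f y ∈ Dd E (f x) ↔ y ∈ Dd D x) := fun x hx y hy =>
    ⟨fun h => ⟨hS hy, fun e => h.2.1 (by rw [e]), (hcomm x hx y hy).1 h.2.2⟩,
      fun h => ⟨hT.sub (hf.mapsTo hy), fun e => h.2.1 (hf.injOn hy hx e), (hcomm x hx y hy).2 h.2.2⟩⟩
  have one : ∀ a ∈ S, f '' (S ∩ Dd D a) = T ∩ Dd E (f a) := by
    intro a ha
    ext y
    constructor
    · rintro ⟨x, ⟨hx, hxa⟩, rfl⟩
      exact ⟨hf.mapsTo hx, (hmem a ha x hx).2 hxa⟩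
    · rintro ⟨hy, hya⟩
      obtain ⟨x, hx, rfl⟩ := hf.surjOn hy
      exact ⟨x, ⟨hx, (hmem a ha x hx).1 hya⟩, rfl⟩
  have two : ∀ a ∈ S, ∀ b ∈ S, f '' (S ∩ Dd D a ∩ Dd D b) = T ∩ Dd E (f a) ∩ Dd E (f b) := by
    intro a ha b hb
    ext y
    constructor
    · rintro ⟨x, ⟨⟨hx, hxa⟩, hxb⟩, rfl⟩
      exact ⟨⟨hf.mapsTo hx, (hmem a ha x hx).2 hxa⟩, (hmem b hb x hx).2 hxb⟩
    · rintro ⟨⟨hy, hya⟩, hyb⟩
      obtain ⟨x, hx, rfl⟩ := hf.surjOn hy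
      exact ⟨x, ⟨⟨hx, (hmem a ha x hx).1 hya⟩, (hmem b hb x hx).1 hyb⟩, rfl⟩
  refine ⟨hS, ?_, fun a ha => ?_, fun a ha b hb => ?_, fun a ha b hb hab => ?_⟩
  · rw [← hf.injOn.ncard_image, hf.image_eq, hT.card]
  · rw [← (hf.injOn.mono Set.inter_subset_left).ncard_image, one a ha, hT.deg _ (hf.mapsTo ha)]
  · rw [← (hf.injOn.mono (fun x hx => hx.1.1)).ncard_image, two a ha b hb.1,
      hT.lam _ (hf.mapsTo ha) _ ⟨hf.mapsTo hb.1, (hmem a ha b hb.1).2 hb.2⟩]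
  · rw [← (hf.injOn.mono (fun x hx => hx.1.1)).ncard_image, two a ha b hb,
      hT.mu _ (hf.mapsTo ha) _ (hf.mapsTo hb) fun h => hab ((hcomm a ha b hb).1 h)]

namespace Quot

variable {Y : Type*} [Group Y] {a : G} {E : Set Y} (Q : Quot D a E)

theorem img_bij_fix {X : Subgroup G} (hX : ∀ x ∈ X, Commute x a) (hp : Odd (Nat.card X)) :
    Set.BijOn Q.img (fixD D X ∩ Dd D a) (fixD E (Q.down X)) := by
  refine ⟨fun x hx => ?_, Q.img_bij.injOn.mono Set.inter_subset_right, fun e he => ?_⟩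
  · rw [Q.img_eq (g := ⟨x, mem_centralizer_of_commute hx.2.2.2.symm⟩) hx.2]
    exact (Q.fix_iff hX hp _ hx.2).1 hx.1
  · obtain ⟨g, hg, rfl⟩ := (Q.bijOn_fix hX hp).surjOn he
    exact ⟨g, hg, Q.img_eq hg.2⟩

theorem graph_fix {X : Subgroup G} (hX : ∀ x ∈ X, Commute x a) (hp : Odd (Nat.card X)) {v k l m : ℕ}
    (h : Graph E (fixD E (Q.down X)) v k l m) : Graph D (fixD D X ∩ Dd D a) v k l m :=
  h.map (fun _ hx => hx.2.1) (Q.img_bij_fix hX hp) fun _ hx _ hy => Q.img_comm hx.2 hy.2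

theorem graph_fix_two {X : Subgroup G} (hX : ∀ x ∈ X, Commute x a) (hp : Odd (Nat.card X)) {b : G}
    (hb : b ∈ fixD D X ∩ Dd D a) {v k l m : ℕ}
    (h : Graph E (fixD E (Q.down X) ∩ Dd E (Q.img b)) v k l m) :
    Graph D (fixD D X ∩ Dd D a ∩ Dd D b) v k l m := by
  refine h.map (fun x hx => hx.1.2.1) (f := Q.img) ⟨fun x hx => ?_, Q.img_bij.injOn.mono fun x hx => hx.1.2,
    fun e he => ?_⟩ fun x hx y hy => Q.img_comm hx.1.2 hy.1.2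
  · exact ⟨(Q.img_bij_fix hX hp).mapsTo hx.1, (Q.img_mem_Dd hb.2 hx.1.2).2 hx.2⟩
  · obtain ⟨x, hx, rfl⟩ := (Q.img_bij_fix hX hp).surjOn he.1
    exact ⟨x, ⟨hx, (Q.img_mem_Dd hb.2 hx.2).1 he.2⟩, rfl⟩

end Quot

theorem card_mul_eq {α β : Type*} [Finite α] [Finite β] (s : Set α) (t : Set β) (R : α → β → Prop) {m n : ℕ}
    (ht : ∀ b ∈ t, {a ∈ s | R a b}.ncard = m) (hs : ∀ a ∈ s, n ≤ {b ∈ t | R a b}.ncard) :
    s.ncard * n ≤ t.ncard * m ∧ (s.ncard * n = t.ncard * m → ∀ a ∈ s, {b ∈ t | R a b}.ncard = n) := by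
  classical
  haveI := Fintype.ofFinite α
  haveI := Fintype.ofFinite β
  have h1 := Finset.sum_card_bipartiteAbove_eq_sum_card_bipartiteBelow (fun a b => R a b) (s := s.toFinset) (t := t.toFinset)
  have ht' : ∀ b ∈ t.toFinset, (s.toFinset.bipartiteBelow (fun a b => R a b) b).card = m := fun b hb => by
    rw [← ht b (Set.mem_toFinset.1 hb), Set.ncard_eq_toFinset_card']
    congr 1; ext a; simp [Finset.bipartiteBelow]
  have e : ∀ a, (t.toFinset.bipartiteAbove (fun a b => R a b) a).card = {b ∈ t | R a b}.ncard := fun a => by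
    rw [Set.ncard_eq_toFinset_card']
    congr 1; ext b; simp [Finset.bipartiteAbove]
  rw [Finset.sum_const_nat ht', ← Set.ncard_eq_toFinset_card', Finset.sum_congr rfl (fun a _ => e a)] at h1
  have hc : ∑ a ∈ s.toFinset, n = s.ncard * n := by
    rw [Finset.sum_const, smul_eq_mul, ← Set.ncard_eq_toFinset_card']
  refine ⟨?_, fun heq a ha => ?_⟩
  · rw [← h1, ← hc]
    exact Finset.sum_le_sum fun a ha => hs a (Set.mem_toFinset.1 ha)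
  · exact ((Finset.sum_eq_sum_iff_of_le fun a ha => hs a (Set.mem_toFinset.1 ha)).1
      (hc.trans (heq.trans h1.symm)) a (Set.mem_toFinset.2 ha)).symm

theorem Dd_subset {a : G} : Dd D a ⊆ D := fun _ h => h.1

theorem mem_Dd_of {a x : G} (hx : x ∈ D) (hne : x ≠ a) (h : Commute a x) : x ∈ Dd D a := ⟨hx, hne, h⟩

omit [Finite G] in
theorem ne_of_far {a c : G} (h : ¬ Commute a c) : c ≠ a := fun e => h (e ▸ Commute.refl a)

/-- Neighbours of a neighbour that are far. -/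
theorem ncard_beyond {S : Set G} (hS : S ⊆ D) {a b : G} (ha : a ∈ S) (hb : b ∈ S ∩ Dd D a) {k l : ℕ}
    (hk : (S ∩ Dd D b).ncard = k) (hl : (S ∩ Dd D a ∩ Dd D b).ncard = l) :
    {c ∈ S ∩ far D a | Commute c b}.ncard + 1 + l = k := by
  have e : S ∩ Dd D b = insert a ((S ∩ Dd D a ∩ Dd D b) ∪ {c ∈ S ∩ far D a | Commute c b}) := by
    ext x
    constructor
    · intro hx
      by_cases h : x = a
      · exact Or.inl h
      by_cases hc : Commute a x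
      · exact Or.inr (Or.inl ⟨⟨hx.1, hS hx.1, h, hc⟩, hx.2⟩)
      · exact Or.inr (Or.inr ⟨⟨hx.1, hS hx.1, hc⟩, hx.2.2.2.symm⟩)
    · rintro (rfl | h | h)
      · exact ⟨ha, Dd_symm (hS ha) hb.2⟩
      · exact ⟨h.1.1, h.2⟩
      · exact ⟨h.1.1, h.1.2.1, fun e => h.1.2.2 (e ▸ hb.2.2.2), h.2.symm⟩
  have hd : Disjoint (S ∩ Dd D a ∩ Dd D b) {c ∈ S ∩ far D a | Commute c b} :=
    Set.disjoint_left.2 fun x h h' => h'.1.2.2 h.1.2.2.2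
  have hn : a ∉ (S ∩ Dd D a ∩ Dd D b) ∪ {c ∈ S ∩ far D a | Commute c b} := by
    rintro (h | h)
    exacts [h.1.2.2.1 rfl, h.1.2.2 (Commute.refl a)]
  rw [e, Set.ncard_insert_of_notMem hn, Set.ncard_union_eq hd, hl] at hk
  omega

theorem graph_cases {S : Set G} (hS : S ⊆ D) {a : G} (ha : a ∈ S) :
    S.ncard = 1 + (S ∩ Dd D a).ncard + (S ∩ far D a).ncard := by
  have e1 : Dd S a = S ∩ Dd D a := Set.ext fun x => ⟨fun h => ⟨h.1, hS h.1, h.2⟩, fun h => ⟨h.1, h.2.2⟩⟩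
  have e2 : far S a = S ∩ far D a := Set.ext fun x => ⟨fun h => ⟨h.1, hS h.1, h.2⟩, fun h => ⟨h.1, h.2.2⟩⟩
  rw [← e1, ← e2]
  exact ncard_far ha

theorem common_eq {S : Set G} (hS : S ⊆ D) {a c : G} (hc : c ∈ far D a) :
    {b ∈ S ∩ Dd D a | Commute c b} = S ∩ Dd D a ∩ Dd D c :=
  Set.ext fun b => ⟨fun h => ⟨h.1, hS h.1.1, fun e => hc.2 (e ▸ h.1.2.2.2), h.2⟩, fun h => ⟨h.1, h.2.2.2⟩⟩

/-- The number of members beyond the neighbourhood and the common neighbourhoods. -/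
theorem graph_of_nbhd {S : Set G} (hS : S ⊆ D) {k l j m : ℕ} (hk : ∀ a ∈ S, (S ∩ Dd D a).ncard = k)
    (hl : ∀ a ∈ S, ∀ b ∈ S ∩ Dd D a, (S ∩ Dd D a ∩ Dd D b).ncard = l)
    (hm : ∀ a ∈ S, ∀ c ∈ S ∩ far D a, m ≤ (S ∩ Dd D a ∩ Dd D c).ncard) (hj : 1 + l + j = k) {a : G} (ha : a ∈ S) :
    (S ∩ far D a).ncard * m ≤ k * j ∧
      ((S ∩ far D a).ncard * m = k * j → ∀ c ∈ S ∩ far D a, (S ∩ Dd D a ∩ Dd D c).ncard = m) := by
  have h := card_mul_eq (S ∩ far D a) (S ∩ Dd D a) (fun c b => Commute c b) (m := j) (n := m)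
    (fun b hb => by have := ncard_beyond hS ha hb (hk b hb.1) (hl a ha b hb); omega)
    (fun c hc => by rw [common_eq hS hc.2]; exact hm a ha c hc)
  rw [hk a ha] at h
  exact ⟨h.1, fun e c hc => by rw [← common_eq hS hc.2]; exact h.2 e c hc⟩

theorem path_seven {S : Set G} (hD : ConjClosed D) (hS : Graph D S 21 10 3 6)
    (hN : ∀ a ∈ S, Graph D (S ∩ Dd D a) 10 3 0 1) {t : Fin 4 → G} {a : G} (ha : a ∈ S)
    (ht : ∀ i, t i ∈ S ∩ Dd D a) (hfar : ∀ i j : Fin 4, i.val + 1 < j.val → Commute (t i) (t j))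
    (hnear : ∀ i j : Fin 4, i.val + 1 = j.val → ¬ Commute (t i) (t j)) :
    ∃ c, c ∈ S ∧ ¬ Commute c a ∧ Commute (t 0) c ∧ Commute (t 1) c ∧ Commute (t 2) c ∧ ¬ Commute (t 3) c := by
  have hsub := hS.sub
  set P := S ∩ Dd D a
  have hP := hN a ha
  have n02 : t 2 ∈ P ∩ Dd D (t 0) := ⟨ht 2, (ht 2).2.1,
    fun e => hnear 2 3 rfl (by rw [e]; exact hfar 0 3 (by decide)), hfar 0 2 (by decide)⟩
  have n20 : t 0 ∈ P ∩ Dd D (t 2) := ⟨ht 0, Dd_symm (ht 0).2.1 n02.2⟩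
  have a0 : a ∈ S ∩ Dd D (t 0) := ⟨ha, Dd_symm (hsub ha) (ht 0).2⟩
  have a2 : a ∈ S ∩ Dd D (t 2) := ⟨ha, Dd_symm (hsub ha) (ht 2).2⟩
  obtain ⟨c, ⟨⟨hcS, hc0⟩, hc2⟩, hca⟩ := Set.exists_ne_of_one_lt_ncard (s := S ∩ Dd D (t 0) ∩ Dd D (t 2))
    (by rw [hS.lam _ (ht 0).1 _ ⟨(ht 2).1, n02.2⟩]; norm_num) a
  have hnca : ¬ Commute a c := fun hac => by
    have := hP.lam _ (ht 0) _ n02
    rw [Set.ncard_eq_zero (Set.toFinite _)] at this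
    exact Set.eq_empty_iff_forall_notMem.1 this c ⟨⟨⟨hcS, hsub hcS, hca, hac⟩, hc0⟩, hc2⟩
  set M := P ∩ Dd D c
  have t0M : t 0 ∈ M := ⟨ht 0, Dd_symm (ht 0).2.1 hc0⟩
  have t2M : t 2 ∈ M := ⟨ht 2, Dd_symm (ht 2).2.1 hc2⟩
  have hR : (P \ M).ncard = 4 := by
    rw [Set.ncard_sdiff Set.inter_subset_left (Set.toFinite _), hP.card]
    have := hS.mu a ha c hcS hnca
    rw [this]
  have one : ∀ u ∈ M, ∀ v ∈ M, v ∈ Dd D u → ∀ x ∈ P ∩ Dd D u, x ∈ Dd D c → x = v := by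
    intro u hu v hv hvu x hx hxc
    obtain ⟨w, hw⟩ := Set.ncard_eq_one.1 ((hN u hu.1.1).mu a ⟨ha, Dd_symm (hsub ha) hu.1.2⟩ c
      ⟨hcS, Dd_symm (hsub hcS) hu.2⟩ hnca)
    have h1 : x ∈ S ∩ Dd D u ∩ Dd D a ∩ Dd D c := ⟨⟨⟨hx.1.1, hx.2⟩, hx.1.2⟩, hxc⟩
    have h2 : v ∈ S ∩ Dd D u ∩ Dd D a ∩ Dd D c := ⟨⟨⟨hv.1.1, hvu⟩, hv.1.2⟩, hv.2⟩
    rw [hw] at h1 h2
    exact h1.trans h2.symm
  set U₀ := (P ∩ Dd D (t 0)) \ {t 2}
  set U₂ := (P ∩ Dd D (t 2)) \ {t 0}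
  have hU0 : U₀.ncard = 2 := by rw [Set.ncard_sdiff_singleton_of_mem n02, hP.deg _ (ht 0)]
  have hU2 : U₂.ncard = 2 := by rw [Set.ncard_sdiff_singleton_of_mem n20, hP.deg _ (ht 2)]
  have hsubU : U₀ ∪ U₂ ⊆ P \ M := by
    rintro x (⟨hx, hne⟩ | ⟨hx, hne⟩)
    · exact ⟨hx.1, fun hxM => hne (one _ t0M _ t2M n02.2 x hx hxM.2)⟩
    · exact ⟨hx.1, fun hxM => hne (one _ t2M _ t0M n20.2 x hx hxM.2)⟩
  have hdisj : Disjoint U₀ U₂ := Set.disjoint_left.2 fun x hx hx' => by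
    have := hP.lam _ (ht 0) _ n02
    rw [Set.ncard_eq_zero (Set.toFinite _)] at this
    exact Set.eq_empty_iff_forall_notMem.1 this x ⟨hx.1, hx'.1.2⟩
  have hU : U₀ ∪ U₂ = P \ M := Set.eq_of_subset_of_ncard_le hsubU
    (by rw [Set.ncard_union_eq hdisj, hU0, hU2, hR]) (Set.toFinite _)
  have h1 : t 1 ∈ M := by
    by_contra h
    have : t 1 ∈ U₀ ∪ U₂ := hU ▸ ⟨ht 1, h⟩
    rcases this with h' | h'
    exacts [hnear 0 1 rfl h'.1.2.2.2, hnear 1 2 rfl h'.1.2.2.2.symm]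
  have h3 : t 3 ∈ P \ M := hU ▸ Or.inl ⟨⟨ht 3, (ht 3).2.1,
    fun e => hnear 2 3 rfl (e ▸ (hfar 0 2 (by decide)).symm), hfar 0 3 (by decide)⟩,
    fun e => hnear 2 3 rfl (by rw [Set.mem_singleton_iff.1 e])⟩
  exact ⟨c, hcS, fun h => hnca h.symm, hc0.2.2, h1.2.2.2.symm, hc2.2.2,
    fun h => h3.2 ⟨h3.1, (ht 3).2.1, fun e => hnca (e ▸ (ht 3).2.2.2), h.symm⟩⟩

/-- Common neighbours of a far pair with a common neighbour. -/
theorem fifteen {S : Set G} (hsub : S ⊆ D) (hN : ∀ a ∈ S, Graph D (S ∩ Dd D a) 21 10 3 6)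
    (hN2 : ∀ a ∈ S, ∀ b ∈ S ∩ Dd D a, Graph D (S ∩ Dd D a ∩ Dd D b) 10 3 0 1) {a c : G} (ha : a ∈ S) (hc : c ∈ S)
    (hac : ¬ Commute a c) (hmod : (S ∩ Dd D a ∩ Dd D c).ncard % 5 = 0) (hne : (S ∩ Dd D a ∩ Dd D c).Nonempty) :
    (S ∩ Dd D a ∩ Dd D c).ncard = 15 := by
  set M := S ∩ Dd D a ∩ Dd D c
  have six : ∀ b ∈ M, (M ∩ Dd D b).ncard = 6 := fun b hb => by
    rw [← (hN b hb.1.1).mu a ⟨ha, Dd_symm (hsub ha) hb.1.2⟩ c ⟨hc, Dd_symm (hsub hc) hb.2⟩ hac]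
    congr 1; ext x; simp [M]; tauto
  obtain ⟨b, hb⟩ := hne
  obtain ⟨b', hb'⟩ : (M ∩ Dd D b).Nonempty := (Set.ncard_pos (Set.toFinite _)).1 (by rw [six b hb]; norm_num)
  have hone : (M ∩ Dd D b ∩ Dd D b').ncard = 1 := by
    rw [← (hN2 b hb.1.1 b' ⟨hb'.1.1.1, hb'.2⟩).mu a
      ⟨⟨ha, Dd_symm (hsub ha) hb.1.2⟩, Dd_symm (hsub ha) hb'.1.1.2⟩ c
      ⟨⟨hc, Dd_symm (hsub hc) hb.2⟩, Dd_symm (hsub hc) hb'.1.2⟩ hac]
    congr 1; ext x; simp [M]; tauto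
  have hbb' : b ∈ M ∩ Dd D b' := ⟨hb, Dd_symm (hsub hb.1.1) hb'.2⟩
  have hge : 11 ≤ M.ncard := by
    have e := Set.ncard_union_add_ncard_inter (insert b (M ∩ Dd D b)) (M ∩ Dd D b') (Set.toFinite _) (Set.toFinite _)
    rw [Set.insert_inter_of_mem hbb', show M ∩ Dd D b ∩ (M ∩ Dd D b') = M ∩ Dd D b ∩ Dd D b' by ext x; simp; tauto,
      Set.ncard_insert_of_notMem (fun h => h.1.2.2.1 rfl), Set.ncard_insert_of_notMem (fun h => h.2.2.1 rfl),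
      six b hb, six b' hb'.1, hone] at e
    have := Set.ncard_le_ncard (s := insert b (M ∩ Dd D b) ∪ M ∩ Dd D b') (t := M)
      (Set.union_subset (Set.insert_subset hb Set.inter_subset_left) Set.inter_subset_left) (Set.toFinite _)
    omega
  have hle : M.ncard + 4 ≤ 21 := by
    have hP := hN a ha
    have hbP : b ∈ S ∩ Dd D a := hb.1
    have hMP : M ⊆ S ∩ Dd D a := Set.inter_subset_left
    have hd : ((S ∩ Dd D a ∩ Dd D b) \ M).ncard = 4 := by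
      have e := Set.ncard_inter_add_ncard_sdiff_eq_ncard (S ∩ Dd D a ∩ Dd D b) M (Set.toFinite _)
      rw [show S ∩ Dd D a ∩ Dd D b ∩ M = M ∩ Dd D b by ext x; simp [M]; tauto, six b hb, hP.deg b hbP] at e
      omega
    have e' := Set.ncard_le_ncard (s := M ∪ (S ∩ Dd D a ∩ Dd D b) \ M) (t := S ∩ Dd D a)
      (Set.union_subset hMP fun x hx => hx.1.1) (Set.toFinite _)
    rw [Set.ncard_union_eq disjoint_sdiff_self_right, hd, hP.card] at e'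
    exact e'
  omega

/-- In such sets far pairs have common neighbours. -/
theorem common_ne {S : Set G} (hs : Cfsg.IsThreeTranspositionSet D) (hD : ConjClosed D) (hsub : S ⊆ D)
    (hclosed : ∀ x ∈ S, ∀ y ∈ S, x * y * x⁻¹ ∈ S)
    (hlam : ∀ a ∈ S, ∀ b ∈ S ∩ Dd D a, (S ∩ Dd D a ∩ Dd D b).ncard = 10)
    (hN : ∀ a ∈ S, Graph D (S ∩ Dd D a) 21 10 3 6)
    (hN2 : ∀ a ∈ S, ∀ b ∈ S ∩ Dd D a, Graph D (S ∩ Dd D a ∩ Dd D b) 10 3 0 1)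
    (hmod : ∀ a ∈ S, ∀ c ∈ S, ¬ Commute a c → (S ∩ Dd D a ∩ Dd D c).ncard % 5 = 0) {a c : G} (ha : a ∈ S)
    (hc : c ∈ S) (hac : ¬ Commute a c) : (S ∩ Dd D a ∩ Dd D c).Nonempty := by
  by_contra hemp
  rw [Set.not_nonempty_iff_eq_empty, Set.eq_empty_iff_forall_notMem] at hemp
  obtain ⟨b, hb⟩ : (S ∩ Dd D a).Nonempty := (Set.ncard_pos (Set.toFinite _)).1 (by rw [(hN a ha).card]; norm_num)
  have hab : Commute a b := hb.2.2.2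
  have hbc : ¬ Commute b c := fun h => hemp b ⟨hb, hsub hb.1, fun e => hac (e ▸ hab), h.symm⟩
  have away : ∀ z ∈ S ∩ Dd D c, ¬ Commute a z ∧ ¬ Commute b z := by
    intro z hz
    refine ⟨fun h => hemp z ⟨⟨hz.1, hsub hz.1, fun e => hac (e ▸ hz.2.2.2.symm), h⟩, hz.2⟩, fun h => ?_⟩
    have hzb : z ∈ S ∩ Dd D b ∩ Dd D c := ⟨⟨hz.1, hsub hz.1, fun e => hbc (e ▸ hz.2.2.2.symm), h⟩, hz.2⟩
    have e15 := fifteen hsub hN hN2 hb.1 hc hbc (hmod b hb.1 c hc hbc) ⟨z, hzb⟩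
    have e10 := hlam b hb.1 a ⟨ha, Dd_symm (hsub ha) hb.2⟩
    have e := Set.ncard_union_add_ncard_inter (S ∩ Dd D b ∩ Dd D c) (S ∩ Dd D b ∩ Dd D a) (Set.toFinite _) (Set.toFinite _)
    rw [e15, e10] at e
    have hu := Set.ncard_le_ncard (s := S ∩ Dd D b ∩ Dd D c ∪ S ∩ Dd D b ∩ Dd D a) (t := S ∩ Dd D b)
      (Set.union_subset Set.inter_subset_left Set.inter_subset_left) (Set.toFinite _)
    rw [(hN b hb.1).card] at hu
    obtain ⟨x, hx, hx'⟩ := (Set.ncard_pos (Set.toFinite _)).1 (show 0 < (S ∩ Dd D b ∩ Dd D c ∩ (S ∩ Dd D b ∩ Dd D a)).ncard by omega)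
    exact hemp x ⟨⟨hx.1.1, hx'.2⟩, hx.2⟩
  have haD := hsub ha
  have hbD := hsub hb.1
  set g := a * b
  have hgS : ∀ x ∈ S, g * x * g⁻¹ ∈ S := fun x hx => by
    rw [show g * x * g⁻¹ = a * (b * x * b⁻¹) * a⁻¹ by simp [g, mul_assoc]]
    exact hclosed a ha _ (hclosed b hb.1 x hx)
  have hgg : ∀ x : G, g * (g * x * g⁻¹) * g⁻¹ = x := fun x => by
    have e : g * g = 1 := by
      rw [show g * g = a * (b * a) * b by simp [g, mul_assoc], ← hab.eq]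
      simp [mul_self_mul hs haD, mul_self hs hbD]
    calc g * (g * x * g⁻¹) * g⁻¹ = (g * g) * x * (g * g)⁻¹ := by simp [mul_assoc]
      _ = x := by rw [e]; simp
  have near : ∀ z ∈ S, ¬ Commute a z → ¬ Commute b z → g * z * g⁻¹ ∈ S ∩ Dd D z := by
    intro z hz haz hbz
    have hzD := hsub hz
    refine ⟨hgS z hz, hD.conj g z hzD, fun e => ?_, ?_⟩
    · have e1 : a * (b * z * b⁻¹) * a⁻¹ = z := by
        rw [← show g * z * g⁻¹ = a * (b * z * b⁻¹) * a⁻¹ by simp [g, mul_assoc]]; exact e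
      rw [inv_eq hs haD, inv_eq hs hbD] at e1
      have e2 : b * z * b = a * z * a := by
        conv_rhs => rw [← e1]
        simp [mul_assoc, mul_self hs haD, mul_self_mul hs haD]
      rw [braid hs hbD hzD hbz, braid hs haD hzD haz] at e2
      exact hb.2.2.1 (mul_left_cancel (mul_right_cancel e2))
    · obtain ⟨φ, hφ, -, -⟩ := exists_path_hom hs hD.conj ![a, z, b] (fun i => by fin_cases i <;> assumption)
        (fun i j hij => by fin_cases i <;> fin_cases j <;> first | exact hab | simp at hij)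
        (fun i j hij => by
          fin_cases i <;> fin_cases j <;> first | exact haz | exact (fun h => hbz h.symm) | simp at hij)
      have e0 : φ (Equiv.swap (0 : Fin 4) 1) = a := hφ 0
      have e1 : φ (Equiv.swap (1 : Fin 4) 2) = z := hφ 1
      have e2 : φ (Equiv.swap (2 : Fin 4) 3) = b := hφ 2
      have e : g * z * g⁻¹ = φ (Equiv.swap (0 : Fin 4) 1 * Equiv.swap (2 : Fin 4) 3 * Equiv.swap (1 : Fin 4) 2 *
          (Equiv.swap (0 : Fin 4) 1 * Equiv.swap (2 : Fin 4) 3)⁻¹) := by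
        simp only [map_mul, map_inv, e0, e1, e2, g]
      rw [e]; conv_lhs => rw [← e1]
      refine Commute.map ?_ φ
      rw [commute_iff_eq]
      decide
  obtain ⟨hd, hcd⟩ := near c hc hac hbc
  set d := g * c * g⁻¹ with hd'
  have hK := hN2 c hc d ⟨hd, hcd⟩
  set K := S ∩ Dd D c ∩ Dd D d
  have hgK : ∀ x ∈ K, g * x * g⁻¹ ∈ K := fun x hx => by
    refine ⟨⟨hgS x hx.1.1, ?_⟩, conj_mem_Dd_conj hD g hx.1.2⟩
    have := conj_mem_Dd_conj hD g hx.2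
    rwa [hd', hgg] at this
  have hnbr : ∀ x ∈ K, g * x * g⁻¹ ∈ K ∩ Dd D x := fun x hx =>
    ⟨hgK x hx, (near x hx.1.1 (away x hx.1).1 (away x hx.1).2).2⟩
  obtain ⟨z, hz⟩ : K.Nonempty := (Set.ncard_pos (Set.toFinite _)).1 (by rw [hK.card]; norm_num)
  obtain ⟨u, hu, huz⟩ := Set.exists_ne_of_one_lt_ncard
    (show 1 < (K ∩ Dd D z).ncard by rw [hK.deg z hz]; norm_num) (g * z * g⁻¹)
  set z' := g * z * g⁻¹ with hz'
  set u' := g * u * g⁻¹ with hu'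
  have hz'u' : u' ∈ Dd D z' := conj_mem_Dd_conj hD g hu.2
  have hne : u' ≠ z := fun e => huz (by rw [hz', ← e, hu', hgg])
  have hzu' : ¬ Commute z u' := fun h => by
    have := hK.lam z hz u hu
    rw [Set.ncard_eq_zero (Set.toFinite _)] at this
    exact Set.eq_empty_iff_forall_notMem.1 this u' ⟨⟨hgK u hu.1, hsub (hgK u hu.1).1.1, hne, h⟩, (hnbr u hu.1).2⟩
  obtain ⟨w, hw⟩ := Set.ncard_eq_one.1 (hK.mu z hz u' (hgK u hu.1) hzu')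
  have h1 : u ∈ K ∩ Dd D z ∩ Dd D u' := ⟨hu, Dd_symm (hsub hu.1.1.1) (hnbr u hu.1).2⟩
  have h2 : z' ∈ K ∩ Dd D z ∩ Dd D u' := ⟨hnbr z hz, Dd_symm (hsub (hgK z hz).1.1) hz'u'⟩
  rw [hw] at h1 h2
  exact huz (h1.trans h2.symm)

theorem path_nine {S : Set G} (hsub : S ⊆ D)
    (hN : ∀ a ∈ S, Graph D (S ∩ Dd D a) 21 10 3 6)
    (hN2 : ∀ a ∈ S, ∀ b ∈ S ∩ Dd D a, Graph D (S ∩ Dd D a ∩ Dd D b) 10 3 0 1)
    (hM : ∀ a ∈ S, ∀ c ∈ S ∩ far D a, (S ∩ Dd D a ∩ Dd D c).ncard = 15) {t : Fin 6 → G} {a : G} (ha : a ∈ S)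
    (ht : ∀ i, t i ∈ S ∩ Dd D a) (hfar : ∀ i j : Fin 6, i.val + 1 < j.val → Commute (t i) (t j))
    (hnear : ∀ i j : Fin 6, i.val + 1 = j.val → ¬ Commute (t i) (t j)) :
    ∃ c, c ∈ S ∧ ¬ Commute c a ∧ (∀ i : Fin 6, i.val < 5 → Commute (t i) c) ∧ ¬ Commute (t 5) c := by
  set P := S ∩ Dd D a
  have hP := hN a ha
  have adj : ∀ i j : Fin 6, ∀ k : Fin 6, i.val + 1 < j.val → k.val + 1 = j.val ∨ j.val + 1 = k.val →
      Commute (t i) (t k) → t j ∈ Dd D (t i) := by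
    intro i j k hij hk hik
    refine ⟨(ht j).2.1, fun e => ?_, hfar i j hij⟩
    rcases hk with hk | hk
    · exact hnear k j hk (e ▸ hik.symm)
    · exact hnear j k hk (e ▸ hik)
  have n02 : t 2 ∈ Dd D (t 0) := adj 0 2 3 (by decide) (Or.inr rfl) (hfar 0 3 (by decide))
  have n24 : t 4 ∈ Dd D (t 2) := adj 2 4 5 (by decide) (Or.inr rfl) (hfar 2 5 (by decide))
  have n04 : t 4 ∈ Dd D (t 0) := adj 0 4 5 (by decide) (Or.inr rfl) (hfar 0 5 (by decide))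
  have sym : ∀ {i j : Fin 6}, t j ∈ Dd D (t i) → t i ∈ Dd D (t j) := fun {i j} h => Dd_symm (ht i).2.1 h
  obtain ⟨c, ⟨⟨⟨hcS, hc0⟩, hc2⟩, hc4⟩, hca⟩ := Set.exists_ne_of_one_lt_ncard
    (s := S ∩ Dd D (t 0) ∩ Dd D (t 2) ∩ Dd D (t 4))
    (by rw [(hN (t 0) (ht 0).1).lam (t 2) ⟨(ht 2).1, n02⟩ (t 4) ⟨⟨(ht 4).1, n04⟩, n24⟩]; norm_num) a
  have four : ∀ x ∈ S, x ∈ Dd D a → x ∈ Dd D (t 0) → x ∈ Dd D (t 2) → x ∈ Dd D (t 4) → False := by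
    intro x hx hxa hx0 hx2 hx4
    have := (hN2 a ha (t 0) (ht 0)).lam (t 2) ⟨ht 2, n02⟩ (t 4) ⟨⟨ht 4, n04⟩, n24⟩
    rw [Set.ncard_eq_zero (Set.toFinite _)] at this
    exact Set.eq_empty_iff_forall_notMem.1 this x ⟨⟨⟨⟨hx, hxa⟩, hx0⟩, hx2⟩, hx4⟩
  have hnca : ¬ Commute a c := fun hac => four c hcS ⟨hsub hcS, hca, hac⟩ hc0 hc2 hc4
  set M := P ∩ Dd D c
  have t0M : t 0 ∈ M := ⟨ht 0, Dd_symm (ht 0).2.1 hc0⟩
  have t2M : t 2 ∈ M := ⟨ht 2, Dd_symm (ht 2).2.1 hc2⟩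
  have t4M : t 4 ∈ M := ⟨ht 4, Dd_symm (ht 4).2.1 hc4⟩
  have hR : (P \ M).ncard = 6 := by
    rw [Set.ncard_sdiff Set.inter_subset_left (Set.toFinite _), hP.card, hM a ha c ⟨hcS, hsub hcS, hnca⟩]
  let U : Fin 6 → Fin 6 → Fin 6 → Set G := fun i j k => (P ∩ Dd D (t i) ∩ Dd D (t j)) \ {t k}
  have hU : ∀ i j k : Fin 6, t i ∈ M → t j ∈ M → t k ∈ M → t j ∈ Dd D (t i) → t k ∈ Dd D (t i) → t k ∈ Dd D (t j) →
      (U i j k).ncard = 2 ∧ U i j k ⊆ P \ M := by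
    intro i j k hi hj hk hji hki hkj
    refine ⟨?_, ?_⟩
    · rw [Set.ncard_sdiff_singleton_of_mem (show t k ∈ P ∩ Dd D (t i) ∩ Dd D (t j) from ⟨⟨ht k, hki⟩, hkj⟩),
        hP.lam _ (ht i) _ ⟨ht j, hji⟩]
    · rintro x ⟨hx, hxk⟩
      refine ⟨hx.1.1, fun hxM => hxk ?_⟩
      obtain ⟨w, hw⟩ := Set.ncard_eq_one.1 ((hN2 (t i) (ht i).1 (t j) ⟨(ht j).1, hji⟩).mu a
        ⟨⟨ha, Dd_symm (hsub ha) (ht i).2⟩, Dd_symm (hsub ha) (ht j).2⟩ c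
        ⟨⟨hcS, Dd_symm (hsub hcS) hi.2⟩, Dd_symm (hsub hcS) hj.2⟩ hnca)
      have h1 : x ∈ S ∩ Dd D (t i) ∩ Dd D (t j) ∩ Dd D a ∩ Dd D c :=
        ⟨⟨⟨⟨hx.1.1.1, hx.1.2⟩, hx.2⟩, hx.1.1.2⟩, hxM.2⟩
      have h2 : t k ∈ S ∩ Dd D (t i) ∩ Dd D (t j) ∩ Dd D a ∩ Dd D c :=
        ⟨⟨⟨⟨(ht k).1, hki⟩, hkj⟩, (ht k).2⟩, hk.2⟩
      rw [hw] at h1 h2
      exact h1.trans h2.symm
  obtain ⟨c1, s1⟩ := hU 0 2 4 t0M t2M t4M n02 n04 n24
  obtain ⟨c2, s2⟩ := hU 0 4 2 t0M t4M t2M n04 n02 (sym n24)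
  obtain ⟨c3, s3⟩ := hU 2 4 0 t2M t4M t0M n24 (sym n02) (sym n04)
  have d12 : Disjoint (U 0 2 4) (U 0 4 2) := Set.disjoint_left.2 fun x hx hx' =>
    four x hx.1.1.1.1 hx.1.1.1.2 hx.1.1.2 hx.1.2 hx'.1.2
  have d123 : Disjoint (U 0 2 4 ∪ U 0 4 2) (U 2 4 0) := Set.disjoint_left.2 fun x hx hx' => by
    rcases hx with hx | hx
    · exact four x hx.1.1.1.1 hx.1.1.1.2 hx.1.1.2 hx.1.2 hx'.1.2
    · exact four x hx.1.1.1.1 hx.1.1.1.2 hx.1.1.2 hx'.1.1.2 hx.1.2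
  have hall : U 0 2 4 ∪ U 0 4 2 ∪ U 2 4 0 = P \ M := Set.eq_of_subset_of_ncard_le
    (Set.union_subset (Set.union_subset s1 s2) s3)
    (by rw [Set.ncard_union_eq d123, Set.ncard_union_eq d12, c1, c2, c3, hR]) (Set.toFinite _)
  have h1 : t 1 ∈ M := by
    by_contra h
    have : t 1 ∈ U 0 2 4 ∪ U 0 4 2 ∪ U 2 4 0 := hall ▸ ⟨ht 1, h⟩
    rcases this with (h' | h') | h'
    exacts [hnear 0 1 rfl h'.1.1.2.2.2, hnear 0 1 rfl h'.1.1.2.2.2, hnear 1 2 rfl h'.1.1.2.2.2.symm]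
  have h3 : t 3 ∈ M := by
    by_contra h
    have : t 3 ∈ U 0 2 4 ∪ U 0 4 2 ∪ U 2 4 0 := hall ▸ ⟨ht 3, h⟩
    rcases this with (h' | h') | h'
    exacts [hnear 2 3 rfl h'.1.2.2.2, hnear 3 4 rfl h'.1.2.2.2.symm, hnear 2 3 rfl h'.1.1.2.2.2]
  have h5 : t 5 ∈ P \ M := hall ▸ Or.inl (Or.inl ⟨⟨⟨ht 5,
    adj 0 5 4 (by decide) (Or.inl rfl) (hfar 0 4 (by decide))⟩,
    adj 2 5 4 (by decide) (Or.inl rfl) (hfar 2 4 (by decide))⟩,
    fun e => hnear 4 5 rfl (by rw [Set.mem_singleton_iff.1 e])⟩)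
  refine ⟨c, hcS, fun h => hnca h.symm, fun i hi => ?_,
    fun h => h5.2 ⟨h5.1, (ht 5).2.1, fun e => hnca (e ▸ (ht 5).2.2.2), h.symm⟩⟩
  fin_cases i
  exacts [hc0.2.2, h1.2.2.2.symm, hc2.2.2, h3.2.2.2.symm, hc4.2.2, absurd hi (by decide)]

end CfsgLib.ThreeTrans.Torsion
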