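import Mathlib
import Cfsg.Agent.Lib.ThreeTrans.Tower.PairUnitary
import Cfsg.Agent.Lib.ThreeTrans.Tower.UnitaryCount

/-! Members commuting with a pair and with one of their common neighbours. -/

set_option autoImplicit false
set_option linter.unusedSectionVars false

namespace CfsgLib.ThreeTrans.USix

open Matrix CfsgLib.ClassicalGroups

variable {F : Type*} [Field F] [Fintype F]

local notation "V" => Fin 6 → F
local notation "W" => Fin 4 → F
local notation "𝕙" => Cfsg.hermForm 6 F 2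
local notation "𝕙₄" => Cfsg.hermForm 4 F 2
local notation "PSU₆" => Cfsg.PSU 6 F 2

variable (hF : Fintype.card F = 2 ^ 2)
include hF

theorem ncard_tail_perp {z : W} (hz : z ≠ 0) (hzz : 𝕙₄ z z = 0) :
    {y : W | 𝕙₄ y y = 0 ∧ 𝕙₄ y z = 0}.ncard = 40 := by
  have h2 := two_eq_zero hF
  obtain ⟨g, hg⟩ := exists_GU_family hF ![(![1, 1, 0, 0] : W)] ![z]
    (LinearIndependent.of_subsingleton 0 fun h => one_ne_zero (α := F) (congrFun h 0))
    (LinearIndependent.of_subsingleton 0 hz) (fun i j => by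
      fin_cases i; fin_cases j
      simp only [Fin.zero_eta, Matrix.cons_val_fin_one, hzz, herm_four hF]
      simp; linear_combination h2)
  have hG : ∀ x y, 𝕙₄ (g.1.val *ᵥ x) (g.1.val *ᵥ y) = 𝕙₄ x y := mem_GU_iff.1 g.2
  have hg0 : g.1.val *ᵥ (![1, 1, 0, 0] : W) = z := hg 0
  have hperp : ∀ y : W, 𝕙₄ y ![1, 1, 0, 0] = 0 ↔ y 0 = y 1 := fun y => by
    rw [herm_four hF]
    simp
    exact ⟨fun h => by linear_combination h - y 1 * h2, fun h => by linear_combination h + y 1 * h2⟩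
  have htwo : ∀ s : Fin 2 → F, Cfsg.hermForm 2 F 2 s s = s 0 * s 0 ^ 2 + s 1 * s 1 ^ 2 := fun s => by
    simp [Cfsg.hermForm, Fin.sum_univ_two]
  have e : {y : W | 𝕙₄ y y = 0 ∧ 𝕙₄ y z = 0} =
      (fun p : F × (Fin 2 → F) => g.1.val *ᵥ (![p.1, p.1, p.2 0, p.2 1] : W)) ''
        (Set.univ ×ˢ {s : Fin 2 → F | Cfsg.hermForm 2 F 2 s s = 0}) := by
    ext y
    constructor
    · rintro ⟨h1, h2'⟩
      obtain ⟨x, rfl⟩ : ∃ x, g.1.val *ᵥ x = y :=
        ⟨(g⁻¹).1.val *ᵥ y, by rw [← GU_mul_mulVec, mul_inv_cancel, GU_one_mulVec]⟩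
      rw [hG] at h1
      rw [← hg0, hG, hperp] at h2'
      rw [herm_four hF] at h1
      refine ⟨(x 0, ![x 2, x 3]), ⟨Set.mem_univ _, ?_⟩, ?_⟩
      · show Cfsg.hermForm 2 F 2 _ _ = 0
        rw [htwo]
        simp only [Matrix.cons_val_zero, Matrix.cons_val_one]
        rw [← h2'] at h1
        linear_combination h1 - (x 0 * x 0 ^ 2) * h2
      · show g.1.val *ᵥ _ = _
        congr 1
        funext i
        fin_cases i <;> simp [h2']
    · rintro ⟨⟨s, t⟩, ⟨-, ht⟩, rfl⟩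
      refine ⟨?_, ?_⟩
      · show 𝕙₄ _ _ = 0
        have ht' : Cfsg.hermForm 2 F 2 t t = 0 := ht
        rw [htwo] at ht'
        rw [hG, herm_four hF]
        simp
        linear_combination ht' + (s * s ^ 2) * h2
      · show 𝕙₄ _ z = 0
        rw [← hg0, hG, hperp]
        simp
  rw [e, Set.ncard_image_of_injective, Set.ncard_prod, Set.ncard_univ, ncard_iso_two hF, Nat.card_eq_fintype_card, hF]
  · norm_num
  · intro p q h
    have h' := congrArg ((g⁻¹).1.val *ᵥ ·) h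
    simp only [← GU_mul_mulVec, inv_mul_cancel, GU_one_mulVec] at h'
    refine Prod.ext (congrFun h' 0) (funext fun i => ?_)
    fin_cases i
    · exact congrFun h' 2
    · exact congrFun h' 3

namespace TClass

variable {E : Set (Cfsg.PSU 6 F 2)} (hE : TClass E)
include hE

/-- Twelve members commute with a pair and one of their common neighbours. -/
theorem triple_eq {a c x : PSU₆} (ha : a ∈ E) (hc : c ∈ E) (hac : ¬ Commute a c) (hx : x ∈ Dd E a ∩ Dd E c) :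
    (Dd E a ∩ Dd E c ∩ Dd E x).ncard = 12 := by
  classical
  obtain ⟨w, hw0, hw1, hw⟩ := exists_omega hF
  obtain ⟨hu0, huu, -, -⟩ := u₀_spec hF hw0 hw
  obtain ⟨A₀, hA₀⟩ := exists_tvAt hF (v₀_ne hF) (v₀_iso hF)
  obtain ⟨U₀, hU₀⟩ := exists_tvAt hF hu0 huu
  obtain ⟨t, rfl, rfl⟩ := hE.normal hF hw0 hw hA₀ hU₀ ha hc hac
  set x' := t⁻¹ * x * t⁻¹⁻¹ with hx'
  have h1 := conj_mem_Dd_conj (hE.closed hF) t⁻¹ hx.1
  have h2 := conj_mem_Dd_conj (hE.closed hF) t⁻¹ hx.2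
  rw [show t⁻¹ * (t * QuotientGroup.mk A₀ * t⁻¹) * t⁻¹⁻¹ = QuotientGroup.mk A₀ by group] at h1
  rw [show t⁻¹ * (t * QuotientGroup.mk U₀ * t⁻¹) * t⁻¹⁻¹ = QuotientGroup.mk U₀ by group] at h2
  obtain ⟨z, Z, hZ, hzz, hz, hZx⟩ := hE.pair_tail hF hw hA₀ hU₀ ⟨h1, h2⟩
  have hx0 : x = t * QuotientGroup.mk Z * t⁻¹ := by rw [hZx]; group
  rw [hx0, ← Tower.image_Dd (hE.closed hF), ← Tower.image_Dd (hE.closed hF), ← Tower.image_Dd (hE.closed hF),
    ← Set.image_inter fun p q h => mul_left_cancel (mul_right_cancel h),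
    ← Set.image_inter fun p q h => mul_left_cancel (mul_right_cancel h),
    Set.ncard_image_of_injective _ fun p q h => mul_left_cancel (mul_right_cancel h)]
  set L := Set.range fun s : F => s • z
  set T := {y : W | 𝕙₄ y y = 0 ∧ 𝕙₄ y z = 0}
  have hLT : L ⊆ T := by
    rintro _ ⟨s, rfl⟩
    show 𝕙₄ _ _ = 0 ∧ 𝕙₄ _ _ = 0
    rw [hermForm_smul_left, hermForm_smul_left, hermForm_smul_right, hzz]
    simp
  have hL : L.ncard = 4 := by
    rw [Set.ncard_range_of_injective (smul_left_injective F hz), Nat.card_eq_fintype_card, hF]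
    norm_num
  have e : Dd E (QuotientGroup.mk A₀) ∩ Dd E (QuotientGroup.mk U₀) ∩ Dd E (QuotientGroup.mk Z) =
      ptsOf ((fun y : W => mk6 0 0 y) '' (T \ L)) := by
    ext p
    constructor
    · rintro ⟨hp, hpZ⟩
      obtain ⟨y, Y, hY, hyy, -, rfl⟩ := hE.pair_tail hF hw hA₀ hU₀ hp
      obtain ⟨q1, q2⟩ := (hE.mem_Dd_iff hF hZ hY).1 hpZ
      refine ⟨_, Y, hY, ⟨y, ⟨⟨hyy, ?_⟩, ?_⟩, rfl⟩, rfl⟩
      · rw [herm_mk6] at q1; linear_combination q1
      · rintro ⟨s, rfl⟩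
        exact q2 s (by rw [smul_mk6, mul_zero])
    · rintro ⟨_, Y, hY, ⟨y, ⟨⟨hyy, hyz⟩, hyL⟩, rfl⟩, rfl⟩
      have hy0 : y ≠ 0 := fun h => hyL ⟨0, by simp [h]⟩
      refine ⟨⟨(hE.mem_Dd_iff hF hA₀ hY).2 ⟨(tail_perp hF w y).1, smul_ne_of_tl (tl_mk6 1 1 0) (by rw [tl_mk6]; exact hy0)⟩,
        (hE.mem_Dd_iff hF hU₀ hY).2 ⟨(tail_perp hF w y).2, smul_ne_of_tl (tl_mk6 w (w ^ 2) 0) (by rw [tl_mk6]; exact hy0)⟩⟩,
        (hE.mem_Dd_iff hF hZ hY).2 ⟨by rw [herm_mk6, hyz]; ring, fun s h => ?_⟩⟩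
      rw [smul_mk6, mul_zero] at h
      exact hyL ⟨s, ((mk6_inj.1 h).2.2).symm⟩
  have h := ncard_ptsOf hF (S := (fun y : W => mk6 0 0 y) '' (T \ L)) (by
      rintro _ ⟨y, ⟨⟨hyy, -⟩, hyL⟩, rfl⟩
      refine ⟨fun h => hyL ⟨0, ?_⟩, by rw [herm_mk6, hyy]; ring⟩
      have : y = 0 := (tl_mk6 0 0 y).symm.trans (congrArg tl h)
      simp [this]) (by
      rintro _ ⟨y, ⟨⟨hyy, hyz⟩, hyL⟩, rfl⟩ s hs
      refine ⟨s • y, ⟨⟨?_, ?_⟩, ?_⟩, by simp [smul_mk6]⟩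
      · rw [hermForm_smul_left, hermForm_smul_right, hyy, mul_zero, mul_zero]
      · rw [hermForm_smul_left, hyz, mul_zero]
      · rintro ⟨r, hr⟩
        exact hyL ⟨s⁻¹ * r, by show (s⁻¹ * r) • z = y; rw [mul_smul]; exact (congrArg (s⁻¹ • ·) hr).trans (inv_smul_smul₀ hs y)⟩)
  rw [← e, Set.ncard_image_of_injective _ fun p q hpq => (mk6_inj.1 hpq).2.2,
    Set.ncard_sdiff hLT (Set.toFinite _), hL, ncard_tail_perp hF hz hzz] at h
  omega

end TClass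

end CfsgLib.ThreeTrans.USix
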