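import Mathlib
import Cfsg.Agent.Lib.ThreeTrans.Torsion.Common
import Cfsg.Agent.Lib.ThreeTrans.Torsion.UnitaryTriple
import Cfsg.Agent.Lib.ThreeTrans.Torsion.TypeTwentyThree

/-! Subgroups of order 5 in groups of type M(22). -/

set_option autoImplicit false

namespace CfsgLib.ThreeTrans.Torsion

open CfsgLib.ThreeTrans.Tower

universe u

variable {G : Type u} [Group G] [Finite G] {D : Set G}

theorem common_fixed {a c : G} {p m : ℕ} [Fact p.Prime] (hD : ConjClosed D) {X : Subgroup G} (hX : Nat.card X = p)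
    (ha : a ∈ fixD D X) (hc : c ∈ fixD D X) (hm : (Dd D a ∩ Dd D c).ncard = m) (hmp : m % p ≠ 0) :
    ∃ b ∈ fixD D X, b ∈ Dd D a ∧ b ∈ Dd D c := by
  have hfix : ∀ x ∈ X, ∀ d ∈ fixD D X, x * d * x⁻¹ = d := fun x hx d hd =>
    mul_inv_eq_iff_eq_mul.2 ((mem_fixD.1 hd).2 x hx).eq
  have h := ncard_modEq hX (O := Dd D a ∩ Dd D c) fun x hx b hb =>
    ⟨by have := conj_mem_Dd_conj hD x hb.1; rwa [hfix x hx a ha] at this,
      by have := conj_mem_Dd_conj hD x hb.2; rwa [hfix x hx c hc] at this⟩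
  by_contra! hno
  have hempty : {b ∈ Dd D a ∩ Dd D c | ∀ x ∈ X, Commute x b} = ∅ :=
    Set.eq_empty_of_forall_notMem fun b ⟨hb, hbX⟩ => hno b (mem_fixD.2 ⟨hb.1.1, hbX⟩) hb.1 hb.2
  unfold Nat.ModEq at h
  rw [hempty, Set.ncard_empty, hm, Nat.zero_mod] at h
  exact hmp h

/-- The local picture at a fixed member. -/
theorem local_five (hD : Cfsg.IsThreeTranspositionGroup D) (hprim : Cfsg.IsPrimitiveUnderConj D)
    (h : Cfsg.IsOfTypeM22 G D) {X : Subgroup G} (hX : Nat.card X = 5) {a : G} (ha : a ∈ fixD D X) :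
    (fixD D X ∩ Dd D a).ncard = 3 ∧
      (∀ y ∈ fixD D X ∩ Dd D a, ∀ z ∈ fixD D X ∩ Dd D a, y ≠ z → ¬ Commute y z) ∧
      Nat.card (Subgroup.centralizer (X : Set G) ⊓ Subgroup.centralizer (fixD D X ∩ Dd D a) ⊓
        Subgroup.centralizer ({a} : Set G) : Subgroup G) = 10 := by
  obtain ⟨F, _, _, E, hF, hE, hQ⟩ := data22 hD hprim h
  obtain ⟨haD, hXa⟩ := mem_fixD.1 ha
  have hodd : Odd (Nat.card X) := by rw [hX]; exact ⟨2, rfl⟩
  obtain ⟨Q⟩ := hQ a haD
  obtain ⟨h3, hnc, hC⟩ := fixD_five hF hE (X := Q.down X) (by rw [Q.card_down hXa hodd, hX])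
  refine ⟨by rw [Q.ncard_fix hXa hodd, h3], fun y hy z hz hyz hcm => ?_, ?_⟩
  · let y' : ↥(Subgroup.centralizer ({a} : Set G)) := ⟨y, mem_centralizer_of_commute hy.2.2.2.symm⟩
    let z' : ↥(Subgroup.centralizer ({a} : Set G)) := ⟨z, mem_centralizer_of_commute hz.2.2.2.symm⟩
    exact hnc _ ((Q.fix_iff hXa hodd y' hy.2).1 hy.1) _ ((Q.fix_iff hXa hodd z' hz.2).1 hz.1)
      (fun e => hyz (congrArg Subtype.val (Q.bij.injOn (x₁ := y') hy.2 (x₂ := z') hz.2 e)))
      ((Q.comm y' z' hy.2 hz.2).2 hcm)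
  · rw [Q.card_inf _ (Subgroup.centralizer (Q.down X : Set (Cfsg.PSU 6 F 2)) ⊓
      Subgroup.centralizer (fixD E (Q.down X))) fun g => ?_, hC]
    simp only [Subgroup.mem_inf, Q.commute_down hXa hodd]
    refine and_congr_right fun _ => ?_
    rw [Subgroup.mem_centralizer_iff, Subgroup.mem_centralizer_iff]
    constructor
    · intro hg e he
      obtain ⟨y, hy, rfl⟩ := (Q.bijOn_fix hXa hodd).surjOn he
      rw [← map_mul, ← map_mul]
      exact congrArg Q.Φ (Subtype.ext (hg y hy))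
    · intro hg y hy
      let y' : ↥(Subgroup.centralizer ({a} : Set G)) := ⟨y, mem_centralizer_of_commute hy.2.2.2.symm⟩
      have e1 := hg _ ((Q.bijOn_fix hXa hodd).mapsTo (show y' ∈ _ from hy))
      have hgm : ((g * y' * g⁻¹ : ↥(Subgroup.centralizer ({a} : Set G))) : G) ∈ Dd D a :=
        conj_mem_Dd (conjClosed_of_group hD) (Subgroup.mem_centralizer_singleton_iff.1 g.2) hy.2
      have e2 := Q.bij.injOn (x₁ := g * y' * g⁻¹) hgm (x₂ := y') hy.2 (by rw [map_mul, map_mul, map_inv, ← e1, mul_inv_cancel_right])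
      exact (congrArg Subtype.val (mul_inv_eq_iff_eq_mul.1 e2)).symm

/-- A subgroup of order five fixing a member fixes ten, the transpositions of a symmetric group. -/
theorem ten_five (hD : Cfsg.IsThreeTranspositionGroup D) (hprim : Cfsg.IsPrimitiveUnderConj D)
    (h : Cfsg.IsOfTypeM22 G D) {X : Subgroup G} (hX : Nat.card X = 5) (hne : (fixD D X).Nonempty) :
    (fixD D X).ncard = 10 ∧ ∃ Z : SymSet (fixD D X) 5, ∃ t : Fin 4 → G,
      (∀ i : Fin 4, Z.φ (Equiv.swap i.castSucc i.succ) = t i) ∧ (∀ i, t i ∈ fixD D X) ∧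
      (∀ i j : Fin 4, i.val + 1 < j.val → Commute (t i) (t j)) ∧
      ∀ i j : Fin 4, i.val + 1 = j.val → ¬ Commute (t i) (t j) := by
  classical
  haveI : Fact (Nat.Prime 5) := ⟨by norm_num⟩
  have hc := conjClosed_of_group hD
  have L := local22 hD hprim h
  obtain ⟨a, ha⟩ := hne
  have haD := (mem_fixD.1 ha).1
  obtain ⟨h3, hnc, -⟩ := local_five hD hprim h hX ha
  obtain ⟨b₁, b₂, b₃, h12, h13, h23, hB⟩ := Set.ncard_eq_three.1 h3
  have near : ∀ c ∈ fixD D X ∩ far D a, ∃ b ∈ fixD D X ∩ Dd D a, c ∈ (fixD D X ∩ Dd D b) \ {a} := by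
    intro c hc'
    obtain ⟨b, hb, hba, hbc⟩ := common_fixed hc hX ha hc'.1 (L.mu a haD c hc'.2.1 hc'.2.2) (by norm_num)
    exact ⟨b, ⟨hb, hba⟩, ⟨hc'.1, Dd_symm hc'.2.1 hbc⟩, fun e => hc'.2.2 (e ▸ Commute.refl a)⟩
  have two : ∀ b ∈ fixD D X ∩ Dd D a, ((fixD D X ∩ Dd D b) \ {a}).ncard = 2 := by
    intro b hb
    rw [Set.ncard_sdiff_singleton_of_mem (show a ∈ fixD D X ∩ Dd D b from ⟨ha, Dd_symm haD hb.2⟩),
      (local_five hD hprim h hX hb.1).1]
  have hb : ∀ b ∈ ({b₁, b₂, b₃} : Set G), b ∈ fixD D X ∩ Dd D a := fun b hb => by rw [hB]; exact hb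
  have hle : (fixD D X ∩ far D a).ncard ≤ 6 := by
    refine (Set.ncard_le_ncard (t := (fixD D X ∩ Dd D b₁) \ {a} ∪ (fixD D X ∩ Dd D b₂) \ {a} ∪
      (fixD D X ∩ Dd D b₃) \ {a}) (fun c hc' => ?_) (Set.toFinite _)).trans ?_
    · obtain ⟨b, hb', hc''⟩ := near c hc'
      rw [hB] at hb'
      rcases hb' with rfl | rfl | rfl
      exacts [Or.inl (Or.inl hc''), Or.inl (Or.inr hc''), Or.inr hc'']
    · refine (Set.ncard_union_le _ _).trans ?_
      refine (Nat.add_le_add_right (Set.ncard_union_le _ _) _).trans ?_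
      rw [two b₁ (hb _ (by simp)), two b₂ (hb _ (by simp)), two b₃ (hb _ (by simp))]
  have hmod := fixD_modEq hc hX
  rw [L.card, fixD_cases ha, h3] at hmod
  have hge : 2 ≤ (fixD D X ∩ far D a).ncard := by
    obtain ⟨b, hb'⟩ : ∃ b, b ∈ fixD D X ∩ Dd D a := ⟨b₁, hb _ (by simp)⟩
    rw [← two b hb']
    refine Set.ncard_le_ncard (fun c hc' => ?_) (Set.toFinite _)
    obtain ⟨⟨hcf, hcb⟩, hca⟩ := hc'
    refine ⟨hcf, (mem_fixD.1 hcf).1, fun hcomm => ?_⟩
    have hcA : c ∈ fixD D X ∩ Dd D a := ⟨hcf, (mem_fixD.1 hcf).1, hca, hcomm⟩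
    exact hnc b hb' c hcA (Ne.symm hcb.2.1) hcb.2.2
  have hten : (fixD D X).ncard = 10 := by rw [fixD_cases ha, h3]; omega
  obtain ⟨t, ht, hfar, hnear⟩ := exists_path_ten hten hc (fun x hx => hx.1)
    (fun x hx y hy => fixD_closed hc hx hy) (fun x hx => (local_five hD hprim h hX hx).1)
    (fun x hx => (local_five hD hprim h hX hx).2.1)
  obtain ⟨Z, hZ⟩ := exists_symSet hc t ht hfar hnear (Or.inr le_rfl) (by rw [hten, ncard_swaps]; decide)
  exact ⟨hten, Z, t, hZ, ht, hfar, hnear⟩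

theorem rotate_five : orderOf (finRotate 5) = 5 := by
  haveI : Fact (Nat.Prime 5) := ⟨by norm_num⟩
  exact orderOf_eq_prime (by decide) (by decide)

/-- The subgroup generated by the product of a path. -/
theorem path_subgroup (hD : Cfsg.IsThreeTranspositionGroup D) {t : Fin 4 → G} (ht : ∀ i, t i ∈ D)
    (hfar : ∀ i j : Fin 4, i.val + 1 < j.val → Commute (t i) (t j))
    (hnear : ∀ i j : Fin 4, i.val + 1 = j.val → ¬ Commute (t i) (t j)) :
    ∃ Y : Subgroup G, Nat.card Y = 5 ∧ (∀ u, (∀ i, Commute (t i) u) → ∀ y ∈ Y, Commute y u) ∧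
      ∃ y ∈ Y, ¬ Commute y (t 3) := by
  obtain ⟨φ, hφ, -, hinj⟩ := exists_path_hom hD.1 (conjClosed_of_group hD).conj t ht hfar hnear
  have hi := hinj (Or.inr le_rfl)
  refine ⟨Subgroup.zpowers (φ (finRotate 5)), by rw [Nat.card_zpowers, orderOf_injective φ hi, rotate_five],
    fun u hu y hy => ?_, φ (finRotate 5), Subgroup.mem_zpowers _, fun hc => ?_⟩
  · obtain ⟨i, rfl⟩ := Subgroup.mem_zpowers_iff.1 hy
    refine Commute.zpow_left ?_ i
    have hσ : finRotate 5 ∈ Submonoid.closure (Set.range fun i : Fin 4 => Equiv.swap i.castSucc i.succ) := by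
      rw [Equiv.Perm.mclosure_swap_castSucc_succ]; exact Submonoid.mem_top _
    generalize finRotate 5 = σ at hσ ⊢
    induction hσ using Submonoid.closure_induction with
    | mem z hz => obtain ⟨i, rfl⟩ := hz; rw [hφ]; exact hu i
    | one => rw [map_one]; exact Commute.one_left u
    | mul a b _ _ ha hb => rw [map_mul]; exact ha.mul_left hb
  · have e := hc.eq
    rw [← hφ 3, ← map_mul, ← map_mul] at e
    exact absurd (hi e) (by decide)

theorem ncard_lt_of_avg {α β : Type*} [Finite α] [Finite β] (s : Set α) (t : Set β) (R : α → β → Prop) {m n N : ℕ}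
    (ht : ∀ b ∈ t, {a ∈ s | R a b}.ncard = m) (hs : ∀ a ∈ s, {b ∈ t | R a b}.ncard ≤ n) (hN : t.ncard * m = N)
    {a₀ : α} (ha₀ : a₀ ∈ s) (h0 : ∀ b ∈ t, ¬ R a₀ b) : N ≤ (s.ncard - 1) * n := by
  classical
  haveI := Fintype.ofFinite α
  haveI := Fintype.ofFinite β
  have h1 := Finset.sum_card_bipartiteAbove_eq_sum_card_bipartiteBelow (fun a b => R a b) (s := s.toFinset) (t := t.toFinset)
  have ht' : ∀ b ∈ t.toFinset, (s.toFinset.bipartiteBelow (fun a b => R a b) b).card = m := fun b hb => by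
    rw [← ht b (Set.mem_toFinset.1 hb), Set.ncard_eq_toFinset_card']
    congr 1; ext a; simp [Finset.bipartiteBelow]
  rw [Finset.sum_const_nat ht', ← Set.ncard_eq_toFinset_card', hN] at h1
  rw [← h1, Set.ncard_eq_toFinset_card' s,
    ← Finset.add_sum_erase _ _ (Set.mem_toFinset.2 ha₀ : a₀ ∈ s.toFinset)]
  have e0 : (t.toFinset.bipartiteAbove (fun a b => R a b) a₀).card = 0 :=
    Finset.card_eq_zero.2 (Finset.eq_empty_of_forall_notMem fun b hb => by
      simp only [Finset.bipartiteAbove, Finset.mem_filter, Set.mem_toFinset] at hb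
      exact h0 b hb.1 hb.2)
  rw [e0, zero_add, ← Finset.card_erase_of_mem (Set.mem_toFinset.2 ha₀ : a₀ ∈ s.toFinset), ← smul_eq_mul]
  refine Finset.sum_le_card_nsmul _ _ _ fun a ha => ?_
  refine le_trans (le_of_eq ?_) (hs a (Set.mem_toFinset.1 (Finset.mem_of_mem_erase ha)))
  rw [Set.ncard_eq_toFinset_card']
  congr 1; ext b; simp [Finset.bipartiteAbove]

/-- Four members forming a path commute with a common member. -/
theorem path_common (hD : Cfsg.IsThreeTranspositionGroup D) (hprim : Cfsg.IsPrimitiveUnderConj D)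
    (h : Cfsg.IsOfTypeM22 G D) {a b₁ b₂ c : G} (ha : a ∈ D) (hb₁ : b₁ ∈ Dd D a) (hb₂ : b₂ ∈ Dd D a)
    (hc : c ∈ Dd D b₁) (h12 : ¬ Commute b₁ b₂) (h2c : ¬ Commute b₂ c) (hac : ¬ Commute a c) :
    ∃ u ∈ Dd D a ∩ Dd D b₁ ∩ Dd D b₂, Commute c u := by
  classical
  have L := local22 hD hprim h
  obtain ⟨F, _, _, E, hF, hE, hQ⟩ := data22 hD hprim h
  have LE := hE.toLocal hF
  obtain ⟨Q⟩ := hQ a ha
  set C₀ := Dd D a ∩ Dd D b₁ ∩ Dd D b₂
  set Bad := Dd D b₂ ∪ Dd D a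
  set A := (Dd D b₁ \ Bad) \ {a}
  have hab1 := Dd_symm ha hb₁
  have hab2 := Dd_symm ha hb₂
  have himg12 : ¬ Commute (Q.img b₁) (Q.img b₂) := fun e => h12 ((Q.img_comm hb₁ hb₂).1 e)
  have h45 : C₀.ncard = 45 := by
    rw [Q.ncard_common_two hb₁ hb₂, LE.mu _ (Q.img_bij.mapsTo hb₁) _ (Q.img_bij.mapsTo hb₂) himg12]
  have hA : A.ncard = 432 := by
    have e1 : (Dd D b₁ ∩ Dd D b₂).ncard = 126 := L.mu b₁ hb₁.1 b₂ hb₂.1 h12
    have e2 : (Dd D b₁ ∩ Dd D a).ncard = 180 := L.lam b₁ hb₁.1 a hab1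
    have e3 : ((Dd D b₁ ∩ Dd D b₂) ∩ (Dd D b₁ ∩ Dd D a)).ncard = 45 := by
      rw [← h45]; congr 1; ext x; simp [C₀]; tauto
    have e4 := Set.ncard_union_add_ncard_inter (Dd D b₁ ∩ Dd D b₂) (Dd D b₁ ∩ Dd D a)
      (Set.toFinite _) (Set.toFinite _)
    rw [← Set.inter_union_distrib_left, e1, e2, e3] at e4
    have e5 := Set.ncard_inter_add_ncard_sdiff_eq_ncard (Dd D b₁) Bad (Set.toFinite _)
    rw [L.deg b₁ hb₁.1] at e5
    have e6 : a ∉ Dd D b₁ \ Bad := fun hx => hx.2 (Or.inl hab2)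
    rw [show A = Dd D b₁ \ Bad from Set.sdiff_singleton_eq_self e6]
    simp only [Bad] at e5 ⊢
    omega
  have h96 : ∀ u ∈ C₀, {c ∈ A | Commute c u}.ncard = 96 := by
    intro u hu
    obtain ⟨⟨hua, hu1⟩, hu2⟩ := hu
    obtain ⟨Q'⟩ := hQ u hua.1
    have b1u := Dd_symm hb₁.1 hu1
    have b2u := Dd_symm hb₂.1 hu2
    have au := Dd_symm ha hua
    have e1 : (Dd D u ∩ Dd D b₁ ∩ Dd D b₂).ncard = 45 := by
      rw [Q'.ncard_common_two b1u b2u,
        LE.mu _ (Q'.img_bij.mapsTo b1u) _ (Q'.img_bij.mapsTo b2u) fun e => h12 ((Q'.img_comm b1u b2u).1 e)]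
    have e2 : (Dd D u ∩ Dd D b₁ ∩ Dd D a).ncard = 51 := by
      rw [Q'.ncard_common_two b1u au,
        LE.lam _ (Q'.img_bij.mapsTo b1u) _ ((Q'.img_mem_Dd b1u au).2 hab1)]
    have e3 : ((Dd D u ∩ Dd D b₁ ∩ Dd D b₂) ∩ (Dd D u ∩ Dd D b₁ ∩ Dd D a)).ncard = 12 := by
      have := hE.triple_eq hF (Q.img_bij.mapsTo hb₁) (Q.img_bij.mapsTo hb₂) himg12
        (x := Q.img u) ⟨(Q.img_mem_Dd hb₁ hua).2 hu1, (Q.img_mem_Dd hb₂ hua).2 hu2⟩
      rw [← Q.ncard_common_three hb₁ hb₂ hua] at this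
      rw [← this]; congr 1; ext x; simp; tauto
    have e4 := Set.ncard_union_add_ncard_inter (Dd D u ∩ Dd D b₁ ∩ Dd D b₂) (Dd D u ∩ Dd D b₁ ∩ Dd D a)
      (Set.toFinite _) (Set.toFinite _)
    rw [← Set.inter_union_distrib_left, e1, e2, e3] at e4
    have e5 := Set.ncard_inter_add_ncard_sdiff_eq_ncard (Dd D u ∩ Dd D b₁) Bad (Set.toFinite _)
    rw [L.lam u hua.1 b₁ b1u] at e5
    have e6 : {c ∈ A | Commute c u} = (Dd D u ∩ Dd D b₁) \ Bad := by
      ext x
      constructor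
      · rintro ⟨⟨⟨hx1, hxB⟩, -⟩, hxu⟩
        exact ⟨⟨⟨hx1.1, fun e => hxB (e ▸ Or.inr hua), hxu.symm⟩, hx1⟩, hxB⟩
      · rintro ⟨⟨hxu, hx1⟩, hxB⟩
        exact ⟨⟨⟨hx1, hxB⟩, fun e => hxB (by rw [Set.mem_singleton_iff.1 e]; exact Or.inl hab2)⟩, hxu.2.2.symm⟩
    rw [e6]
    simp only [Bad] at e5 ⊢
    omega
  have hcA : c ∈ A := ⟨⟨hc, fun hx => hx.elim (fun h' => h2c h'.2.2) fun h' => hac h'.2.2⟩,
    fun e => hac (by rw [Set.mem_singleton_iff.1 e])⟩
  have hle : ∀ x ∈ A, {u ∈ C₀ | Commute x u}.ncard ≤ 10 := by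
    intro x ⟨⟨hx1, hxB⟩, hxa⟩
    by_cases hz : {u ∈ C₀ | Commute x u} = ∅
    · rw [hz, Set.ncard_empty]; omega
    obtain ⟨u₀, hu₀, hu₀x⟩ := Set.nonempty_iff_ne_empty.2 hz
    have hn2 : ¬ Commute b₂ x := fun e => hxB (Or.inl ⟨hx1.1, fun e' => h12 (e' ▸ hx1.2.2), e⟩)
    have hna : ¬ Commute x a := fun e => hxB (Or.inr ⟨hx1.1, hxa, e.symm⟩)
    obtain ⟨Y, hY, hYc, -⟩ := path_subgroup hD (t := ![b₁, b₂, x, a])
      (fun i => by fin_cases i; exacts [hb₁.1, hb₂.1, hx1.1, ha])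
      (fun i j hij => by
        fin_cases i <;> fin_cases j <;> first
          | exact hx1.2.2 | exact hb₁.2.2.symm | exact hb₂.2.2.symm | simp at hij)
      (fun i j hij => by
        fin_cases i <;> fin_cases j <;> first
          | exact h12 | exact hn2 | exact hna | simp at hij)
    have hsub : {u ∈ C₀ | Commute x u} ⊆ fixD D Y := by
      rintro u ⟨⟨⟨hua, hu1⟩, hu2⟩, hux⟩
      exact mem_fixD.2 ⟨hua.1, hYc u fun i => by fin_cases i; exacts [hu1.2.2, hu2.2.2, hux, hua.2.2]⟩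
    rw [← (ten_five hD hprim h hY ⟨u₀, hsub ⟨hu₀, hu₀x⟩⟩).1]
    exact Set.ncard_le_ncard hsub (Set.toFinite _)
  by_contra! hno
  have := ncard_lt_of_avg A C₀ (fun x u => Commute x u) h96 hle (N := 4320) (by rw [h45]) hcA hno
  rw [hA] at this
  omega

/-- Type M(22): every subgroup of order five fixes a member. -/
theorem five_good (hD : Cfsg.IsThreeTranspositionGroup D) (hprim : Cfsg.IsPrimitiveUnderConj D)
    (h : Cfsg.IsOfTypeM22 G D) {X : Subgroup G} (hX : Nat.card X = 5) : (fixD D X).Nonempty := by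
  classical
  haveI : Fact (Nat.Prime 5) := ⟨by norm_num⟩
  have hc := conjClosed_of_group hD
  have L := local22 hD hprim h
  obtain ⟨hCd, hG⟩ := orders22 hD hprim h
  obtain ⟨d, hd⟩ : D.Nonempty := (Set.ncard_pos (Set.toFinite _)).1 (by rw [L.card]; norm_num)
  obtain ⟨x₀, hx₀⟩ := exists_prime_orderOf_dvd_card' 5 (show 5 ∣ Nat.card (Subgroup.centralizer ({d} : Set G)) by
    rw [hCd d hd]; norm_num)
  set X₀ := Subgroup.zpowers (x₀ : G)
  have hX₀ : Nat.card X₀ = 5 := by rw [Nat.card_zpowers, Subgroup.orderOf_coe, hx₀]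
  have hgood₀ : d ∈ fixD D X₀ := mem_fixD.2 ⟨hd, fun x hx => by
    obtain ⟨i, rfl⟩ := Subgroup.mem_zpowers_iff.1 hx
    exact Commute.zpow_left (Subgroup.mem_centralizer_singleton_iff.1 x₀.2) i⟩
  obtain ⟨-, Z, t, hZ, ht, hfar, hnear⟩ := ten_five hD hprim h hX₀ ⟨d, hgood₀⟩
  have htD : ∀ i, t i ∈ D := fun i => (mem_fixD.1 (ht i)).1
  have h03 : t 0 ≠ t 3 := fun e => hnear 2 3 rfl (by rw [← e]; exact (hfar 0 2 (by decide)).symm)
  have h13 : t 1 ≠ t 3 := fun e => hnear 0 1 rfl (by rw [e]; exact hfar 0 3 (by decide))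
  have h20 : t 2 ≠ t 0 := fun e => hnear 2 3 rfl (by rw [e]; exact hfar 0 3 (by decide))
  obtain ⟨u, ⟨⟨hua, hu1⟩, hu2⟩, hu3⟩ := path_common hD hprim h (a := t 3) (b₁ := t 0) (b₂ := t 1) (c := t 2)
    (htD 3) ⟨htD 0, h03, (hfar 0 3 (by decide)).symm⟩ ⟨htD 1, h13, (hfar 1 3 (by decide)).symm⟩
    ⟨htD 2, h20, hfar 0 2 (by decide)⟩
    (hnear 0 1 rfl) (hnear 1 2 rfl) (fun e => hnear 2 3 rfl e.symm)
  obtain ⟨Z₁, hZ₁, hZu, z, hz, hzt⟩ := path_subgroup hD htD hfar hnear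
  have hgood₁ : u ∈ fixD D Z₁ := mem_fixD.2 ⟨hua.1, hZu u fun i => by
    fin_cases i; exacts [hu1.2.2, hu2.2.2, hu3, hua.2.2]⟩
  have hXZ : ∀ x ∈ X₀, ∀ y ∈ Z₁, Commute x y := fun x hx y hy =>
    (hZu x (fun i => ((mem_fixD.1 (ht i)).2 x hx).symm) y hy).symm
  have hne : X₀ ⊓ Z₁ = ⊥ := by
    by_contra hbot
    obtain ⟨w, ⟨hw1, hw2⟩, hw0⟩ := (Subgroup.ne_bot_iff_exists_ne_one.1 hbot).elim fun w hw =>
      (⟨w.1, w.2, fun e => hw (Subtype.ext e)⟩ : ∃ w, w ∈ X₀ ⊓ Z₁ ∧ w ≠ 1)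
    have hord : ∀ (H : Subgroup G), Nat.card H = 5 → w ∈ H → Subgroup.zpowers w = H := fun H hH hwH => by
      refine Subgroup.eq_of_le_of_card_ge (Subgroup.zpowers_le.2 hwH) (le_of_eq ?_)
      rw [hH, Nat.card_zpowers]
      exact (((Fact.out : Nat.Prime 5).eq_one_or_self_of_dvd _ (hH ▸ Subgroup.orderOf_dvd_natCard H hwH)).resolve_left
        fun e => hw0 (orderOf_eq_one_iff.1 e)).symm
    have e : Z₁ = X₀ := (hord Z₁ hZ₁ hw2).symm.trans (hord X₀ hX₀ hw1)
    exact hzt ((mem_fixD.1 (ht 3)).2 z (e ▸ hz))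
  let φ : X₀ × Z₁ →* G := MonoidHom.noncommCoprod X₀.subtype Z₁.subtype fun a b => hXZ a a.2 b b.2
  have hinj : Function.Injective φ := fun x y e => Subgroup.mul_injective_of_disjoint (disjoint_iff.2 hne) e
  set E₀ := φ.range
  have hE : Nat.card E₀ = 25 := by
    rw [Nat.card_congr (MonoidHom.ofInjective hinj).toEquiv.symm, Nat.card_prod, hX₀, hZ₁]
  have hpow : ∀ e ∈ E₀, e ^ 5 = 1 := by
    rintro _ ⟨⟨x, y⟩, rfl⟩
    rw [← map_pow, show (x, y) ^ 5 = ((1 : X₀), (1 : Z₁)) from Prod.ext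
      (show x ^ 5 = 1 by rw [← hX₀, pow_card_eq_one'])
      (show y ^ 5 = 1 by rw [← hZ₁, pow_card_eq_one'])]
    exact map_one φ
  have hzp : ∀ e ∈ E₀, e ≠ 1 → Nat.card (Subgroup.zpowers e) = 5 := fun e he he1 => by
    rw [Nat.card_zpowers, orderOf_eq_prime (hpow e he) he1]
  -- orbit counting
  letI : MulAction E₀ D :=
    { smul := fun e a => ⟨(e : G) * a * (e : G)⁻¹, hc.conj _ _ a.2⟩
      one_smul := fun a => Subtype.ext (by show ((1 : E₀) : G) * a * ((1 : E₀) : G)⁻¹ = a; simp)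
      mul_smul := fun x y a => Subtype.ext (by
        show ((x * y : E₀) : G) * a * ((x * y : E₀) : G)⁻¹ = x * (y * (a : G) * (y : G)⁻¹) * (x : G)⁻¹
        simp [mul_assoc]) }
  haveI := Fintype.ofFinite E₀
  haveI := Fintype.ofFinite D
  haveI : Fintype (Quotient (MulAction.orbitRel E₀ D)) := Fintype.ofFinite _
  have hburn := MulAction.sum_card_fixedBy_eq_card_orbits_mul_card_group E₀ D
  have hfixed : ∀ e : E₀, Fintype.card (MulAction.fixedBy D e) = (fixD D (Subgroup.zpowers (e : G))).ncard := by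
    intro e
    rw [← Nat.card_eq_fintype_card, ← Nat.card_coe_set_eq]
    refine Nat.card_congr
      { toFun := fun a => ⟨a.1.1, mem_fixD.2 ⟨a.1.2, fun x hx => by
          obtain ⟨i, rfl⟩ := Subgroup.mem_zpowers_iff.1 hx
          exact Commute.zpow_left (mul_inv_eq_iff_eq_mul.1 (congrArg Subtype.val a.2)) i⟩⟩
        invFun := fun a => ⟨⟨a.1, (mem_fixD.1 a.2).1⟩, Subtype.ext (mul_inv_eq_iff_eq_mul.2
          ((mem_fixD.1 a.2).2 _ (Subgroup.mem_zpowers _)).eq)⟩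
        left_inv := fun a => rfl
        right_inv := fun a => rfl }
  set good := Finset.univ.filter fun e : E₀ => e ≠ 1 ∧ (fixD D (Subgroup.zpowers (e : G))).Nonempty
  have hsum : ∀ e ∈ Finset.univ.erase (1 : E₀),
      Fintype.card (MulAction.fixedBy D e) = if e ∈ good then 10 else 0 := by
    intro e he
    have he1 : e ≠ 1 := Finset.ne_of_mem_erase he
    rw [hfixed]
    split_ifs with hg
    · exact (ten_five hD hprim h (hzp e e.2 fun h' => he1 (Subtype.ext h')) (Finset.mem_filter.1 hg).2.2).1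
    · rw [Set.ncard_eq_zero (Set.toFinite _), ← Set.not_nonempty_iff_eq_empty]
      exact fun hn => hg (Finset.mem_filter.2 ⟨Finset.mem_univ _, he1, hn⟩)
  rw [← Finset.add_sum_erase _ _ (Finset.mem_univ (1 : E₀)), Finset.sum_congr rfl hsum, Finset.sum_ite_mem,
    Finset.sum_const, smul_eq_mul, hfixed] at hburn
  have hone : (fixD D (Subgroup.zpowers ((1 : E₀) : G))).ncard = 3510 := by
    rw [← L.card]; congr 1
    ext a
    rw [mem_fixD]
    refine ⟨fun h' => h'.1, fun h' => ⟨h', fun x hx => ?_⟩⟩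
    rw [Subgroup.coe_one, Subgroup.zpowers_one_eq_bot, Subgroup.mem_bot] at hx
    rw [hx]; exact Commute.one_left a
  have hgle : good ⊆ Finset.univ.erase (1 : E₀) := fun e he =>
    Finset.mem_erase.2 ⟨(Finset.mem_filter.1 he).2.1, Finset.mem_univ _⟩
  rw [hone, Finset.inter_eq_right.2 hgle, ← Nat.card_eq_fintype_card (α := E₀), hE] at hburn
  have hall : (Finset.univ.erase (1 : E₀)).card = 24 := by
    rw [Finset.card_erase_of_mem (Finset.mem_univ _), Finset.card_univ, ← Nat.card_eq_fintype_card, hE]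
  -- the bad elements
  set bad := Finset.univ.erase (1 : E₀) \ good
  have hbad : bad.card + good.card = 24 := by rw [Finset.card_sdiff_add_card_eq_card hgle, hall]
  have gen : ∀ (e : E₀) (H : Subgroup G), Nat.card H = 5 → (e : G) ∈ H → e ≠ 1 → Subgroup.zpowers (e : G) = H :=
    fun e H hH heH he1 => Subgroup.eq_of_le_of_card_ge (Subgroup.zpowers_le.2 heH)
      (le_of_eq (hH.trans (hzp e e.2 fun h' => he1 (Subtype.ext h')).symm))
  have hfour : ∀ e : E₀, e ≠ 1 →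
      ((Finset.univ.erase (1 : E₀)).filter fun f : E₀ => (f : G) ∈ Subgroup.zpowers (e : G)).card = 4 := by
    intro e he
    have e5 : (Finset.univ.filter fun f : E₀ => (f : G) ∈ Subgroup.zpowers (e : G)).card = 5 := by
      rw [← hzp e e.2 fun h' => he (Subtype.ext h'), ← Fintype.card_subtype, ← Nat.card_eq_fintype_card]
      exact Nat.card_congr
        { toFun := fun f => ⟨(f.1 : G), f.2⟩
          invFun := fun f => ⟨⟨f.1, (Subgroup.zpowers_le.2 e.2) f.2⟩, f.2⟩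
          left_inv := fun f => rfl
          right_inv := fun f => rfl }
    rw [Finset.filter_erase, Finset.card_erase_of_mem, e5]
    exact Finset.mem_filter.2 ⟨Finset.mem_univ _, one_mem (Subgroup.zpowers (e : G))⟩
  have hfib : ∀ H ∈ bad.image (fun e : E₀ => Subgroup.zpowers (e : G)),
      (bad.filter fun e : E₀ => Subgroup.zpowers (e : G) = H).card = 4 := by
    intro H hH
    obtain ⟨e, he, rfl⟩ := Finset.mem_image.1 hH
    obtain ⟨he', hng⟩ := Finset.mem_sdiff.1 he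
    have he1 : e ≠ 1 := Finset.ne_of_mem_erase he'
    rw [← hfour e he1]
    congr 1
    ext f
    simp only [Finset.mem_filter]
    constructor
    · rintro ⟨hf, e'⟩
      exact ⟨(Finset.mem_sdiff.1 hf).1, e' ▸ Subgroup.mem_zpowers _⟩
    · rintro ⟨hf, hfm⟩
      have e' := gen f _ (hzp e e.2 fun h' => he1 (Subtype.ext h')) hfm (Finset.ne_of_mem_erase hf)
      refine ⟨Finset.mem_sdiff.2 ⟨hf, fun hg => hng (Finset.mem_filter.2 ⟨Finset.mem_univ _, he1, ?_⟩)⟩, e'⟩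
      rw [← e']; exact (Finset.mem_filter.1 hg).2.2
  have hmul : bad.card = (bad.image fun e : E₀ => Subgroup.zpowers (e : G)).card * 4 := by
    rw [Finset.card_eq_sum_card_image (fun e : E₀ => Subgroup.zpowers (e : G)) bad, Finset.sum_const_nat hfib]
  have height : 8 ≤ good.card := by
    have hsub : ∀ (H : Subgroup G), Nat.card H = 5 → H ≤ E₀ → (fixD D H).Nonempty →
        ((Finset.univ.erase (1 : E₀)).filter fun f : E₀ => (f : G) ∈ H) ⊆ good ∧
        ((Finset.univ.erase (1 : E₀)).filter fun f : E₀ => (f : G) ∈ H).card = 4 := by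
      intro H hH hle hne'
      haveI : Nontrivial H := (Finite.one_lt_card_iff_nontrivial).1 (by rw [hH]; norm_num)
      obtain ⟨⟨w, hw⟩, hw1⟩ := exists_ne (1 : H)
      have hwne : (⟨w, hle hw⟩ : E₀) ≠ 1 := fun e' => hw1 (Subtype.ext (congrArg (fun z : E₀ => (z : G)) e'))
      refine ⟨fun f hf => ?_, ?_⟩
      · obtain ⟨hf1, hfH⟩ := Finset.mem_filter.1 hf
        refine Finset.mem_filter.2 ⟨Finset.mem_univ _, Finset.ne_of_mem_erase hf1, ?_⟩
        rw [gen f H hH hfH (Finset.ne_of_mem_erase hf1)]; exact hne'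
      · rw [← hfour _ hwne]
        congr 1
        exact Finset.filter_congr fun f _ => by rw [gen ⟨w, hle hw⟩ H hH hw hwne]
    obtain ⟨s1, c1⟩ := hsub X₀ hX₀ (fun x hx => ⟨(⟨x, hx⟩, 1), mul_one x⟩) ⟨d, hgood₀⟩
    obtain ⟨s2, c2⟩ := hsub Z₁ hZ₁ (fun y hy => ⟨(1, ⟨y, hy⟩), one_mul y⟩) ⟨u, hgood₁⟩
    refine le_trans (le_of_eq ?_) (Finset.card_le_card (Finset.union_subset s1 s2))
    rw [Finset.card_union_of_disjoint, c1, c2]
    rw [Finset.disjoint_left]
    rintro f hf1 hf2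
    obtain ⟨h1, h1'⟩ := Finset.mem_filter.1 hf1
    have : (f : G) ∈ X₀ ⊓ Z₁ := ⟨h1', (Finset.mem_filter.1 hf2).2⟩
    rw [hne, Subgroup.mem_bot] at this
    exact Finset.ne_of_mem_erase h1 (Subtype.ext this)
  have hnone : bad.card = 0 := by omega
  -- every subgroup is conjugate into the Sylow subgroup
  have hfac : (Nat.card G).factorization 5 = 2 := by
    rw [hG]
    have h1 : 2 ≤ (64561751654400 : ℕ).factorization 5 :=
      ((Fact.out : Nat.Prime 5).pow_dvd_iff_le_factorization (by norm_num)).1 (by norm_num)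
    have h2 : ¬ 3 ≤ (64561751654400 : ℕ).factorization 5 := fun h3 => by
      have := ((Fact.out : Nat.Prime 5).pow_dvd_iff_le_factorization (by norm_num)).2 h3
      norm_num at this
    omega
  obtain ⟨P, hP⟩ := (IsPGroup.of_card (n := 1) (by rw [hX, pow_one]) : IsPGroup 5 X).exists_le_sylow
  obtain ⟨g, hg⟩ := MulAction.exists_smul_eq G P (Sylow.ofCard E₀ (by rw [hE, hfac]; norm_num))
  have hg' : (P : Subgroup G).map (MulAut.conj g).toMonoidHom = E₀ :=
    congrArg (fun S : Sylow 5 G => (S : Subgroup G)) hg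
  haveI : Nontrivial X := (Finite.one_lt_card_iff_nontrivial).1 (by rw [hX]; norm_num)
  obtain ⟨⟨x, hx⟩, hx1⟩ := exists_ne (1 : X)
  have hxE : g * x * g⁻¹ ∈ E₀ := hg' ▸ ⟨x, hP hx, by simp [MulAut.conj_apply]⟩
  have hne1 : (⟨_, hxE⟩ : E₀) ≠ 1 := fun e' => hx1 (Subtype.ext (by
    have := congrArg (fun z : E₀ => (z : G)) e'
    simpa using this))
  have hgx : (⟨_, hxE⟩ : E₀) ∈ good := by
    by_contra hng
    exact absurd (Finset.card_eq_zero.1 hnone ▸ Finset.mem_sdiff.2 ⟨Finset.mem_erase.2 ⟨hne1, Finset.mem_univ _⟩, hng⟩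
      : (⟨_, hxE⟩ : E₀) ∈ (∅ : Finset E₀)) (Finset.notMem_empty _)
  obtain ⟨-, -, v, hv⟩ := Finset.mem_filter.1 hgx
  obtain ⟨hvD, hv'⟩ := mem_fixD.1 hv
  refine ⟨g⁻¹ * v * g, mem_fixD.2 ⟨by simpa using hc.conj g⁻¹ v hvD, fun y hy => ?_⟩⟩
  have hyx : y ∈ Subgroup.zpowers x := by
    have : Subgroup.zpowers x = X := Subgroup.eq_of_le_of_card_ge (Subgroup.zpowers_le.2 hx) (le_of_eq (by
      rw [hX, Nat.card_zpowers]
      refine (((Fact.out : Nat.Prime 5).eq_one_or_self_of_dvd _ (hX ▸ Subgroup.orderOf_dvd_natCard X hx)).resolve_left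
        fun e => hx1 (Subtype.ext (orderOf_eq_one_iff.1 e))).symm))
    rwa [this]
  obtain ⟨i, rfl⟩ := Subgroup.mem_zpowers_iff.1 hyx
  refine Commute.zpow_left ?_ i
  have := hv' _ (Subgroup.mem_zpowers (g * x * g⁻¹))
  rw [← commute_conj_iff g]
  simpa [mul_assoc] using this

/-- Type M(22), order five. -/
theorem five22 (hD : Cfsg.IsThreeTranspositionGroup D) (hprim : Cfsg.IsPrimitiveUnderConj D)
    (h : Cfsg.IsOfTypeM22 G D) {X : Subgroup G} (hX : Nat.card X = 5) :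
    Nonempty (SymSet (fixD D X) 5) ∧
      Nat.card (Subgroup.centralizer (X : Set G)) = 600 ∧ Nat.card (Subgroup.normalizer (X : Set G)) = 2400 := by
  haveI : Fact (Nat.Prime 5) := ⟨by norm_num⟩
  have hc := conjClosed_of_group hD
  obtain ⟨hCd, -⟩ := orders22 hD hprim h
  obtain ⟨hten, Z, -⟩ := ten_five hD hprim h hX (five_good hD hprim h hX)
  obtain ⟨a, ha⟩ := five_good hD hprim h hX
  obtain ⟨hC3, -, h10⟩ := local_five hD hprim h hX ha
  set H := Subgroup.centralizer (X : Set G) ⊓ Subgroup.centralizer (fixD D X ∩ Dd D a) ⊓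
    Subgroup.centralizer ({a} : Set G)
  have hXC : ∀ x ∈ X, x ∈ Subgroup.centralizer (X : Set G) := fun x hx => by
    haveI : IsCyclic X := isCyclic_of_prime_card hX
    letI := IsCyclic.commGroup (α := X)
    exact Subgroup.mem_centralizer_iff.2 fun y hy => congrArg Subtype.val (mul_comm (⟨y, hy⟩ : X) ⟨x, hx⟩)
  have hle : Subgroup.closure (fixD D X) ≤ Subgroup.centralizer (X : Set G) :=
    (Subgroup.closure_le _).2 fun y hy => hy.2
  obtain ⟨-, -, -, hcC⟩ := Z.decomp (by norm_num) hle fun g hg y hy => centralizer_fixD hc hg hy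
  obtain ⟨-, -, -, hcN⟩ := Z.decomp (by norm_num) (hle.trans (Subgroup.centralizer_le_normalizer (X : Set G)))
    fun g hg y hy => conj_fixD hc hg hy
  have hfive : Nat.card (Subgroup.centralizer (X : Set G) ⊓ Subgroup.centralizer (fixD D X) : Subgroup G) = 5 := by
    set K := Subgroup.centralizer (X : Set G) ⊓ Subgroup.centralizer (fixD D X) with hK
    have hXK : X ≤ K := fun x hx => ⟨hXC x hx,
      Subgroup.mem_centralizer_iff.2 fun y hy => ((mem_fixD.1 hy).2 x hx).symm.eq⟩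
    have hKH : K ≤ H := fun g hg => ⟨⟨hg.1, Subgroup.centralizer_le Set.inter_subset_left hg.2⟩,
      Subgroup.centralizer_le (Set.singleton_subset_iff.2 ha) hg.2⟩
    have haH : a ∈ H := ⟨⟨fixD_mem_centralizer ha, Subgroup.mem_centralizer_iff.2 fun y hy => hy.2.2.2.symm.eq⟩,
      mem_centralizer_of_commute (Commute.refl a)⟩
    have haK : a ∉ K := fun haK => by
      obtain ⟨c, hc'⟩ : (fixD D X ∩ far D a).Nonempty := by
        rw [← Set.ncard_pos (Set.toFinite _)]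
        have := fixD_cases ha
        rw [hten, hC3] at this
        omega
      exact hc'.2.2 (Subgroup.mem_centralizer_iff.1 haK.2 c hc'.1).symm
    have h1 := Subgroup.card_dvd_of_le hXK
    have h2 := Subgroup.card_dvd_of_le hKH
    rw [hX] at h1
    rw [h10] at h2
    have h3 : Nat.card K ≠ 10 := fun e => haK (by
      rw [Subgroup.eq_of_le_of_card_ge hKH (le_of_eq (h10.trans e.symm))]; exact haH)
    have h4 := Nat.le_of_dvd (by norm_num) h2
    interval_cases Nat.card K <;> omega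
  have hC600 : Nat.card (Subgroup.centralizer (X : Set G)) = 600 := by rw [hcC, hfive]; rfl
  refine ⟨⟨Z⟩, hC600, ?_⟩
  obtain ⟨e, he, heN⟩ := card_normalizer (⊤ : Subgroup G) hX
  rw [inf_top_eq, inf_top_eq, hC600] at heN
  have horb := card_eq_orbit_mul _ ha (fun k hk => conj_fixD hc hk ha) fun b hb => by
    obtain ⟨g, hg, hgb⟩ := symSet_transitive Z ha hb
    exact ⟨g, Subgroup.centralizer_le_normalizer (X : Set G) hg, hgb⟩
  rw [hten, heN] at horb
  obtain ⟨k, hk, hk1⟩ := card_normalizer_modEq hX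
    (fun x hx => mem_centralizer_of_commute ((mem_fixD.1 ha).2 x hx) : X ≤ Subgroup.centralizer ({a} : Set G))
    (by rw [hCd a (mem_fixD.1 ha).1]; norm_num)
  rw [hCd a (mem_fixD.1 ha).1] at hk
  rw [heN]
  have h4 : e ∣ 4 := he
  have : e ≤ 4 := Nat.le_of_dvd (by norm_num) h4
  have h60 : Nat.card (Subgroup.normalizer (X : Set G) ⊓ Subgroup.centralizer ({a} : Set G) : Subgroup G) = 60 * e := by
    omega
  rw [h60] at hk
  interval_cases e <;> first | omega | (exfalso; norm_num at h4; done)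

/-- Conjugacy, when every subgroup of the given order fixes a member. -/
theorem conj_of_fix (hD : ConjClosed D) (htr : ∀ a ∈ D, ∀ b ∈ D, ∃ g : G, g * a * g⁻¹ = b) {p : ℕ}
    (hgood : ∀ X : Subgroup G, Nat.card X = p → (fixD D X).Nonempty)
    (hloc : ∀ a ∈ D, ∀ X Y : Subgroup G, Nat.card X = p → Nat.card Y = p → (∀ x ∈ X, Commute x a) →
      (∀ y ∈ Y, Commute y a) → ∃ g : G, X.map (MulAut.conj g).toMonoidHom = Y)
    {X Y : Subgroup G} (hX : Nat.card X = p) (hY : Nat.card Y = p) :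
    ∃ g : G, X.map (MulAut.conj g).toMonoidHom = Y := by
  obtain ⟨a, ha⟩ := hgood X hX
  obtain ⟨b, hb⟩ := hgood Y hY
  obtain ⟨g, hg⟩ := htr a (mem_fixD.1 ha).1 b (mem_fixD.1 hb).1
  obtain ⟨k, hk⟩ := hloc b (mem_fixD.1 hb).1 (X.map (MulAut.conj g).toMonoidHom) Y
    (by rw [card_map_conj, hX]) hY
    (fun x hx => (commute_conj_fix hg).1 ((mem_fixD.1 ha).2 _ (mem_map_conj.1 hx))) (mem_fixD.1 hb).2
  exact ⟨k * g, by rw [map_conj_mul, hk]⟩

/-- Type M(22): conjugacy of subgroups of order five. -/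
theorem conj_five22 (hD : Cfsg.IsThreeTranspositionGroup D) (hprim : Cfsg.IsPrimitiveUnderConj D)
    (h : Cfsg.IsOfTypeM22 G D) {X Y : Subgroup G} (hX : Nat.card X = 5) (hY : Nat.card Y = 5) :
    ∃ g : G, X.map (MulAut.conj g).toMonoidHom = Y := by
  haveI : Fact (Nat.Prime 5) := ⟨by norm_num⟩
  obtain ⟨F, _, _, E, hF, -, hQ⟩ := data22 hD hprim h
  refine conj_of_fix (conjClosed_of_group hD) hprim.1 (fun X => five_good hD hprim h) ?_ hX hY
  intro a ha X Y hX hY hXa hYa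
  obtain ⟨Q⟩ := hQ a ha
  have hodd : Odd (Nat.card X) := by rw [hX]; exact ⟨2, rfl⟩
  obtain ⟨y, -, hy⟩ := conj_of_card (⊤ : Subgroup (Cfsg.PSU 6 F 2)) (p := 5)
    (by rw [Subgroup.card_top, card_psu_six hF]; norm_num) le_top le_top
    (by rw [Q.card_down hXa hodd, hX] : Nat.card (Q.down X) = 5)
    (by rw [Q.card_down hYa (by rw [hY]; exact ⟨2, rfl⟩), hY] : Nat.card (Q.down Y) = 5)
  obtain ⟨g, -, hg⟩ := Q.exists_conj hXa hodd (hY.trans hX.symm) hy
  exact ⟨g, hg⟩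

end CfsgLib.ThreeTrans.Torsion
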