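import Mathlib
import Cfsg.Agent.Lib.ThreeTrans.Torsion.Five
import Cfsg.Agent.Lib.ThreeTrans.Torsion.FixedGraph
import Cfsg.Agent.Lib.ThreeTrans.Torsion.TypeTwentyFour

/-! Subgroups of order 5 in groups of type M(23) and M(24). -/

set_option autoImplicit false

namespace CfsgLib.ThreeTrans.Torsion

open CfsgLib.ThreeTrans.Tower

universe u

variable {G : Type u} [Group G] [Finite G] {D : Set G}

theorem common_modEq (hD : ConjClosed D) {p : ℕ} [Fact p.Prime] {X : Subgroup G} (hX : Nat.card X = p) {a c : G}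
    (ha : a ∈ fixD D X) (hc : c ∈ fixD D X) :
    (fixD D X ∩ Dd D a ∩ Dd D c).ncard % p = (Dd D a ∩ Dd D c).ncard % p := by
  have hfix : ∀ x ∈ X, ∀ d ∈ fixD D X, x * d * x⁻¹ = d := fun x hx d hd =>
    mul_inv_eq_iff_eq_mul.2 ((mem_fixD.1 hd).2 x hx).eq
  have h := ncard_modEq hX (O := Dd D a ∩ Dd D c) fun x hx b hb =>
    ⟨by have := conj_mem_Dd_conj hD x hb.1; rwa [hfix x hx a ha] at this,
      by have := conj_mem_Dd_conj hD x hb.2; rwa [hfix x hx c hc] at this⟩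
  unfold Nat.ModEq at h
  rw [h]
  congr 2
  ext b
  exact ⟨fun hb => ⟨⟨hb.1.2, hb.2⟩, (mem_fixD.1 hb.1.1).2⟩,
    fun hb => ⟨⟨mem_fixD.2 ⟨hb.1.1.1, hb.2⟩, hb.1.1⟩, hb.1.2⟩⟩

/-- When a Sylow subgroup centralises a member, every subgroup of prime order fixes one. -/
theorem good_of_sylow (hD : ConjClosed D) {p : ℕ} [Fact p.Prime] {d : G} (hd : d ∈ D)
    (h : (Nat.card G).factorization p = (Nat.card (Subgroup.centralizer ({d} : Set G))).factorization p)
    {X : Subgroup G} (hX : Nat.card X = p) : (fixD D X).Nonempty := by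
  classical
  set C := Subgroup.centralizer ({d} : Set G)
  let Q : Sylow p C := default
  set E₀ := (Q : Subgroup C).map C.subtype
  have hE : Nat.card E₀ = p ^ (Nat.card G).factorization p := by
    rw [h, ← Q.card_eq_multiplicity]
    exact Nat.card_congr (Subgroup.equivMapOfInjective _ _ C.subtype_injective).toEquiv.symm
  obtain ⟨P, hP⟩ := (IsPGroup.of_card (n := 1) (by rw [hX, pow_one]) : IsPGroup p X).exists_le_sylow
  obtain ⟨g, hg⟩ := MulAction.exists_smul_eq G P (Sylow.ofCard E₀ hE)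
  have hg' : (P : Subgroup G).map (MulAut.conj g).toMonoidHom = E₀ :=
    congrArg (fun S : Sylow p G => (S : Subgroup G)) hg
  refine ⟨g⁻¹ * d * g, mem_fixD.2 ⟨by simpa using hD.conj g⁻¹ d hd, fun x hx => ?_⟩⟩
  have hxE : g * x * g⁻¹ ∈ E₀ := hg' ▸ ⟨x, hP hx, by simp [MulAut.conj_apply]⟩
  obtain ⟨y, -, hy⟩ := hxE
  rw [← commute_conj_iff g]
  have := Subgroup.mem_centralizer_singleton_iff.1 (hy ▸ y.2 : g * x * g⁻¹ ∈ C)
  simpa [commute_iff_eq, mul_assoc] using this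

theorem fac_five_23 : (4089470473293004800 : ℕ).factorization 5 = (129123503308800 : ℕ).factorization 5 := by
  haveI : Fact (Nat.Prime 5) := ⟨by norm_num⟩
  have key : ∀ n : ℕ, n ≠ 0 → 5 ^ 2 ∣ n → ¬ 5 ^ 3 ∣ n → n.factorization 5 = 2 := fun n hn h2 h3 => by
    have := ((Fact.out : Nat.Prime 5).pow_dvd_iff_le_factorization hn).1 h2
    have : ¬ 3 ≤ n.factorization 5 := fun h => h3 (((Fact.out : Nat.Prime 5).pow_dvd_iff_le_factorization hn).2 h)
    omega
  rw [key _ (by norm_num) (by norm_num) (by norm_num), key _ (by norm_num) (by norm_num) (by norm_num)]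

theorem fac_five_24 :
    (2510411418381323442585600 : ℕ).factorization 5 = (8178940946586009600 : ℕ).factorization 5 := by
  haveI : Fact (Nat.Prime 5) := ⟨by norm_num⟩
  have key : ∀ n : ℕ, n ≠ 0 → 5 ^ 2 ∣ n → ¬ 5 ^ 3 ∣ n → n.factorization 5 = 2 := fun n hn h2 h3 => by
    have := ((Fact.out : Nat.Prime 5).pow_dvd_iff_le_factorization hn).1 h2
    have : ¬ 3 ≤ n.factorization 5 := fun h => h3 (((Fact.out : Nat.Prime 5).pow_dvd_iff_le_factorization hn).2 h)
    omega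
  rw [key _ (by norm_num) (by norm_num) (by norm_num), key _ (by norm_num) (by norm_num) (by norm_num)]

/-- Type M(22): the graph on the fixed members. -/
theorem graph_five22 (hD : Cfsg.IsThreeTranspositionGroup D) (hprim : Cfsg.IsPrimitiveUnderConj D)
    (h : Cfsg.IsOfTypeM22 G D) {X : Subgroup G} (hX : Nat.card X = 5) : Graph D (fixD D X) 10 3 0 1 := by
  haveI : Fact (Nat.Prime 5) := ⟨by norm_num⟩
  have hc := conjClosed_of_group hD
  have L := local22 hD hprim h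
  have hten := (ten_five hD hprim h hX (five_good hD hprim h hX)).1
  have hsub : fixD D X ⊆ D := fun x hx => hx.1
  have hk : ∀ a ∈ fixD D X, (fixD D X ∩ Dd D a).ncard = 3 := fun a ha => (local_five hD hprim h hX ha).1
  have hl : ∀ a ∈ fixD D X, ∀ b ∈ fixD D X ∩ Dd D a, (fixD D X ∩ Dd D a ∩ Dd D b).ncard = 0 := fun a ha b hb => by
    rw [Set.ncard_eq_zero (Set.toFinite _), Set.eq_empty_iff_forall_notMem]
    exact fun x hx => (local_five hD hprim h hX ha).2.1 b hb x hx.1 (fun e => hx.2.2.1 e.symm) hx.2.2.2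
  have hm : ∀ a ∈ fixD D X, ∀ c ∈ fixD D X ∩ far D a, 1 ≤ (fixD D X ∩ Dd D a ∩ Dd D c).ncard := fun a ha c hc' => by
    have e := common_modEq hc hX ha hc'.1
    rw [L.mu a ha.1 c hc'.2.1 hc'.2.2] at e
    omega
  refine ⟨hsub, hten, hk, hl, fun a ha c hc' hac => ?_⟩
  refine (graph_of_nbhd hsub hk hl hm (j := 2) rfl ha).2 ?_ c ⟨hc', hc'.1, hac⟩
  have := fixD_cases ha
  rw [hten, hk a ha] at this
  omega

/-- Type M(23), order five. -/
theorem five23 (hD : Cfsg.IsThreeTranspositionGroup D) (hprim : Cfsg.IsPrimitiveUnderConj D)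
    (h : Cfsg.IsOfTypeM23 G D) {X : Subgroup G} (hX : Nat.card X = 5) :
    Nonempty (SymSet (fixD D X) 7) ∧ Graph D (fixD D X) 21 10 3 6 ∧
      (∀ a ∈ fixD D X, Graph D (fixD D X ∩ Dd D a) 10 3 0 1) ∧
      (∀ a ∈ fixD D X,
        Nat.card (Subgroup.centralizer (X : Set G) ⊓ Subgroup.centralizer ({a} : Set G) : Subgroup G) = 1200 ∧
        Nat.card (Subgroup.normalizer (X : Set G) ⊓ Subgroup.centralizer ({a} : Set G) : Subgroup G) = 4800) ∧
      Nat.card (Subgroup.centralizer (X : Set G)) = 25200 ∧ Nat.card (Subgroup.normalizer (X : Set G)) = 100800 := by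
  haveI : Fact (Nat.Prime 5) := ⟨by norm_num⟩
  have hc := conjClosed_of_group hD
  have L := local23 hD hprim h
  obtain ⟨hCd, hG⟩ := orders23 hD hprim h
  obtain ⟨Y, _, _, E, hE, hp, h22, -, hQ⟩ := data23 hD hprim h
  have hodd : Odd (Nat.card X) := by rw [hX]; exact ⟨2, rfl⟩
  set T := fixD D X
  have hsub : T ⊆ D := fun x hx => hx.1
  have loc : ∀ a ∈ T, Graph D (T ∩ Dd D a) 10 3 0 1 ∧
      Nat.card (Subgroup.centralizer (X : Set G) ⊓ Subgroup.centralizer ({a} : Set G) : Subgroup G) = 1200 ∧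
      Nat.card (Subgroup.normalizer (X : Set G) ⊓ Subgroup.centralizer ({a} : Set G) : Subgroup G) = 4800 := by
    intro a ha
    obtain ⟨haD, hXa⟩ := mem_fixD.1 ha
    obtain ⟨Q⟩ := hQ a haD
    have hX' : Nat.card (Q.down X) = 5 := by rw [Q.card_down hXa hodd, hX]
    obtain ⟨-, hC, hN⟩ := five22 hE hp h22 hX'
    exact ⟨Q.graph_fix hXa hodd (graph_five22 hE hp h22 hX'), by rw [Q.card_centralizer hXa hodd, hC],
      by rw [Q.card_normalizer hXa hodd, hN]⟩
  have hk : ∀ a ∈ T, (T ∩ Dd D a).ncard = 10 := fun a ha => (loc a ha).1.card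
  have hl : ∀ a ∈ T, ∀ b ∈ T ∩ Dd D a, (T ∩ Dd D a ∩ Dd D b).ncard = 3 := fun a ha b hb => (loc a ha).1.deg b hb
  have hm : ∀ a ∈ T, ∀ c ∈ T ∩ far D a, (T ∩ Dd D a ∩ Dd D c).ncard = 6 := by
    intro a ha c hc'
    have e : (T ∩ Dd D a ∩ Dd D c).ncard % 5 = 1 := by
      rw [common_modEq hc hX ha hc'.1, L.mu a ha.1 c hc'.2.1 hc'.2.2]
    set M := T ∩ Dd D a ∩ Dd D c
    obtain ⟨b, hb⟩ : M.Nonempty := (Set.ncard_pos (Set.toFinite _)).1 (by omega)
    have e1 : (M ∩ Dd D b).ncard = 1 := by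
      rw [← (loc b hb.1.1).1.mu a ⟨ha, Dd_symm ha.1 hb.1.2⟩ c ⟨hc'.1, Dd_symm hc'.2.1 hb.2⟩ hc'.2.2]
      congr 1; ext x; simp [M]; tauto
    obtain ⟨b', hb'⟩ : (M ∩ Dd D b).Nonempty := (Set.ncard_pos (Set.toFinite _)).1 (by omega)
    have h2 : 1 < M.ncard := (Set.one_lt_ncard (Set.toFinite _)).2 ⟨b, hb, b', hb'.1, fun e => hb'.2.2.1 e.symm⟩
    have h10 : M.ncard ≤ 10 := hk a ha ▸ Set.ncard_le_ncard Set.inter_subset_left (Set.toFinite _)
    omega
  have hfar : ∀ a ∈ T, (T ∩ far D a).ncard = 10 := by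
    intro a ha
    have h1 := (graph_of_nbhd hsub hk hl (fun a ha c hc' => (hm a ha c hc').ge) (j := 6) rfl ha).1
    have h2 := (card_mul_eq (T ∩ Dd D a) (T ∩ far D a) (fun b c => Commute c b) (m := 6) (n := 6)
      (fun c hc' => by rw [← hm a ha c hc']; congr 1; exact common_eq hsub hc'.2)
      (fun b hb => by have := ncard_beyond hsub ha hb (hk b hb.1) (hl a ha b hb); omega)).1
    rw [hk a ha] at h2
    omega
  obtain ⟨d, hdD⟩ : D.Nonempty := (Set.ncard_pos (Set.toFinite _)).1 (by rw [L.card]; norm_num)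
  obtain ⟨a, ha⟩ := good_of_sylow hc hdD (by rw [hG, hCd d hdD]; exact fac_five_23) hX
  have h21 : T.ncard = 21 := by rw [fixD_cases ha, hk a ha, hfar a ha]
  have hgraph : Graph D T 21 10 3 6 :=
    ⟨hsub, h21, hk, hl, fun a ha c hc' hac => hm a ha c ⟨hc', hc'.1, hac⟩⟩
  have hP := (loc a ha).1
  obtain ⟨t, ht, htfar, htnear⟩ := exists_path_ten (T := T ∩ Dd D a) hP.card hc (fun x hx => hx.2.1)
    (fun x hx y hy => ⟨fixD_closed hc hx.1 hy.1, conj_mem_Dd hc hx.2.2.2.symm hy.2⟩) hP.deg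
    (fun x hx y hy z hz hyz hcm => Set.eq_empty_iff_forall_notMem.1
      ((Set.ncard_eq_zero (Set.toFinite _)).1 (hP.lam x hx y hy)) z
      ⟨hz, hz.1.2.1, fun e => hyz e.symm, hcm⟩)
  obtain ⟨c, hcT, hca, c0, c1, c2, c3⟩ := path_seven hc hgraph (fun a ha => (loc a ha).1) ha ht htfar htnear
  have hta : ∀ i, Commute (t i) a := fun i => (ht i).2.2.2.symm
  obtain ⟨Z, -⟩ := exists_symSet hc (X := X) ![t 0, t 1, t 2, t 3, c, a]
    (fun i => by fin_cases i; exacts [(ht 0).1, (ht 1).1, (ht 2).1, (ht 3).1, hcT, ha])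
    (fun i j hij => by
      fin_cases i <;> fin_cases j <;> first
        | exact hta _ | exact c0 | exact c1 | exact c2 | exact htfar _ _ (by decide) | simp at hij)
    (fun i j hij => by
      fin_cases i <;> fin_cases j <;> first
        | exact hca | exact c3 | exact htnear _ _ rfl | simp at hij)
    (Or.inr (by norm_num)) (by rw [h21, ncard_swaps]; decide)
  have htr := fun b (hb : b ∈ T) => symSet_transitive Z ha hb
  refine ⟨⟨Z⟩, hgraph, fun a ha => (loc a ha).1, fun a ha => (loc a ha).2, ?_, ?_⟩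
  · rw [card_eq_orbit_mul _ ha (fun k hk => centralizer_fixD hc hk ha) htr, h21, (loc a ha).2.1]
  · rw [card_eq_orbit_mul _ ha (fun k hk => conj_fixD hc hk ha) (fun b hb => by
      obtain ⟨g, hg, e⟩ := htr b hb
      exact ⟨g, Subgroup.centralizer_le_normalizer (X : Set G) hg, e⟩), h21, (loc a ha).2.2]

/-- Type M(23): conjugacy of subgroups of order five. -/
theorem conj_five23 (hD : Cfsg.IsThreeTranspositionGroup D) (hprim : Cfsg.IsPrimitiveUnderConj D)
    (h : Cfsg.IsOfTypeM23 G D) {X Y : Subgroup G} (hX : Nat.card X = 5) (hY : Nat.card Y = 5) :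
    ∃ g : G, X.map (MulAut.conj g).toMonoidHom = Y := by
  haveI : Fact (Nat.Prime 5) := ⟨by norm_num⟩
  obtain ⟨hCd, hG⟩ := orders23 hD hprim h
  obtain ⟨W, _, _, E, hE, hp, h22, -, hQ⟩ := data23 hD hprim h
  refine conj_of_fix (conjClosed_of_group hD) hprim.1 (fun X hX => ?_) ?_ hX hY
  · obtain ⟨d, hdD⟩ : D.Nonempty := hprim.2.1.imp fun _ h => h.1
    exact good_of_sylow (conjClosed_of_group hD) hdD (by rw [hG, hCd d hdD]; exact fac_five_23) hX
  intro a ha X Y hX hY hXa hYa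
  obtain ⟨Q⟩ := hQ a ha
  have hodd : Odd (Nat.card X) := by rw [hX]; exact ⟨2, rfl⟩
  obtain ⟨y, hy⟩ := conj_five22 hE hp h22
    (by rw [Q.card_down hXa hodd, hX] : Nat.card (Q.down X) = 5)
    (by rw [Q.card_down hYa (by rw [hY]; exact ⟨2, rfl⟩), hY] : Nat.card (Q.down Y) = 5)
  obtain ⟨g, -, hg⟩ := Q.exists_conj hXa hodd (hY.trans hX.symm) hy
  exact ⟨g, hg⟩

/-- Type M(24), order five. -/
theorem five24 (hD : Cfsg.IsThreeTranspositionGroup D) (hprim : Cfsg.IsPrimitiveUnderConj D)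
    (h : Cfsg.IsOfTypeM24 G D) {X : Subgroup G} (hX : Nat.card X = 5) :
    Nonempty (SymSet (fixD D X) 9) ∧
      Nat.card (Subgroup.centralizer (X : Set G)) = 1814400 ∧
      Nat.card (Subgroup.normalizer (X : Set G)) = 7257600 := by
  haveI : Fact (Nat.Prime 5) := ⟨by norm_num⟩
  have hc := conjClosed_of_group hD
  have L := local24 hD hprim h
  obtain ⟨hCd, hG⟩ := orders24 hD hprim h
  obtain ⟨Y, _, _, E, hE, hp, h23, -, hQ⟩ := data24 hD hprim h
  have hodd : Odd (Nat.card X) := by rw [hX]; exact ⟨2, rfl⟩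
  set T := fixD D X
  have hsub : T ⊆ D := fun x hx => hx.1
  have loc : ∀ a ∈ T, Graph D (T ∩ Dd D a) 21 10 3 6 ∧
      (∀ b ∈ T ∩ Dd D a, Graph D (T ∩ Dd D a ∩ Dd D b) 10 3 0 1) ∧
      Nat.card (Subgroup.centralizer (X : Set G) ⊓ Subgroup.centralizer ({a} : Set G) : Subgroup G) = 50400 ∧
      Nat.card (Subgroup.normalizer (X : Set G) ⊓ Subgroup.centralizer ({a} : Set G) : Subgroup G) = 201600 := by
    intro a ha
    obtain ⟨haD, hXa⟩ := mem_fixD.1 ha
    obtain ⟨Q⟩ := hQ a haD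
    have hX' : Nat.card (Q.down X) = 5 := by rw [Q.card_down hXa hodd, hX]
    obtain ⟨-, hg, hg2, -, hC, hN⟩ := five23 hE hp h23 hX'
    exact ⟨Q.graph_fix hXa hodd hg,
      fun b hb => Q.graph_fix_two hXa hodd hb (hg2 _ ((Q.img_bij_fix hXa hodd).mapsTo hb)),
      by rw [Q.card_centralizer hXa hodd, hC], by rw [Q.card_normalizer hXa hodd, hN]⟩
  have hN := fun a ha => (loc a ha).1
  have hN2 := fun a ha => (loc a ha).2.1
  have hk : ∀ a ∈ T, (T ∩ Dd D a).ncard = 21 := fun a ha => (hN a ha).card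
  have hl : ∀ a ∈ T, ∀ b ∈ T ∩ Dd D a, (T ∩ Dd D a ∩ Dd D b).ncard = 10 := fun a ha b hb => (hN a ha).deg b hb
  have hmod : ∀ a ∈ T, ∀ c ∈ T, ¬ Commute a c → (T ∩ Dd D a ∩ Dd D c).ncard % 5 = 0 := fun a ha c hc' hac => by
    rw [common_modEq hc hX ha hc', L.mu a ha.1 c hc'.1 hac]
  have hm : ∀ a ∈ T, ∀ c ∈ T ∩ far D a, (T ∩ Dd D a ∩ Dd D c).ncard = 15 := fun a ha c hc' =>
    fifteen hsub hN hN2 ha hc'.1 hc'.2.2 (hmod a ha c hc'.1 hc'.2.2)
      (common_ne hD.1 hc hsub (fun x hx y hy => fixD_closed hc hx hy) hl hN hN2 hmod ha hc'.1 hc'.2.2)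
  have hfar : ∀ a ∈ T, (T ∩ far D a).ncard = 14 := by
    intro a ha
    have h1 := (graph_of_nbhd hsub hk hl (fun a ha c hc' => (hm a ha c hc').ge) (j := 10) rfl ha).1
    have h2 := (card_mul_eq (T ∩ Dd D a) (T ∩ far D a) (fun b c => Commute c b) (m := 15) (n := 10)
      (fun c hc' => by rw [← hm a ha c hc']; congr 1; exact common_eq hsub hc'.2)
      (fun b hb => by have := ncard_beyond hsub ha hb (hk b hb.1) (hl a ha b hb); omega)).1
    rw [hk a ha] at h2
    omega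
  obtain ⟨d, hdD⟩ : D.Nonempty := (Set.ncard_pos (Set.toFinite _)).1 (by rw [L.card]; norm_num)
  obtain ⟨a, ha⟩ := good_of_sylow hc hdD (by rw [hG, hCd d hdD]; exact fac_five_24) hX
  have h36 : T.ncard = 36 := by rw [fixD_cases ha, hk a ha, hfar a ha]
  have hP := hN a ha
  obtain ⟨b, hb⟩ : (T ∩ Dd D a).Nonempty := (Set.ncard_pos (Set.toFinite _)).1 (by rw [hP.card]; norm_num)
  have hP2 := hN2 a ha b hb
  obtain ⟨t, ht, htfar, htnear⟩ := exists_path_ten (T := T ∩ Dd D a ∩ Dd D b) hP2.card hc (fun x hx => hx.2.1)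
    (fun x hx y hy => ⟨⟨fixD_closed hc hx.1.1 hy.1.1, conj_mem_Dd hc hx.1.2.2.2.symm hy.1.2⟩,
      conj_mem_Dd hc hx.2.2.2.symm hy.2⟩) hP2.deg
    (fun x hx y hy z hz hyz hcm => Set.eq_empty_iff_forall_notMem.1
      ((Set.ncard_eq_zero (Set.toFinite _)).1 (hP2.lam x hx y hy)) z
      ⟨hz, hz.1.2.1, fun e => hyz e.symm, hcm⟩)
  obtain ⟨c, hcP, hcb, c0, c1, c2, c3⟩ := path_seven hc hP (fun x hx => hN2 a ha x hx) hb ht htfar htnear
  have htb : ∀ i, Commute (t i) b := fun i => (ht i).2.2.2.symm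
  obtain ⟨s, hs, hsfar, hsnear⟩ : ∃ s : Fin 6 → G, (∀ i, s i ∈ T ∩ Dd D a) ∧
      (∀ i j : Fin 6, i.val + 1 < j.val → Commute (s i) (s j)) ∧
      ∀ i j : Fin 6, i.val + 1 = j.val → ¬ Commute (s i) (s j) := by
    refine ⟨![t 0, t 1, t 2, t 3, c, b], fun i => ?_, fun i j hij => ?_, fun i j hij => ?_⟩
    · fin_cases i; exacts [(ht 0).1, (ht 1).1, (ht 2).1, (ht 3).1, hcP, hb]
    · fin_cases i <;> fin_cases j <;> first
        | exact htb _ | exact c0 | exact c1 | exact c2 | exact htfar _ _ (by decide) | simp at hij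
    · fin_cases i <;> fin_cases j <;> first
        | exact hcb | exact c3 | exact htnear _ _ rfl | simp at hij
  obtain ⟨e, heT, hea, hecomm, he5⟩ := path_nine hsub hN hN2 hm ha hs hsfar hsnear
  have hsa : ∀ i, Commute (s i) a := fun i => (hs i).2.2.2.symm
  obtain ⟨Z, -⟩ := exists_symSet hc (X := X) ![s 0, s 1, s 2, s 3, s 4, s 5, e, a]
    (fun i => by fin_cases i; exacts [(hs 0).1, (hs 1).1, (hs 2).1, (hs 3).1, (hs 4).1, (hs 5).1, heT, ha])
    (fun i j hij => by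
      fin_cases i <;> fin_cases j <;> first
        | exact hsa _ | exact hecomm _ (by decide) | exact hsfar _ _ (by decide) | simp at hij)
    (fun i j hij => by
      fin_cases i <;> fin_cases j <;> first
        | exact hea | exact he5 | exact hsnear _ _ rfl | simp at hij)
    (Or.inr (by norm_num)) (by rw [h36, ncard_swaps]; decide)
  have htr := fun b (hb : b ∈ T) => symSet_transitive Z ha hb
  refine ⟨⟨Z⟩, ?_, ?_⟩
  · rw [card_eq_orbit_mul _ ha (fun k hk => centralizer_fixD hc hk ha) htr, h36, (loc a ha).2.2.1]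
  · rw [card_eq_orbit_mul _ ha (fun k hk => conj_fixD hc hk ha) (fun b hb => by
      obtain ⟨g, hg, e⟩ := htr b hb
      exact ⟨g, Subgroup.centralizer_le_normalizer (X : Set G) hg, e⟩), h36, (loc a ha).2.2.2]

/-- Type M(24): conjugacy of subgroups of order five. -/
theorem conj_five24 (hD : Cfsg.IsThreeTranspositionGroup D) (hprim : Cfsg.IsPrimitiveUnderConj D)
    (h : Cfsg.IsOfTypeM24 G D) {X Y : Subgroup G} (hX : Nat.card X = 5) (hY : Nat.card Y = 5) :
    ∃ g : G, X.map (MulAut.conj g).toMonoidHom = Y := by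
  haveI : Fact (Nat.Prime 5) := ⟨by norm_num⟩
  obtain ⟨hCd, hG⟩ := orders24 hD hprim h
  obtain ⟨W, _, _, E, hE, hp, h23, -, hQ⟩ := data24 hD hprim h
  refine conj_of_fix (conjClosed_of_group hD) hprim.1 (fun X hX => ?_) ?_ hX hY
  · obtain ⟨d, hdD⟩ : D.Nonempty := hprim.2.1.imp fun _ h => h.1
    exact good_of_sylow (conjClosed_of_group hD) hdD (by rw [hG, hCd d hdD]; exact fac_five_24) hX
  intro a ha X Y hX hY hXa hYa
  obtain ⟨Q⟩ := hQ a ha
  have hodd : Odd (Nat.card X) := by rw [hX]; exact ⟨2, rfl⟩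
  obtain ⟨y, hy⟩ := conj_five23 hE hp h23
    (by rw [Q.card_down hXa hodd, hX] : Nat.card (Q.down X) = 5)
    (by rw [Q.card_down hYa (by rw [hY]; exact ⟨2, rfl⟩), hY] : Nat.card (Q.down Y) = 5)
  obtain ⟨g, -, hg⟩ := Q.exists_conj hXa hodd (hY.trans hX.symm) hy
  exact ⟨g, hg⟩

end CfsgLib.ThreeTrans.Torsion
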